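import Cfsg.Agent.Lib.Fus.U62Red.Linear

/-!
Recognition of `U₆(2)`, the reduction: computations on the three quadratic modules.
-/

set_option autoImplicit false
set_option maxRecDepth 20000

namespace Cfsg.Agent.Fus.U62Red

open Cfsg.Agent.Invol.ExtraEight (app idm mu)

/-- The fixed vectors of a word. -/
def fixL (K : Kind) (w : List ℕ) : List ℕ := (List.range 256).filter fun n => app (K.mat w) n == n

/-- The commutator vectors of a word. -/
def imL (K : Kind) (w : List ℕ) : List ℕ := ((List.range 256).map fun n => app (K.mat w) n ^^^ n).dedup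

/-- The facts on an involution: the fixed space is the orthogonal of the commutator space. -/
def perpCheck (K : Kind) (w : List ℕ) : Bool :=
  let C := fixL K w
  let M := imL K w
  (C.all fun u => M.contains u || C.any fun c => K.bq u c) && (M.all fun i => C.all fun c => !K.bq i c) &&
    M.all fun i => C.contains i

theorem perp_check : ∀ K ∈ [Kind.nat, Kind.redA, Kind.redH], perpCheck K wT = true ∧ perpCheck K wP = true := by
  decide +kernel

theorem fix_cards : ∀ K ∈ [Kind.nat, Kind.redA, Kind.redH],
    (fixL K wT).length = 64 ∧ (fixL K wP).length = if K.gens = mn then 16 else 64 := by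
  decide +kernel

theorem imT_singular : ∀ K ∈ [Kind.nat, Kind.redA, Kind.redH], ((imL K wT).all fun i => !K.q i) = true := by
  decide +kernel

theorem natP_singular : ((fixL .nat wP).all fun c => !Kind.q .nat c) = true := by decide +kernel

theorem redP_nonsingular : ∀ K ∈ [Kind.redA, Kind.redH], ((imL K wP).any fun i => K.q i) = true := by decide +kernel

/-- Words moving the fixed vectors outside the commutator space. -/
def moveT : List (List ℕ) := [[1, 4, 3, 3, 1, 2, 3], [4, 1, 1, 0], [3, 3, 0, 3, 3]]

theorem moveT_comm : ∀ w ∈ moveT, wd mn (w ++ wT) = wd mn (wT ++ w) := by decide +kernel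

theorem moveT_check : ∀ K ∈ [Kind.nat, Kind.redA, Kind.redH], ((fixL K wT).all fun u =>
    (imL K wT).contains u || K.q u || (K.gens == mr && !K.q 64 && (u == 64 || u == 128)) ||
      moveT.any fun w => (app (K.mat w) u != u) && (imL K wT).contains (app (K.mat w) u ^^^ u)) = true := by
  decide +kernel

/-- Words moving the commutator vectors of the second involution to orthogonal ones. -/
def orthP : List (List ℕ) := [[3, 3], [3, 4, 3, 4]]

theorem orthP_comm : ∀ w ∈ orthP, wd mn (w ++ wP) = wd mn (wP ++ w) := by decide +kernel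

theorem orthP_check : ((imL .nat wP).all fun c => c == 0 || orthP.any fun w =>
    (app (Kind.nat.mat w) c != c) && (List.range 256).any fun n =>
      (app (Kind.nat.mat wP) n ^^^ n == c) && !Kind.bq .nat n (app (Kind.nat.mat w) c)) = true := by
  decide +kernel

theorem wE_facts : wd mn (wE ++ wT) = wd mn (wT ++ wE) ∧ wd mn (wE ++ wE ++ wE) = idm := by decide +kernel

theorem eline : ∀ K ∈ [Kind.redA, Kind.redH], app (K.mat wT) 1 = 1 ∧
    K.q (app (K.mat wE) 1 ^^^ 1) = true ∧ K.bq 64 1 = false ∧ K.bq 128 1 = false ∧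
    app (K.mat wE) 64 = 64 ∧ app (K.mat wE) 128 = 128 := by
  decide +kernel

theorem plane_bq : ∀ u ∈ [64, 128], (Kind.bq .redH u 64 || Kind.bq .redH u 128) = true := by decide +kernel

/-- Words stabilising the point of the natural module. -/
def stabN : List (List ℕ) := [[1, 4, 3, 3, 1, 2, 3], [1, 4, 3, 3, 0, 2, 3, 4]]

theorem stabN_fix : ∀ w ∈ stabN, app (Kind.nat.mat w) 5 = 5 := by decide +kernel

theorem stabN_check : ((List.range 256).all fun u =>
    u == 0 || u == 5 || Kind.q .nat u || Kind.bq .nat u 5 || u == app OM 5 || u == app OM (app OM 5) ||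
      stabN.any fun w => let d := app (Kind.nat.mat w) u ^^^ u
        d == app OM 5 || d == app OM (app OM 5) || Kind.q .nat d) = true := by decide +kernel

theorem om_five : app OM 5 ^^^ 5 = app OM (app OM 5) ∧ app OM (app OM 5) ≠ app OM 5 ∧
    app OM (app OM (app OM 5)) = 5 ∧ app OM (app OM 5) ^^^ 5 = app OM 5 ∧ app OM 5 ≠ 0 ∧ app OM 5 ≠ 5 ∧
    app OM (app OM 5) ≠ 0 ∧ app OM (app OM 5) ≠ 5 := by decide +kernel

/-- Representatives of the singular points of the reducible modules, each with a word of order three fixing it and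
a vector orthogonal to it. -/
def repR : List (ℕ × List ℕ × ℕ) :=
  [(5, [4, 1, 0, 0], 1), (65, [0], 4), (129, [0], 4), (193, [0], 4), (64, [0], 4), (128, [0], 4),
    (69, [4, 1, 0, 0], 1), (133, [4, 1, 0, 0], 1)]

theorem repR_words : ∀ r ∈ repR, wd mn (r.2.1 ++ r.2.1 ++ r.2.1) = idm := by decide +kernel

theorem repR_check : ∀ K ∈ [Kind.redA, Kind.redH], ((List.range 256).all fun v =>
    K.q v || v == 0 || orbR.any fun o => repR.any fun r => (app (K.mat o) v == r.1) &&
      (app (K.mat r.2.1) r.1 == r.1) && !K.bq r.1 r.2.2 &&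
      K.q (app (K.mat r.2.1) r.2.2 ^^^ r.2.2)) = true := by
  decide +kernel

theorem orbR_five : ∀ K ∈ [Kind.redA, Kind.redH], ((List.range 256).all fun v =>
    K.q v || v == 0 || K.bq v 64 || K.bq v 128 || orbR.any fun o => app (K.mat o) v == 5) = true := by
  decide +kernel

theorem oddV_fix : ∀ K ∈ [Kind.redA, Kind.redH], (∀ h ∈ oddV, app (K.mat h) 5 = 5) ∧
    ((List.range 256).all fun n => n == 0 || n == 5 || K.bq n 64 || K.bq n 128 ||
      oddV.any fun h => app (K.mat h) n != n) = true := by
  decide +kernel

theorem plane_invariant : ∀ K ∈ [Kind.redA, Kind.redH], ∀ g ∈ K.gens, ∀ u ∈ [64, 128], app g u = u := by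
  decide +kernel

end Cfsg.Agent.Fus.U62Red
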