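import Cfsg.Agent.Lib.Fus.U62Red.Gens
import Mathlib.GroupTheory.Sylow

/-!
Recognition of `U₆(2)`, the reduction: involutions and 2-subgroups of `U₄(2)`.
-/

set_option autoImplicit false

namespace Cfsg.Agent.Fus.U62Red

open Cfsg.Agent.Fus.U62Rec (Q4)
open Cfsg.Agent.Invol.ExtraEight (app idm mu app_idm app_lt app_mu app_map app_zero app_xor idm_lt)

private theorem two_fact : Fact (Nat.Prime 2) := ⟨Nat.prime_two⟩

theorem syl_commute {g : Q4} (hg : g ∈ syl) : g * tT = tT * g := by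
  obtain ⟨w, hw, rfl⟩ := mem_syl.1 hg
  rw [tT, el_comm_iff]
  have h := (List.all_eq_true.1 syl_center.1) (wd mn w) (syl_words ▸ List.mem_map_of_mem hw)
  exact beq_iff_eq.1 h

theorem tT_syl : tT ∈ syl := by
  have h := syl_center.2.1
  rw [List.contains_iff_mem, ← syl_words, List.mem_map] at h
  obtain ⟨w, hw, e⟩ := h
  exact mem_syl.2 ⟨w, hw, el_eq_iff.2 e⟩

theorem tT_sq : tT * tT = 1 := by
  rw [tT, ← el_append, el_eq_one_iff]; decide +kernel

theorem tT_ne : tT ≠ 1 := fun e => by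
  rw [tT, el_eq_one_iff] at e
  exact absurd e (by decide +kernel)

theorem tP_sq : tP * tP = 1 := by
  rw [tP, ← el_append, el_eq_one_iff]; decide +kernel

/-- A 2-subgroup goes into the Sylow subgroup. -/
theorem exists_conj_syl (P : Subgroup Q4) (hP : IsPGroup 2 ↥P) : ∃ g : Q4, ∀ p ∈ P, g * p * g⁻¹ ∈ syl := by
  haveI := two_fact
  have hS : IsPGroup 2 ↥syl := IsPGroup.of_card (n := 6) (by rw [card_syl]; norm_num)
  obtain ⟨S, hSle⟩ := hS.exists_le_sylow
  obtain ⟨T, hT⟩ := hP.exists_le_sylow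
  have hSe : (S : Subgroup Q4) = syl := by
    refine (Subgroup.eq_of_le_of_card_ge hSle ?_).symm
    rw [Sylow.card_eq_multiplicity, card_Q4, card_syl]
    refine Nat.le_of_dvd (by norm_num) ?_
    have h6 : Nat.factorization 25920 2 = 6 := by
      rw [show (25920 : ℕ) = 2 ^ 6 * 405 by norm_num, Nat.factorization_mul (by norm_num) (by norm_num),
        Finsupp.add_apply, Nat.Prime.factorization_pow Nat.prime_two, Finsupp.single_eq_same,
        Nat.factorization_eq_zero_of_not_dvd (show ¬ 2 ∣ 405 by norm_num)]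
    rw [h6]; norm_num
  obtain ⟨g, hg⟩ := MulAction.exists_smul_eq Q4 T S
  refine ⟨g, fun p hp => ?_⟩
  have h : g * p * g⁻¹ ∈ ((g • T : Sylow 2 Q4) : Subgroup Q4) := by
    rw [Sylow.coe_subgroup_smul]
    exact ⟨p, hT hp, rfl⟩
  rwa [hg, hSe] at h

/-- The two classes of involutions. -/
theorem involution_class {t : Q4} (h2 : t * t = 1) (h1 : t ≠ 1) :
    ∃ g : Q4, g * t * g⁻¹ = tT ∨ g * t * g⁻¹ = tP := by
  haveI := two_fact
  have hp : IsPGroup 2 ↥(Subgroup.zpowers t) :=
    IsPGroup.of_card (n := 1) (by rw [Nat.card_zpowers, orderOf_eq_prime (by rw [pow_two]; exact h2) h1]; rfl)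
  obtain ⟨g, hg⟩ := exists_conj_syl _ hp
  obtain ⟨w, hw, e⟩ := mem_syl.1 (hg t (Subgroup.mem_zpowers t))
  have hww : el w * el w = 1 := by rw [e]; calc _ = g * (t * t) * g⁻¹ := by group
                                             _ = 1 := by rw [h2]; group
  have hne : ¬ Kind.nat.mat w = idm := fun h => h1 (by
    rw [← el_eq_one_iff, e, conj_eq_one_iff] at h; exact h)
  have hl := List.all_eq_true.1 inv_list (wd mn w) (List.mem_filter.2 ⟨syl_words ▸ List.mem_map_of_mem hw, by
    rw [← el_append, el_eq_one_iff, mat_append] at hww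
    simpa [Kind.mat, Kind.gens] using ⟨hne, hww⟩⟩)
  rw [List.contains_iff_mem, List.mem_map] at hl
  obtain ⟨x, hx, hxe⟩ := hl
  have hxw : el x.1 = el w := el_eq_iff.2 hxe
  have hc : el x.2.1 * el x.1 = el (cond x.2.2 wP wT) * el x.2.1 := by
    rw [← el_append, ← el_append]; exact el_eq_iff.2 (inv_conj x hx).1
  refine ⟨el x.2.1 * g, ?_⟩
  have hres : el x.2.1 * g * t * (el x.2.1 * g)⁻¹ = el (cond x.2.2 wP wT) := by
    calc _ = el x.2.1 * (g * t * g⁻¹) * (el x.2.1)⁻¹ := by group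
      _ = _ := by rw [← e, ← hxw, hc]; group
  rw [hres]
  cases x.2.2
  · exact Or.inl rfl
  · exact Or.inr rfl

/-- A subgroup of order 64 has more than one nontrivial commutator. -/
theorem sylow_derived {P : Subgroup Q4} (hP : Nat.card ↥P = 64) {c : Q4}
    (h : ∀ a ∈ P, ∀ b ∈ P, a * b * a⁻¹ * b⁻¹ = 1 ∨ a * b * a⁻¹ * b⁻¹ = c) : False := by
  haveI := two_fact
  obtain ⟨g, hg⟩ := exists_conj_syl P (IsPGroup.of_card (n := 6) (by rw [hP]; norm_num))
  have heq : P.map (MulAut.conj g).toMonoidHom = syl := by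
    refine Subgroup.eq_of_le_of_card_ge ?_ ?_
    · rintro _ ⟨p, hp, rfl⟩; exact hg p hp
    · rw [card_syl, Subgroup.card_map_of_injective (MulAut.conj g).injective, hP]
  have key : ∀ a ∈ syl, ∀ b ∈ syl, a * b * a⁻¹ * b⁻¹ = 1 ∨ a * b * a⁻¹ * b⁻¹ = g * c * g⁻¹ := by
    intro a ha b hb
    rw [← heq] at ha hb
    obtain ⟨a, ha, rfl⟩ := ha
    obtain ⟨b, hb, rfl⟩ := hb
    have e : ∀ x, (MulAut.conj g).toMonoidHom x = g * x * g⁻¹ := fun x => rfl
    rw [← map_inv, ← map_inv, ← map_mul, ← map_mul, ← map_mul, e]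
    rcases h a ha b hb with h' | h' <;> rw [h']
    · left; group
    · right; rfl
  obtain ⟨p, hp, r, hr, hne, hp1, hr1⟩ := two_commutators
  have hc : ∀ x ∈ commPairs, el (x.1 ++ x.2.1 ++ x.2.2.1 ++ x.2.2.2) = 1 ∨
      el (x.1 ++ x.2.1 ++ x.2.2.1 ++ x.2.2.2) = g * c * g⁻¹ := fun x hx => by
    obtain ⟨h1, h2, h3, h4⟩ := comm_inverse x hx
    have i1 : el x.2.2.1 = (el x.1)⁻¹ :=
      eq_inv_of_mul_eq_one_right (by rw [← el_append]; exact el_eq_one_iff.2 h1)
    have i2 : el x.2.2.2 = (el x.2.1)⁻¹ :=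
      eq_inv_of_mul_eq_one_right (by rw [← el_append]; exact el_eq_one_iff.2 h2)
    rw [el_append, el_append, el_append, i1, i2]
    exact key _ ⟨_, List.contains_iff_mem.1 h3, rfl⟩ _ ⟨_, List.contains_iff_mem.1 h4, rfl⟩
  refine hne (el_eq_iff.1 (((hc p hp).resolve_left fun e => hp1 (el_eq_one_iff.1 e)).trans
    ((hc r hr).resolve_left fun e => hr1 (el_eq_one_iff.1 e)).symm))

/-- There is no elementary abelian subgroup of order 32. -/
theorem no_elem32 {P : Subgroup Q4} (hP : Nat.card ↥P = 32) (h : ∀ x ∈ P, x * x = 1) : False := by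
  classical
  haveI := two_fact
  haveI := Fintype.ofFinite Q4
  obtain ⟨g, hg⟩ := exists_conj_syl P (IsPGroup.of_card (n := 5) (by rw [hP]; norm_num))
  let L := sylWords.filter fun w => mu (wd mn w) (wd mn w) == idm
  have hsub : ((P : Set Q4).image fun p => g * p * g⁻¹) ⊆ ((L.map el).toFinset : Set Q4) := by
    rintro _ ⟨p, hp, rfl⟩
    obtain ⟨w, hw, e⟩ := mem_syl.1 (hg p hp)
    refine List.mem_toFinset.2 (List.mem_map.2 ⟨w, List.mem_filter.2 ⟨hw, ?_⟩, e⟩)
    have hww : el w * el w = 1 := by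
      rw [e]
      calc g * p * g⁻¹ * (g * p * g⁻¹) = g * (p * p) * g⁻¹ := by group
        _ = 1 := by rw [h p hp]; group
    rw [← el_append, el_eq_one_iff, mat_append] at hww
    exact beq_iff_eq.2 hww
  have h1 := Set.ncard_le_ncard hsub
  rw [Set.ncard_image_of_injective _ (fun a b e => mul_left_cancel (mul_right_cancel e)),
    Set.ncard_coe_finset, ← Nat.card_coe_set_eq] at h1
  have h2 := h1.trans (List.toFinset_card_le _)
  rw [List.length_map] at h2
  have hL : L.length = (sylMats.filter fun a => mu a a == idm).length := by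
    rw [← syl_words, List.filter_map, List.length_map]; rfl
  rw [hL] at h2
  have h3 : (32 : ℕ) ≤ _ := hP ▸ h2
  exact absurd h3 (not_le.2 few_involutions)

/-- A 2-group centralising the odd part of the centraliser of the transvection is abelian. -/
theorem odd_centralised {P : Subgroup Q4} (hP : IsPGroup 2 ↥P) (hC : ∀ p ∈ P, p * tT = tT * p)
    (h : ∀ p ∈ P, ∀ k : Q4, k * tT = tT * k → k * k * k = 1 → p * k = k * p) {a b : Q4} (ha : a ∈ P) (hb : b ∈ P) :
    a * b = b * a := by
  haveI := two_fact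
  let C : Subgroup Q4 := Subgroup.centralizer ({tT} : Set Q4)
  have hPC : P ≤ C := fun p hp => Subgroup.mem_centralizer_singleton_iff.2 (hC p hp)
  have hSC : syl ≤ C := fun p hp => Subgroup.mem_centralizer_singleton_iff.2 (syl_commute hp)
  obtain ⟨T, hT⟩ := (hP.of_equiv (Subgroup.subgroupOfEquivOfLe hPC).symm).exists_le_sylow
  have hS : IsPGroup 2 ↥(syl.subgroupOf C) :=
    (IsPGroup.of_card (n := 6) (by rw [card_syl]; norm_num : Nat.card ↥syl = 2 ^ 6)).of_equiv
      (Subgroup.subgroupOfEquivOfLe hSC).symm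
  obtain ⟨S, hS'⟩ := hS.exists_le_sylow
  have hSe : ((S : Subgroup ↥C).map C.subtype) = syl := by
    refine (Subgroup.eq_of_le_of_card_ge ?_ ?_).symm
    · intro p hp
      exact ⟨⟨p, hSC hp⟩, hS' hp, rfl⟩
    · obtain ⟨n, hn⟩ := IsPGroup.iff_card.1 (S.isPGroup'.map C.subtype)
      have hd := Subgroup.card_subgroup_dvd_card ((S : Subgroup ↥C).map C.subtype)
      rw [hn, card_Q4] at hd
      rw [hn, card_syl]
      have h6 : n ≤ 6 := by
        by_contra h6
        have := (pow_dvd_pow 2 (by omega : 7 ≤ n)).trans hd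
        norm_num at this
      calc 2 ^ n ≤ 2 ^ 6 := Nat.pow_le_pow_right (by norm_num) h6
        _ = 64 := by norm_num
  obtain ⟨g, hg⟩ := MulAction.exists_smul_eq ↥C T S
  have hmem : ∀ p ∈ P, (g : Q4) * p * (g : Q4)⁻¹ ∈ syl := fun p hp => by
    rw [← hSe, ← hg, Sylow.coe_subgroup_smul]
    exact ⟨g * ⟨p, hPC hp⟩ * g⁻¹, ⟨⟨p, hPC hp⟩, hT hp, rfl⟩, rfl⟩
  have hgt : (g : Q4) * tT = tT * g := Subgroup.mem_centralizer_singleton_iff.1 g.2
  have hword : ∀ p ∈ P, ∃ w ∈ sylMats.filter (fun a => oddT.all fun h => mu a (wd mn h) == mu (wd mn h) a),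
      ∃ v, el v = (g : Q4) * p * (g : Q4)⁻¹ ∧ wd mn v = w := by
    intro p hp
    obtain ⟨v, hv, e⟩ := mem_syl.1 (hmem p hp)
    refine ⟨wd mn v, List.mem_filter.2 ⟨syl_words ▸ List.mem_map_of_mem hv, ?_⟩, v, e, rfl⟩
    refine List.all_eq_true.2 fun k hk => beq_iff_eq.2 (el_comm_iff.1 ?_)
    obtain ⟨k1, k2⟩ := oddT_facts k hk
    have hk1 : el k * tT = tT * el k := by
      rw [tT, ← el_append, ← el_append]; exact el_eq_iff.2 k1
    have hk2 : el k * el k * el k = 1 := by
      rw [← el_append, ← el_append]; exact el_eq_one_iff.2 k2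
    have := h p hp ((g : Q4)⁻¹ * el k * g) ?_ ?_
    · rw [e]
      calc (g : Q4) * p * (g : Q4)⁻¹ * el k = g * (p * ((g : Q4)⁻¹ * el k * g)) * (g : Q4)⁻¹ := by group
        _ = _ := by rw [this]; group
    · calc (g : Q4)⁻¹ * el k * g * tT = (g : Q4)⁻¹ * (el k * (g * tT)) := by group
        _ = (g : Q4)⁻¹ * ((el k * tT) * g) := by rw [hgt]; group
        _ = (g : Q4)⁻¹ * (tT * g) * ((g : Q4)⁻¹ * el k * g) := by rw [hk1]; group
        _ = _ := by rw [← hgt]; group
    · calc (g : Q4)⁻¹ * el k * g * ((g : Q4)⁻¹ * el k * g) * ((g : Q4)⁻¹ * el k * g)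
          = (g : Q4)⁻¹ * (el k * el k * el k) * g := by group
        _ = 1 := by rw [hk2]; group
  obtain ⟨wa, hwa, va, ea, rfl⟩ := hword a ha
  obtain ⟨wb, hwb, vb, eb, rfl⟩ := hword b hb
  have hc := List.all_eq_true.1 (List.all_eq_true.1 odd_centralizer _ hwa) _ hwb
  have hc' : el va * el vb = el vb * el va := el_comm_iff.2 (beq_iff_eq.1 hc)
  rw [ea, eb] at hc'
  calc a * b = (g : Q4)⁻¹ * ((g : Q4) * a * (g : Q4)⁻¹ * ((g : Q4) * b * (g : Q4)⁻¹)) * g := by group
    _ = _ := by rw [hc']; group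

/-- Only the identity centralises `oddV` among the elements of order dividing four. -/
theorem oddV_centralised {g : Q4} (h4 : g * g * (g * g) = 1) (h : ∀ k ∈ oddV, g * el k = el k * g) : g = 1 := by
  obtain ⟨w, rfl⟩ := exists_word g
  have hlt : app (Kind.nat.mat w) 1 < 256 := app_mat_lt _ w 1
  have hB : ∀ bw ∈ oddVBasis, ∀ i ∈ bw, i < 2 := by decide
  have hcomm : ∀ bw ∈ oddVBasis, el w * el (bw.flatMap fun i => oddV.getD i []) =
      el (bw.flatMap fun i => oddV.getD i []) * el w := by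
    intro bw hbw
    have hi := hB bw hbw
    clear hbw
    induction bw with
    | nil => show el w * el [] = el [] * el w; rw [el_nil, mul_one, one_mul]
    | cons i bw ih =>
      rw [List.flatMap_cons, el_append]
      have hk : oddV.getD i [] ∈ oddV := by
        rcases i with _ | _ | i
        · exact List.mem_cons_self ..
        · exact List.mem_cons_of_mem _ (List.mem_cons_self ..)
        · exact absurd (hi _ (List.mem_cons_self ..)) (by omega)
      rw [← mul_assoc, h _ hk, mul_assoc, ih fun j hj => hi j (List.mem_cons_of_mem _ hj), mul_assoc]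
  have hcand : centCand (app (Kind.nat.mat w) 1) = Kind.nat.mat w := by
    have e : (oddVBasis.map fun bw => app (wd mn (bw.flatMap fun i => oddV.getD i [])) (app (Kind.nat.mat w) 1)) =
        (oddVBasis.map fun bw => app (wd mn (bw.flatMap fun i => oddV.getD i [])) 1).map (app (Kind.nat.mat w)) := by
      rw [List.map_map]
      refine List.map_congr_left fun bw hbw => ?_
      have hv := el_comm_iff.1 (hcomm bw hbw)
      show app (Kind.nat.mat _) _ = app (Kind.nat.mat w) (app (Kind.nat.mat _) 1)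
      rw [← app_mu _ (mat_lt _ w), ← app_mu _ (mat_lt _ (bw.flatMap fun i => oddV.getD i [])), hv]
    have hb : (oddVBits.map fun u => app (Kind.nat.mat w) (app (oddVBasis.map fun bw =>
        app (wd mn (bw.flatMap fun i => oddV.getD i [])) 1) u)) = idm.map (app (Kind.nat.mat w)) := by
      rw [← oddV_bits, List.map_map]; rfl
    refine Eq.trans ?_ (hb.trans (map_app_idm (mat_length .nat w)))
    rw [centCand, e]
    refine List.map_congr_left fun u _ => ?_
    refine app_map (app (Kind.nat.mat w)) (app_zero _) (fun a _ b _ => app_xor _ a b) ?_ u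
    intro x hx
    obtain ⟨bw, -, rfl⟩ := List.mem_map.1 hx
    exact app_mat_lt .nat _ _
  have hdec := List.all_eq_true.1 oddV_centralizer _ (List.mem_range.2 hlt)
  rw [hcand, Bool.or_eq_true, beq_iff_eq] at hdec
  refine el_eq_one_iff.2 (hdec.resolve_right fun hne => ?_)
  rw [Bool.not_eq_true', ← Bool.not_eq_true] at hne
  refine hne ?_
  simp only [Bool.and_eq_true, List.all_eq_true, beq_iff_eq]
  refine ⟨⟨⟨fun k hk => el_comm_iff.1 (h k hk), ?_⟩, ?_⟩, ?_⟩
  · exact mat_OM w
  · rw [← el_append, ← el_append, el_eq_one_iff, mat_append, mat_append] at h4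
    exact h4
  · intro u hu
    exact mat_q .nat w (idm_lt u hu)

end Cfsg.Agent.Fus.U62Red
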