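import Cfsg.Agent.Lib.Fus.U62Red.Reducible
import Cfsg.Agent.Lib.Grp.LargeExtraImage
import Cfsg.Agent.Lib.Invol.ZStar
import Cfsg.Prelude.Def_CaseTheorems

/-!
Recognition of `U₆(2)`, the reduction: a centraliser of shape `2¹⁺⁸U₄(2)` has the hypotheses of the
recognition, or its involution is isolated.
-/

set_option autoImplicit false
set_option linter.unusedSectionVars false
set_option linter.style.haveILetI false

namespace Cfsg.Agent.Fus.U62Red

open Cfsg
open Cfsg.Agent.Fus.U62Rec (Q4 CC E4 Setting)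

variable {G : Type*} [Group G] [Finite G]

/-- An isolated involution: the centraliser covers the group modulo the odd core. -/
theorem sup_oddCore_of_isolated {z : G} (hiso : IsIsolatedInvolution z) : CC z ⊔ oddCore G = ⊤ := by
  haveI : (oddCore G).Normal := Grp.pPrimeCore_isNormal
  refine eq_top_iff.2 fun g _ => ?_
  obtain ⟨k, -, -, hk, hkz⟩ := Invol.exists_odd_inverted hiso g
  have hkO : k ∈ oddCore G := by
    refine (Subgroup.zpowers_le.2 ?_) hkz
    have h1 := ZStar.commutator_mem_oddCore _ G rfl z hiso g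
    rwa [show z * g * z⁻¹ * g⁻¹ = z * (g * z * g⁻¹) by
      rw [Invol.inv_of_orderOf_two hiso.1]; group] at h1
  have hc : k⁻¹ * g ∈ CC z := Subgroup.mem_centralizer_singleton_iff.2 (mul_inv_eq_iff_eq_mul.1 (by
    calc k⁻¹ * g * z * (k⁻¹ * g)⁻¹ = k⁻¹ * (g * z * g⁻¹) * k := by group
      _ = z := by rw [← hk]; group))
  rw [show g = k * (k⁻¹ * g) by group]
  exact mul_mem (Subgroup.mem_sup_right hkO) (Subgroup.mem_sup_left hc)

/-- The frame of a centraliser. -/
theorem exists_frame (z : G) (hz : orderOf z = 2)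
    (hJ : IsExtraspecial 2 ↥(pCore 2 ↥(CC z))) (hJc : Nat.card ↥(pCore 2 ↥(CC z)) = 2 ^ 9)
    (hCJ : Subgroup.centralizer ((pCore 2 ↥(CC z)) : Set ↥(CC z)) ≤ pCore 2 ↥(CC z))
    (π : ↥(CC z) →* Q4) (hsurj : Function.Surjective π) (hker : π.ker = pCore 2 ↥(CC z)) :
    ∃ F : Frame G, F.z = z := by
  let Q : G → Subgroup G := fun x => (pCore 2 ↥(CC x)).map (CC x).subtype
  have hQ : ∀ x : G, Q x = (pCore 2 ↥(CC x)).map (CC x).subtype := fun _ => rfl
  have hinj := Subgroup.equivMapOfInjective (pCore 2 ↥(CC z)) (CC z).subtype (Subgroup.subtype_injective _)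
  have hE : IsExtraspecial 2 ↥(Q z) := Grp.ExtraCentSimple.isExtraspecial_equiv hinj hJ
  have hzQ : z ∈ Q z := Spor.ExtraPair.mem_core_self hQ (by rw [← pow_two, ← hz, pow_orderOf_eq_one])
  have hC : Subgroup.centralizer (Q z : Set G) ≤ Q z := fun c hc => by
    have hc' := Subgroup.mem_centralizer_iff.1 hc
    have hcz : c ∈ CC z := Subgroup.mem_centralizer_singleton_iff.2 (hc' z hzQ).symm
    exact ⟨⟨c, hcz⟩, hCJ (Subgroup.mem_centralizer_iff.2 fun q hq =>
      Subtype.ext (hc' q ⟨q, hq, rfl⟩)), rfl⟩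
  refine ⟨⟨z, Q z, Spor.ExtraPair.ext_core hQ hz hE hC, ?_, π, hsurj, fun u => ?_⟩, rfl⟩
  · rw [← Nat.card_congr hinj.toEquiv, hJc]; norm_num
  · rw [← MonoidHom.mem_ker, hker]
    exact ⟨fun h => ⟨u, h, rfl⟩, fun ⟨w, hw, e⟩ => (Subtype.ext e : w = u) ▸ hw⟩

namespace Frame

variable {F : Frame G}

/-- The recognition hypotheses in the natural case. -/
noncomputable def setting (C : F.Chart .nat) (p₀ : F.Pair) : Setting F.z where
  π := F.π
  two := orderOf_eq_prime (by rw [pow_two]; exact F.ext.zz) F.ext.ne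
  surj := F.surj
  card_ker := by
    rw [← F.card_J]
    exact Nat.card_congr
      { toFun := fun u => ⟨_, (F.ker u.1).1 u.2⟩
        invFun := fun x => ⟨⟨x, F.J_le x.2⟩, (F.ker _).2 x.2⟩
        left_inv := fun _ => rfl
        right_inv := fun _ => rfl }
  ker_centre := fun g hg hc => F.ext.cen g ((F.ker g).1 hg) fun q hq =>
    (congrArg Subtype.val (hc ⟨q, F.J_le hq⟩ ((F.ker _).2 hq)).eq).symm
  mem := fun u hu hne => by
    obtain ⟨p, rfl⟩ := pair_of_mem hu hne
    obtain ⟨v, hv⟩ := F.nat_image C p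
    rw [p.π_move] at hv
    have h := E4_conj_mem (F.π v)⁻¹ tT_mem
    rwa [show tT = el wT from rfl, ← hv, inv_inv,
      show (F.π v)⁻¹ * (F.π v * F.π p.sC * (F.π v)⁻¹) * F.π v = F.π p.sC by group] at h
  fibre := fun e he => F.nat_fibre C p₀ he
  comm := fun u v hu hv hun hvn h => by
    obtain ⟨a, rfl⟩ := pair_of_mem hu hun
    obtain ⟨b, rfl⟩ := pair_of_mem hv hvn
    exact Subtype.ext (F.nat_comm C a b h)

end Frame

/-- A centraliser of shape `2¹⁺⁸U₄(2)` gives the hypotheses of the recognition, or its involution is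
isolated. -/
theorem reduction (z : G) (hz : orderOf z = 2)
    (hJ : IsExtraspecial 2 ↥(pCore 2 ↥(CC z))) (hJc : Nat.card ↥(pCore 2 ↥(CC z)) = 2 ^ 9)
    (hCJ : Subgroup.centralizer ((pCore 2 ↥(CC z)) : Set ↥(CC z)) ≤ pCore 2 ↥(CC z))
    (π : ↥(CC z) →* Q4) (hsurj : Function.Surjective π) (hker : π.ker = pCore 2 ↥(CC z)) :
    Nonempty (Setting z) ∨ CC z ⊔ oddCore G = ⊤ := by
  obtain ⟨F, rfl⟩ := exists_frame z hz hJ hJc hCJ π hsurj hker
  by_cases hp : Nonempty F.Pair
  · obtain ⟨p⟩ := hp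
    obtain ⟨K, ⟨C⟩⟩ := F.exists_chart
    rcases K with _ | _ | _
    · exact Or.inl ⟨F.setting C p⟩
    · exact (F.red_isolated C (Or.inl rfl) p).elim
    · exact (F.red_isolated C (Or.inr rfl) p).elim
  · refine Or.inr (sup_oddCore_of_isolated ⟨hz, fun g hg => ?_⟩)
    by_contra hne
    exact hp ⟨⟨g, hg.eq.symm, hne⟩⟩

end Cfsg.Agent.Fus.U62Red
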