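import Cfsg.Agent.Lib.Fus.U62Red.AutLinear
import Cfsg.Agent.Lib.Fus.U62Red.FactsAct

/-!
Recognition of `U₆(2)`, the reduction for a centraliser with a larger quotient: computations for the conjugates
inside the extraspecial group.
-/

set_option autoImplicit false
set_option maxRecDepth 100000
set_option maxHeartbeats 4000000

namespace Cfsg.Agent.Fus.U62Red

open Cfsg.Agent.Invol.ExtraEight (app idm mu)

/-- The span of a list of vectors. -/
def spanL (l : List ℕ) : List ℕ := l.foldl (fun acc a => acc ++ acc.map fun b => b ^^^ a) [0]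

/-- The line of the representative point. -/
def lineN : List ℕ := [0, 5, 10, 15]

theorem orbW_fix : ∀ w ∈ orbW, app (Kind.nat.mat w) 5 = 5 := by decide +kernel

theorem orb_span : ((List.range 256).all fun x => Kind.q .nat x || Kind.bq .nat x 5 || lineN.contains x ||
    (let S := spanL (5 :: x :: orbW.map fun w => app (Kind.nat.mat w) x)
     S.any (Kind.q .nat) || stableT.any fun T => T.all S.contains)) = true := by decide +kernel

theorem stableT_perp : ∀ T ∈ stableT, T.Nodup ∧ T.length = 16 ∧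
    ((List.range 256).all fun n => T.contains n || T.any fun t => Kind.bq .nat n t) = true := by decide +kernel

/-- The matrix with given images of a basis. -/
def fromImg (Pi img : List ℕ) : List ℕ := mu img Pi

/-- A map preserves the natural form. -/
def presQ (g : List ℕ) : Bool := (List.range 256).all fun v => Kind.q .nat (app g v) == Kind.q .nat v

theorem chain_line : ∀ a ∈ lineN, ∀ b ∈ lineN, ∀ c ∈ lineN,
    (!presQ (fromImg [64, 128, 65, 130, 4, 8, 16, 32]
      [5, 10, 16 ^^^ a, app OM (16 ^^^ a), 64 ^^^ b, app OM (64 ^^^ b), 1 ^^^ c, app OM (1 ^^^ c)]) ||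
    [idm, wd mn wT].contains (fromImg [64, 128, 65, 130, 4, 8, 16, 32]
      [5, 10, 16 ^^^ a, app OM (16 ^^^ a), 64 ^^^ b, app OM (64 ^^^ b), 1 ^^^ c, app OM (1 ^^^ c)])) = true := by
  decide +kernel

theorem basis_line : mu [5, 10, 16, 32, 64, 128, 1, 2] [64, 128, 65, 130, 4, 8, 16, 32] = idm ∧
    ∀ v ∈ [16, 64, 1], Kind.bq .nat v 5 = false := by decide +kernel

/-- The images of the basis of a stable subspace. -/
def imgT (d : List ℕ × List ℕ × List ℕ × List (List ℕ × List ℕ)) (a b c : ℕ) : List ℕ :=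
  [5, 10, d.2.1.getD 2 0 ^^^ a, app OM (d.2.1.getD 2 0 ^^^ a), d.2.1.getD 4 0 ^^^ b,
    app OM (d.2.1.getD 4 0 ^^^ b), 1 ^^^ c, app OM (1 ^^^ c)]

theorem move_cover : stableT = moveData.map (fun d => d.1) := by decide +kernel

theorem move_basis : ∀ d ∈ moveData, mu d.2.1 d.2.2.1 = idm ∧
    d.2.1 = [5, 10, d.2.1.getD 2 0, app OM (d.2.1.getD 2 0), d.2.1.getD 4 0, app OM (d.2.1.getD 4 0), 1, 2] ∧
    (∀ x ∈ d.2.1, x < 256) ∧ d.1.contains (d.2.1.getD 2 0) = true ∧ d.1.contains (d.2.1.getD 4 0) = true ∧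
    d.1.contains 10 = true ∧ Kind.bq .nat 1 5 = false ∧
    d.1.all (spanL [5, 10, d.2.1.getD 2 0, d.2.1.getD 4 0]).contains = true := by decide +kernel

theorem move_candidates : ∀ d ∈ moveData, ∀ a ∈ [0, 5], ∀ b ∈ [0, 5], ∀ c ∈ d.1,
    ((a == 0 && b == 0) || !presQ (fromImg d.2.2.1 (imgT d a b c)) ||
      d.2.2.2.any fun p => code (wd mn p.1) == code (fromImg d.2.2.1 (imgT d a b c))) = true := by
  decide +kernel

theorem move_words : ∀ d ∈ moveData, ∀ p ∈ d.2.2.2, app (Kind.nat.mat p.2) 5 = 5 ∧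
    (d.1.all fun t => app (Kind.nat.mat (p.2 ++ p.1)) t == app (Kind.nat.mat (p.1 ++ p.2)) t) = true ∧
    code (wd mn (p.2 ++ p.1)) ≠ code (wd mn (p.1 ++ p.2)) := by decide +kernel

/-- The representatives of the singular points of a reducible module. -/
def repK : Kind → List ℕ
  | .redH => repH
  | _ => repA

/-- Words moving the singular points to the representatives. -/
def orbK : Kind → List (List ℕ)
  | .redH => orbH
  | _ => orbA

/-- Words fixing the representatives. -/
def stabK : Kind → List (ℕ × List (List ℕ))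
  | .redH => stabH
  | _ => stabA

theorem red_orbit : ∀ K ∈ [Kind.redA, Kind.redH], ((List.range 256).all fun v => v == 0 || K.q v ||
    (orbK K).any fun o => (repK K).contains (app (K.mat o) v)) = true := by decide +kernel

theorem red_allowed : ∀ K ∈ [Kind.redA, Kind.redH], (repK K = (stabK K).map Prod.fst) ∧ ∀ p ∈ stabK K,
    (p.2.all fun w => app (K.mat w) p.1 == p.1) = true ∧
    ((List.range 256).all fun x => K.q x || K.bq x p.1 || x % 64 == 0 || x % 64 == p.1 % 64 ||
      p.2.any fun w => K.bq x (app (K.mat w) x)) = true := by decide +kernel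

theorem im_large : ∀ K ∈ [Kind.redA, Kind.redH], ∀ wt ∈ [wT, wP], ∀ n < 256,
    ∃ v ∈ List.range 256, app (K.mat wt) v ^^^ v ≠ 0 ∧ app (K.mat wt) v ^^^ v ≠ n := by decide +kernel

theorem plane_part : ∀ K ∈ [Kind.redA, Kind.redH], ∀ s < 256, ¬ s < 64 → ∀ v < 64,
    ∃ p ∈ [0, 64, 128, 192], K.bq (v ^^^ p) s = false := by decide +kernel

theorem plane_pairing : ∀ K ∈ [Kind.redA, Kind.redH], ∀ x < 256, ¬ x < 64 →
    ∃ p ∈ [64, 128], K.bq x p = true ∧ ∀ s < 64, K.bq p s = false := by decide +kernel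

end Cfsg.Agent.Fus.U62Red
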