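import Cfsg.Agent.Lib.Fus.U62Red.Natural

/-!
Recognition of `U₆(2)`, the reduction: in the reducible case `z` is isolated in its centraliser.
-/

set_option autoImplicit false
set_option linter.unusedSectionVars false

namespace Cfsg.Agent.Fus.U62Red

open Cfsg.Agent.Fus.U62Rec (Q4 CC)
open Cfsg.Agent.Invol.ExtraEight (app app_lt app_xor app_zero)

/-- A reducible kind. -/
def Kind.IsRed (K : Kind) : Prop := K = .redA ∨ K = .redH

theorem Kind.IsRed.mem {K : Kind} (h : K.IsRed) : K ∈ [Kind.redA, Kind.redH] := by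
  rcases h with rfl | rfl <;> simp

theorem plane_facts : ∀ K ∈ [Kind.redA, Kind.redH], K.bq 64 128 = true ∧
    (∀ u ∈ [0, 64, 128, 192], u ≠ 0 → (K.bq u 64 || K.bq u 128) = true) := by decide +kernel

theorem plane_fixed_mat {K : Kind} (hK : K.IsRed) (w : List ℕ) {u : ℕ} (hu : u = 64 ∨ u = 128) :
    app (K.mat w) u = u := by
  induction w with
  | nil => exact app_mat_nil K (by omega)
  | cons i w ih =>
    rw [app_mat_cons, ih]
    rcases List.mem_cons.1 (getD_mem K.gens i) with e | e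
    · rw [e]; exact Cfsg.Agent.Invol.ExtraEight.app_idm u (by omega)
    · exact plane_invariant K hK.mem _ e u (by simpa using hu)

theorem plane_all {K : Kind} (hK : K.IsRed) (w : List ℕ) {u : ℕ} (hu : u ∈ [0, 64, 128, 192]) :
    app (K.mat w) u = u := by
  simp only [List.mem_cons, List.not_mem_nil, or_false] at hu
  rcases hu with rfl | rfl | rfl | rfl
  · exact app_zero _
  · exact plane_fixed_mat hK w (Or.inl rfl)
  · exact plane_fixed_mat hK w (Or.inr rfl)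
  · rw [show (192 : ℕ) = 64 ^^^ 128 from rfl, app_xor, plane_fixed_mat hK w (Or.inl rfl),
      plane_fixed_mat hK w (Or.inr rfl)]

theorem mem_plane {n : ℕ} (hn : n < 256) : n ∈ [0, 64, 128, 192] ↔ n % 64 = 0 := by
  simp only [List.mem_cons, List.not_mem_nil, or_false]; omega

theorem plane_xor : ∀ a ∈ [0, 64, 128, 192], ∀ b ∈ [0, 64, 128, 192], a ^^^ b ∈ [0, 64, 128, 192] := by decide

variable {G : Type*} [Group G] [Finite G]

namespace Frame

variable {F : Frame G} {K : Kind}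

/-- The preimage of the fixed plane. -/
def Chart.R (C : F.Chart K) : Subgroup G where
  carrier := {x | x ∈ F.J ∧ C.cv x ∈ [0, 64, 128, 192]}
  one_mem' := ⟨one_mem _, by rw [C.cv_one]; simp⟩
  mul_mem' := by
    rintro x y ⟨hx, hx'⟩ ⟨hy, hy'⟩
    exact ⟨mul_mem hx hy, by rw [C.cv_mul x hx y hy]; exact plane_xor _ hx' _ hy'⟩
  inv_mem' := by
    rintro x ⟨hx, hx'⟩
    exact ⟨inv_mem hx, by rw [C.cv_inv hx]; exact hx'⟩

theorem Chart.mem_R (C : F.Chart K) {x : G} : x ∈ C.R ↔ x ∈ F.J ∧ C.cv x ∈ [0, 64, 128, 192] := Iff.rfl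

theorem Chart.R_conj (C : F.Chart K) (hK : K.IsRed) {u : G} (hu : u ∈ CC F.z) {x : G} (hx : x ∈ C.R) :
    u * x * u⁻¹ = x ∨ u * x * u⁻¹ = x * F.z := by
  obtain ⟨hxJ, hxc⟩ := C.mem_R.1 hx
  obtain ⟨w, hw⟩ := exists_word (F.π ⟨u, hu⟩)
  refine (C.cv_eq_iff (F.norm hu hxJ) hxJ).1 ?_
  rw [C.conj w ⟨u, hu⟩ hw.symm x hxJ, plane_all hK w hxc]

theorem Chart.R_norm (C : F.Chart K) (hK : K.IsRed) {u : G} (hu : u ∈ CC F.z) {x : G} (hx : x ∈ C.R) :
    u * x * u⁻¹ ∈ C.R := by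
  obtain ⟨hxJ, hxc⟩ := C.mem_R.1 hx
  rcases C.R_conj hK hu hx with e | e <;> rw [e]
  · exact hx
  · exact C.mem_R.2 ⟨mul_mem hxJ F.ext.mem, by rw [C.cv_mul_z hxJ]; exact hxc⟩

theorem Chart.R_odd (C : F.Chart K) (hK : K.IsRed) {u : G} (hu : u ∈ CC F.z) (ho : Odd (orderOf u)) {x : G}
    (hx : x ∈ C.R) : u * x = x * u := by
  rcases C.R_conj hK hu hx with e | e
  · exact mul_inv_eq_iff_eq_mul.1 e
  obtain ⟨i, hi⟩ := exists_pow_eq_self_of_coprime (n := 2) (x := u) (Nat.coprime_two_left.2 ho)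
  have h2 : Commute (u ^ 2) x := by
    refine mul_inv_eq_iff_eq_mul.1 ?_
    calc u ^ 2 * x * (u ^ 2)⁻¹ = u * (u * x * u⁻¹) * u⁻¹ := by rw [pow_two]; group
      _ = u * (x * F.z) * u⁻¹ := by rw [e]
      _ = u * x * u⁻¹ * (u * F.z * u⁻¹) := by group
      _ = x := by rw [e, F.comm_z hu, mul_inv_cancel_right, F.mul_z_z]
  have := (h2.pow_left i).eq
  rwa [hi] at this

theorem Chart.R_center (C : F.Chart K) (hK : K.IsRed) {x : G} (hx : x ∈ C.R)
    (h : ∀ y ∈ C.R, x * y = y * x) : x = 1 ∨ x = F.z := by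
  obtain ⟨hxJ, hxc⟩ := C.mem_R.1 hx
  by_cases h0 : C.cv x = 0
  · exact (C.zero_iff x hxJ).1 h0
  exfalso
  rcases Bool.or_eq_true_iff.1 ((plane_facts K hK.mem).2 _ hxc h0) with e | e
  · obtain ⟨y, hy, hyc⟩ := C.surj 64 (by norm_num)
    rw [← hyc] at e
    exact (C.bq_iff hxJ hy).1 e (h y ⟨hy, by rw [hyc]; simp⟩)
  · obtain ⟨y, hy, hyc⟩ := C.surj 128 (by norm_num)
    rw [← hyc] at e
    exact (C.bq_iff hxJ hy).1 e (h y ⟨hy, by rw [hyc]; simp⟩)

theorem Chart.R_pair (C : F.Chart K) (hK : K.IsRed) : ∃ a ∈ C.R, ∃ b ∈ C.R, a * b * a⁻¹ * b⁻¹ = F.z := by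
  obtain ⟨a, ha, hac⟩ := C.surj 64 (by norm_num)
  obtain ⟨b, hb, hbc⟩ := C.surj 128 (by norm_num)
  have h := (plane_facts K hK.mem).1
  rw [← hac, ← hbc, C.bq_iff ha hb] at h
  refine ⟨a, ⟨ha, by rw [hac]; simp⟩, b, ⟨hb, by rw [hbc]; simp⟩, ?_⟩
  exact (F.ext.comm a ha b hb).resolve_left fun e => h (commutatorElement_eq_one_iff_mul_comm.1 e)

namespace Pair

variable (p : F.Pair)

/-- The subgroup generated by the elements of odd order centralising both involutions. -/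
def odd : Subgroup G :=
  Subgroup.closure {y | y * F.z = F.z * y ∧ y * p.s = p.s * y ∧ Odd (orderOf y)}

theorem odd_le_R (C : F.Chart K) (hK : K.IsRed) {c : G} (hc : c ∈ p.odd) {x : G} (hx : x ∈ C.R) :
    c * x = x * c := by
  have h : p.odd ≤ Subgroup.centralizer ({x} : Set G) := by
    refine (Subgroup.closure_le _).2 fun y hy => Subgroup.mem_centralizer_singleton_iff.2 ?_
    exact C.R_odd hK (Subgroup.mem_centralizer_singleton_iff.2 hy.1) hy.2.2 hx
  exact Subgroup.mem_centralizer_singleton_iff.1 (h hc)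

theorem odd_symm : p.symm.odd = p.odd := by
  rw [odd, odd, p.symm_s]
  congr 1
  ext y
  exact ⟨fun ⟨a, b, c⟩ => ⟨b, a, c⟩, fun ⟨a, b, c⟩ => ⟨b, a, c⟩⟩

theorem odd_move (u : ↥(CC F.z)) (h : F.z ∈ (p.move u).odd) : F.z ∈ p.odd := by
  have hle : (p.move u).odd ≤ p.odd.comap (MulAut.conj (u : G)⁻¹).toMonoidHom := by
    refine (Subgroup.closure_le _).2 ?_
    rintro y ⟨h1, h2, h3⟩
    refine Subgroup.subset_closure ⟨?_, ?_, ?_⟩
    · show (u : G)⁻¹ * y * (u : G)⁻¹⁻¹ * F.z = F.z * ((u : G)⁻¹ * y * (u : G)⁻¹⁻¹)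
      have hu := F.comm_z u.2
      have hu' : (u : G)⁻¹ * F.z = F.z * (u : G)⁻¹ := (Commute.inv_left hu).eq
      calc (u : G)⁻¹ * y * (u : G)⁻¹⁻¹ * F.z = (u : G)⁻¹ * y * ((u : G) * F.z) := by group
        _ = (u : G)⁻¹ * (y * F.z) * u := by rw [hu]; group
        _ = ((u : G)⁻¹ * F.z) * y * u := by rw [h1]; group
        _ = _ := by rw [hu']; group
    · show (u : G)⁻¹ * y * (u : G)⁻¹⁻¹ * p.s = p.s * ((u : G)⁻¹ * y * (u : G)⁻¹⁻¹)
      rw [p.move_s] at h2
      calc (u : G)⁻¹ * y * (u : G)⁻¹⁻¹ * p.s = (u : G)⁻¹ * (y * ((u : G) * p.s * (u : G)⁻¹)) * u := by group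
        _ = _ := by rw [h2]; group
    · rw [orderOf_injective _ (MulAut.conj (u : G)⁻¹).injective]; exact h3
  have := hle h
  rw [Subgroup.mem_comap] at this
  change (u : G)⁻¹ * F.z * (u : G)⁻¹⁻¹ ∈ p.odd at this
  rwa [show (u : G)⁻¹ * F.z * (u : G)⁻¹⁻¹ = F.z by rw [inv_inv, mul_assoc, ← F.comm_z u.2]; group] at this

theorem z_odd_of_word (C : F.Chart K) {u : ↥(CC F.z)} {w : List ℕ} (hu : F.π u = el w)
    (hu3 : el w * el w * el w = 1) (hus : (u : G) * p.s = p.s * u) {x : G} (hx : x ∈ F.J)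
    (hxs : x * p.s = p.s * x) (hq : K.q (app (K.mat w) (C.cv x) ^^^ C.cv x) = true) : F.z ∈ p.odd := by
  obtain ⟨i, hi, hπ⟩ := F.exists_odd (u := u) (n := 3) ⟨1, rfl⟩ (by
    rw [hu, pow_succ, pow_two]; exact hu3)
  have hvs : ((u ^ i : ↥(CC F.z)) : G) * p.s = p.s * ((u ^ i : ↥(CC F.z)) : G) := by
    rw [Subgroup.coe_pow]; exact ((show Commute (u : G) p.s from hus).pow_left i).eq
  have hvz := F.comm_z (u ^ i : ↥(CC F.z)).2
  set v := ((u ^ i : ↥(CC F.z)) : G) with hv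
  have hvmem : v ∈ p.odd := Subgroup.subset_closure ⟨hvz, hvs, hi⟩
  have hxz := F.ext.central x hx
  have hconj : x * v * x⁻¹ ∈ p.odd := by
    refine Subgroup.subset_closure ⟨?_, ?_, ?_⟩
    · calc x * v * x⁻¹ * F.z = x * v * (x⁻¹ * F.z) := by group
        _ = x * (v * F.z) * x⁻¹ := by rw [(Commute.inv_left hxz).eq]; group
        _ = x * F.z * v * x⁻¹ := by rw [hvz]; group
        _ = _ := by rw [hxz]; group
    · calc x * v * x⁻¹ * p.s = x * v * (x⁻¹ * p.s) := by group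
        _ = x * (v * p.s) * x⁻¹ := by rw [(Commute.inv_left hxs).eq]; group
        _ = x * p.s * v * x⁻¹ := by rw [hvs]; group
        _ = _ := by rw [hxs]; group
    · have := orderOf_injective (MulAut.conj x).toMonoidHom (MulAut.conj x).injective v
      rw [show x * v * x⁻¹ = (MulAut.conj x).toMonoidHom v from rfl, this]
      exact hi
  have hy : x * (v * x⁻¹ * v⁻¹) ∈ p.odd := by
    rw [show x * (v * x⁻¹ * v⁻¹) = x * v * x⁻¹ * v⁻¹ by group]
    exact mul_mem hconj (inv_mem hvmem)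
  have hcx : v * x⁻¹ * v⁻¹ ∈ F.J := F.norm (u ^ i : ↥(CC F.z)).2 (inv_mem hx)
  have hyJ : x * (v * x⁻¹ * v⁻¹) ∈ F.J := mul_mem hx hcx
  have hcv : C.cv (x * (v * x⁻¹ * v⁻¹)) = app (K.mat w) (C.cv x) ^^^ C.cv x := by
    rw [C.cv_mul x hx _ hcx, C.conj w (u ^ i) (hπ.trans hu) _ (inv_mem hx), C.cv_inv hx, Nat.xor_comm]
  rw [← hcv, C.q _ hyJ] at hq
  rw [← hq]
  exact mul_mem hy hy

/-- A conjugate inside the extraspecial group: `z` is generated by elements of odd order. -/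
theorem z_odd_in (C : F.Chart K) (hK : K.IsRed) (h : p.s ∈ F.J) : F.z ∈ p.odd := by
  have hv0 : C.cv p.s ≠ 0 := fun e => ((C.zero_iff _ h).1 e).elim p.s_one p.s_ne
  have hchk := List.all_eq_true.1 (repR_check K hK.mem) (C.cv p.s) (List.mem_range.2 (C.lt _))
  simp only [Bool.or_eq_true, List.any_eq_true, Bool.and_eq_true, beq_iff_eq, Bool.not_eq_true'] at hchk
  rcases hchk with (e | e) | ⟨o, -, r, hr, ⟨⟨hor, hfix⟩, hperp⟩, hq⟩
  · rw [C.q_false h p.s_sq] at e; exact Bool.noConfusion e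
  · exact absurd e hv0
  obtain ⟨k, hk⟩ := F.surj (el o)
  refine p.odd_move k ?_
  have hJ : (p.move k).s ∈ F.J := by rw [p.move_s]; exact F.norm k.2 h
  have hc : C.cv (p.move k).s = r.1 := by rw [p.move_s, C.conj o k hk _ h]; exact hor
  obtain ⟨u, hu, hus⟩ := C.exists_fix_lift hJ (p.move k).s_one (p.move k).s_ne (w := r.2.1) (by rw [hc]; exact hfix)
  obtain ⟨x, hx, hxc⟩ := C.surj r.2.2 (by
    have : ∀ r ∈ repR, r.2.2 < 256 := by decide
    exact this r hr)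
  refine (p.move k).z_odd_of_word C hu ?_ hus hx ?_ ?_
  · rw [← el_append, ← el_append]; exact el_eq_one_iff.2 (repR_words r hr)
  · refine ((C.bq_false_iff hJ hx).1 ?_).symm
    rw [hc, hxc]; exact hperp
  · rw [hxc]; exact hq

theorem R_commute (C : F.Chart K) (hK : K.IsRed) (hz : F.z ∈ p.odd) (hs : p.s ∈ p.odd) {a b : G} (ha : a ∈ C.R)
    (hb : b ∈ (C.conjChart F p.g).R) : a * b = b * a := by
  let C' := C.conjChart F p.g
  have haS : a ∈ CC p.F'.z :=
    Subgroup.mem_centralizer_singleton_iff.2 (p.odd_le_R C hK hs ha).symm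
  have hz' : ∀ y ∈ C'.R, F.z * y = y * F.z := fun y hy => p.symm.odd_le_R C' hK (by rw [p.odd_symm]; exact hz) hy
  have hbZ : b ∈ CC F.z := Subgroup.mem_centralizer_singleton_iff.2 (hz' b hb).symm
  have h1 : a * b * a⁻¹ * b⁻¹ ∈ C.R := by
    rw [show a * b * a⁻¹ * b⁻¹ = a * (b * a⁻¹ * b⁻¹) by group]
    exact mul_mem ha (C.R_norm hK hbZ (inv_mem ha))
  have h2 : a * b * a⁻¹ * b⁻¹ ∈ C'.R := mul_mem (C'.R_norm hK haS hb) (inv_mem hb)
  have hzR : F.z ∉ C'.R := fun h => by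
    rcases C'.R_center hK h hz' with e | e
    · exact F.ext.ne e
    · exact p.ne e.symm
  generalize hd : a * b * a⁻¹ * b⁻¹ = d at h1 h2
  by_cases hcen : ∀ r ∈ C.R, d * r = r * d
  · rcases C.R_center hK h1 hcen with e | e
    · exact commutatorElement_eq_one_iff_mul_comm.1 (hd.trans e)
    · exact absurd (e ▸ h2) hzR
  · simp only [not_forall] at hcen
    obtain ⟨r, hr, hrd⟩ := hcen
    have hrS : r ∈ CC p.F'.z := Subgroup.mem_centralizer_singleton_iff.2 (p.odd_le_R C hK hs hr).symm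
    have h3 := mul_mem (inv_mem h2) (C'.R_norm hK hrS h2)
    have e := ((F.ext.conj_cases (C.mem_R.1 h1).1 (C.mem_R.1 hr).1).resolve_left fun e => hrd e.symm).2
    rw [e, inv_mul_cancel_left] at h3
    exact absurd h3 hzR

theorem not_mem_five (C : F.Chart K) (hK : K.IsRed) (h : p.s ∈ F.J) (h5 : C.cv p.s = 5) (hz : F.z ∈ p.odd)
    (hs : p.s ∈ p.odd) : False := by
  let C' := C.conjChart F p.g
  have hsub : ∀ x ∈ C'.R, x ∈ F.J ∧ (C.cv x = 0 ∨ C.cv x = 5) := by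
    intro x hx
    have hxz : x ∈ CC F.z :=
      Subgroup.mem_centralizer_singleton_iff.2 (p.symm.odd_le_R C' hK (by rw [p.odd_symm]; exact hz) hx).symm
    have hlift : ∀ k ∈ oddV, ∃ u : ↥(CC F.z), F.π u = el k ∧ (u : G) * x = x * u := by
      intro k hk
      obtain ⟨u, hu, hus⟩ := C.exists_fix_lift h p.s_one p.ne (w := k) (by rw [h5]; exact (oddV_fix K hK.mem).1 k hk)
      obtain ⟨i, hi, hπ⟩ := F.exists_odd (u := u) (n := 15) ⟨7, rfl⟩ (by
        rw [hu, ← el_flatten]; exact el_eq_one_iff.2 (oddV_facts k hk))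
      refine ⟨u ^ i, hπ.trans hu, C'.R_odd hK (Subgroup.mem_centralizer_singleton_iff.2 ?_) hi hx⟩
      rw [Subgroup.coe_pow]
      exact ((show Commute (u : G) p.s from hus).pow_left i).eq
    have h4 : x * x * (x * x) = 1 := by
      rcases p.F'.ext.sq x (C'.mem_R.1 hx).1 with e | e
      · rw [e, mul_one]
      · rw [e]; exact p.s_sq
    have hπ1 : F.π ⟨x, hxz⟩ = 1 := by
      refine oddV_centralised ?_ fun k hk => ?_
      · rw [← map_mul, ← map_mul, ← map_one F.π]; exact congrArg F.π (Subtype.ext h4)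
      · obtain ⟨u, hu, hux⟩ := hlift k hk
        rw [← hu, ← map_mul, ← map_mul]; exact congrArg F.π (Subtype.ext hux.symm)
    have hxJ : x ∈ F.J := (F.ker _).1 hπ1
    refine ⟨hxJ, ?_⟩
    have hchk := List.all_eq_true.1 (oddV_fix K hK.mem).2 (C.cv x) (List.mem_range.2 (C.lt _))
    simp only [Bool.or_eq_true, List.any_eq_true, beq_iff_eq, bne_iff_ne] at hchk
    rcases hchk with (((e | e) | e) | e) | ⟨k, hk, e⟩
    · exact Or.inl e
    · exact Or.inr e
    · obtain ⟨y, hy, hyc⟩ := C.surj 64 (by norm_num)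
      rw [← hyc] at e
      exact absurd (p.R_commute C hK hz hs ⟨hy, by rw [hyc]; simp⟩ hx).symm ((C.bq_iff hxJ hy).1 e)
    · obtain ⟨y, hy, hyc⟩ := C.surj 128 (by norm_num)
      rw [← hyc] at e
      exact absurd (p.R_commute C hK hz hs ⟨hy, by rw [hyc]; simp⟩ hx).symm ((C.bq_iff hxJ hy).1 e)
    · obtain ⟨u, hu, hux⟩ := hlift k hk
      refine absurd ?_ e
      rw [← C.conj k u hu x hxJ, show (u : G) * x * (u : G)⁻¹ = x from mul_inv_eq_iff_eq_mul.2 hux]
  obtain ⟨a, ha, b, hb, hab⟩ := C'.R_pair hK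
  obtain ⟨ha', ea⟩ := hsub a ha
  obtain ⟨hb', eb⟩ := hsub b hb
  refine p.s_one ?_
  rw [show p.s = (F.conj p.g).z from rfl, ← hab]
  refine commutatorElement_eq_one_iff_mul_comm.2 ((C.bq_false_iff ha' hb').1 ?_)
  have hd : ∀ K ∈ [Kind.redA, Kind.redH], ∀ i ∈ [0, 5], ∀ j ∈ [0, 5], K.bq i j = false := by decide +kernel
  exact hd K hK.mem _ (by simpa using ea) _ (by simpa using eb)

end Pair

/-- In the reducible case the extraspecial group contains no further conjugate. -/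
theorem only_red (C : F.Chart K) (hK : K.IsRed) : F.OnlyZ := by
  intro g hg
  by_contra hne
  let p : F.Pair := ⟨g, F.ext.central _ hg, hne⟩
  have h : p.s ∈ F.J := hg
  have hz := p.z_odd_in C hK h
  have hs : p.s ∈ p.odd := by
    rw [← p.odd_symm]
    exact p.symm.z_odd_in (C.conjChart F p.g) hK (by rw [p.symm_s]; exact p.z_mem_of_mem h)
  -- `s` is orthogonal to the plane, so can be moved to the standard vector
  have hv0 : C.cv p.s ≠ 0 := fun e => ((C.zero_iff _ h).1 e).elim p.s_one p.s_ne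
  have hchk := List.all_eq_true.1 (orbR_five K hK.mem) (C.cv p.s) (List.mem_range.2 (C.lt _))
  simp only [Bool.or_eq_true, List.any_eq_true, beq_iff_eq] at hchk
  rcases hchk with (((e | e) | e) | e) | ⟨o, -, ho⟩
  · rw [C.q_false h p.s_sq] at e; exact Bool.noConfusion e
  · exact hv0 e
  · obtain ⟨y, hy, hyc⟩ := C.surj 64 (by norm_num)
    rw [← hyc] at e
    exact (C.bq_iff h hy).1 e (p.odd_le_R C hK hs ⟨hy, by rw [hyc]; simp⟩)
  · obtain ⟨y, hy, hyc⟩ := C.surj 128 (by norm_num)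
    rw [← hyc] at e
    exact (C.bq_iff h hy).1 e (p.odd_le_R C hK hs ⟨hy, by rw [hyc]; simp⟩)
  obtain ⟨k, hk⟩ := F.surj (el o)
  have h' : (p.move k).s ∈ F.J := by rw [p.move_s]; exact F.norm k.2 h
  refine (p.move k).not_mem_five C hK h' ?_ ((p.move k).z_odd_in C hK h') ?_
  · rw [p.move_s, C.conj o k hk _ h]; exact ho
  · rw [← (p.move k).odd_symm]
    exact (p.move k).symm.z_odd_in (C.conjChart F (p.move k).g) hK
      (by rw [(p.move k).symm_s]; exact (p.move k).z_mem_of_mem h')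

theorem Pair.T_cases (C : F.Chart K) (hK : K.IsRed) (p : F.Pair) :
    ∃ (u : ↥(CC F.z)) (o : F.Out K), o.toPair = p.move u ∧ o.C = C ∧ o.wt = wT := by
  have hO := F.only_red C hK
  obtain ⟨g, hg⟩ := involution_class p.π_sq (p.π_ne hO)
  obtain ⟨u, rfl⟩ := F.surj g
  rcases hg with h | h
  · let o : F.Out K :=
      { toPair := p.move u
        C := C
        wt := wT
        hs := (p.π_move u).trans h
        wt_ne := fun e => tT_ne e
        only := hO
        perp := (perp_check K (kind_mem K)).1 }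
    exact ⟨u, o, rfl, rfl, rfl⟩
  · exfalso
    obtain ⟨o, -, how⟩ := exists_out C hO (p.move u) (wt := wP) ((p.π_move u).trans h) (Or.inr rfl)
    exact o.outP_red hK how

theorem Out.comm_fixed {o : F.Out K} {w : List ℕ} (hw : el w * el o.wt = el o.wt * el w) {y : G} (hy : y ∈ F.J)
    (hf : app (K.mat o.wt) (o.C.cv y) = o.C.cv y) :
    app (K.mat o.wt) (app (K.mat w) (o.C.cv y)) = app (K.mat w) (o.C.cv y) := by
  obtain ⟨v, hv⟩ := F.surj (el (o.wt ++ w))
  rw [← app_mat_append K o.wt w (o.C.lt y), ← o.C.conj _ v hv y hy,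
    o.C.conj (w ++ o.wt) v (by rw [hv, el_append, el_append, hw]) y hy, app_mat_append K w o.wt (o.C.lt y), hf]

/-- `z` is generated by odd order elements centralising a conjugate outside the extraspecial group, which
either commutes with the fixed space or moves the plane. -/
theorem Out.z_odd (o : F.Out K) (hK : K.IsRed) (hw : o.wt = wT) :
    F.z ∈ o.toPair.odd ∧ ((o.AllComm ∧ ¬ IsConj F.z (o.s * F.z)) ∨
      ∃ y ∈ o.C.R, y * o.s ≠ o.s * y) := by
  obtain ⟨e1, e2, e3, e4, e5, e6⟩ := eline K hK.mem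
  have hcomm : el wE * el o.wt = el o.wt * el wE := by rw [hw]; exact el_commute_of_wd wE_facts.1
  have hcube : el wE * el wE * el wE = 1 := by
    rw [← el_append, ← el_append]; exact el_eq_one_iff.2 wE_facts.2
  obtain ⟨x, hx, hxc⟩ := o.C.surj 1 (by norm_num)
  have hxf : app (K.mat o.wt) (o.C.cv x) = o.C.cv x := by rw [hxc, hw]; exact e1
  rcases o.outT hw with ⟨hall, hnc⟩ | ⟨-, x₀, hx₀, hu⟩
  · refine ⟨?_, Or.inl ⟨hall, hnc⟩⟩
    obtain ⟨u, hu, hus⟩ := o.exists_lift hcomm (fun y hy y' hy' hf he =>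
      iff_of_true (hall y' hy' (he ▸ o.comm_fixed hcomm hy hf)) (hall y hy hf)) (Or.inr hnc)
    exact o.toPair.z_odd_of_word o.C hu hcube hus hx (hall x hx hxf) (by rw [hxc]; exact e2)
  obtain ⟨y, hy, hyR, hyb⟩ : ∃ y ∈ F.J, o.C.cv y ∈ [0, 64, 128, 192] ∧
      K.bq (o.C.cv x₀) (o.C.cv y) = true := by
    rcases Bool.or_eq_true_iff.1 ((plane_facts K hK.mem).2 (o.C.cv x₀)
      (by rcases hu with e | e <;> simp [e]) (by omega)) with e | e
    · obtain ⟨y, hy, hyc⟩ := o.C.surj 64 (by norm_num)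
      exact ⟨y, hy, by simp [hyc], by rw [hyc]; exact e⟩
    · obtain ⟨y, hy, hyc⟩ := o.C.surj 128 (by norm_num)
      exact ⟨y, hy, by simp [hyc], by rw [hyc]; exact e⟩
  have hyf : app (K.mat o.wt) (o.C.cv y) = o.C.cv y := plane_all hK _ hyR
  have hnim : o.C.cv x₀ ∉ imL K o.wt := fun h => by
    rw [o.im_perp h (o.mem_fixL.2 ⟨o.C.lt y, hyf⟩)] at hyb; exact Bool.noConfusion hyb
  have hyn : y * o.s ≠ o.s * y := fun h => by
    rw [(o.fun_eq hx₀ hnim hy hyf).1 h] at hyb; exact Bool.noConfusion hyb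
  have hxs : x * o.s = o.s * x := (o.fun_eq hx₀ hnim hx hxf).2 (by
    rw [hxc]; rcases hu with e | e <;> rw [e] <;> assumption)
  obtain ⟨u, hu', hus⟩ := o.exists_lift hcomm (fun a ha a' ha' hf he => by
    rw [o.fun_eq hx₀ hnim ha' (he ▸ o.comm_fixed hcomm ha hf), o.fun_eq hx₀ hnim ha hf, he]
    have hfix : app (K.mat wE) (o.C.cv x₀) = o.C.cv x₀ := by
      rcases hu with e | e <;> rw [e] <;> assumption
    conv_lhs => rw [← hfix, o.C.bq_mat wE (o.C.lt x₀) (o.C.lt a)]) (Or.inl ⟨y, hy, hyf, hyn⟩)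
  refine ⟨o.toPair.z_odd_of_word o.C hu' hcube hus hx hxs (by rw [hxc]; exact e2), Or.inr ⟨y, ⟨hy, hyR⟩, hyn⟩⟩

theorem Pair.z_odd (C : F.Chart K) (hK : K.IsRed) (p : F.Pair) : F.z ∈ p.odd := by
  obtain ⟨u, o, ho, -, hw⟩ := p.T_cases C hK
  refine p.odd_move u ?_
  rw [← ho]
  exact (o.z_odd hK hw).1

/-- In the reducible case the centraliser contains no further conjugate. -/
theorem red_isolated (C : F.Chart K) (hK : K.IsRed) (p₀ : F.Pair) : False := by
  obtain ⟨u, o, -, hC, hw⟩ := p₀.T_cases C hK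
  subst hC
  let C' := o.C.conjChart F o.g
  have hz : F.z ∈ o.toPair.odd := (o.z_odd hK hw).1
  have hs : o.s ∈ o.toPair.odd := by
    have h := o.toPair.symm.z_odd C' hK
    rw [o.toPair.odd_symm] at h
    exact h
  rcases (o.z_odd hK hw).2 with ⟨hall, hnc⟩ | ⟨y, hy, hyn⟩
  swap
  · exact hyn (o.toPair.odd_le_R o.C hK hs hy).symm
  let P : Subgroup Q4 := (C'.R.subgroupOf (CC F.z)).map F.π
  have hRz : ∀ x ∈ C'.R, x ∈ CC F.z := fun x hx =>
    Subgroup.mem_centralizer_singleton_iff.2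
      (o.toPair.symm.odd_le_R C' hK (by rw [o.toPair.odd_symm]; exact hz) hx).symm
  haveI : Fact (Nat.Prime 2) := ⟨Nat.prime_two⟩
  have hP : IsPGroup 2 ↥P := by
    have h2 : IsPGroup 2 ↥o.toPair.F'.J := IsPGroup.of_card (n := 9) (by rw [o.toPair.F'.card_J]; norm_num)
    have h3 : IsPGroup 2 ↥C'.R := h2.to_le fun x hx => (C'.mem_R.1 hx).1
    exact (h3.comap_of_injective _ (Subgroup.subtype_injective _)).map _
  have ht : F.π o.toPair.sC = tT := o.hs.trans (by rw [hw]; rfl)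
  have habel := @odd_centralised P hP (fun q hq => by
      obtain ⟨⟨x, hxz⟩, hx, rfl⟩ := hq
      rw [← ht, ← map_mul, ← map_mul]
      exact congrArg F.π (Subtype.ext (o.toPair.F'.ext.central x (C'.mem_R.1 hx).1)))
    (fun q hq k hk hk3 => by
      obtain ⟨⟨x, hxz⟩, hx, rfl⟩ := hq
      obtain ⟨w, rfl⟩ := exists_word k
      have hcomm : el w * el o.wt = el o.wt * el w := by rw [hw]; exact hk
      obtain ⟨v, hv, hvs⟩ := o.exists_lift hcomm (fun a ha a' ha' hf he =>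
        iff_of_true (hall a' ha' (he ▸ o.comm_fixed hcomm ha hf)) (hall a ha hf)) (Or.inr hnc)
      obtain ⟨i, hi, hπ⟩ := F.exists_odd (u := v) (n := 3) ⟨1, rfl⟩ (by rw [hv, pow_succ, pow_two]; exact hk3)
      have hvs' : ((v ^ i : ↥(CC F.z)) : G) ∈ CC o.toPair.F'.z := by
        refine Subgroup.mem_centralizer_singleton_iff.2 ?_
        rw [Subgroup.coe_pow]; exact ((show Commute (v : G) o.s from hvs).pow_left i).eq
      rw [← hv, ← hπ, ← map_mul, ← map_mul]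
      exact congrArg F.π (Subtype.ext (C'.R_odd hK hvs' hi hx).symm))
  obtain ⟨a, ha, b, hb, hab⟩ := C'.R_pair hK
  have h := habel (a := F.π ⟨a, hRz a ha⟩) (b := F.π ⟨b, hRz b hb⟩) ⟨_, ha, rfl⟩ ⟨_, hb, rfl⟩
  have h1 : F.π o.toPair.sC = 1 := by
    have e : o.toPair.sC = ⟨a, hRz a ha⟩ * ⟨b, hRz b hb⟩ * (⟨a, hRz a ha⟩)⁻¹ * (⟨b, hRz b hb⟩)⁻¹ :=
      Subtype.ext hab.symm
    rw [e, map_mul, map_mul, map_mul, map_inv, map_inv, h]; group
  exact tT_ne (ht.symm.trans h1)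

end Frame

end Cfsg.Agent.Fus.U62Red
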