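import Cfsg.Agent.Lib.Fus.U62Red.AutSigma
import Cfsg.Agent.Lib.Fus.U62Red.Reducible

/-!
Recognition of `U₆(2)`, the reduction for a centraliser with a larger quotient: an outer element acting as a
reflection on the reducible module.
-/

set_option autoImplicit false
set_option linter.unusedSectionVars false

namespace Cfsg.Agent.Fus.U62Red

open Cfsg.Agent.Fus.U62Rec (Q4 CC)
open Cfsg.Agent.Invol.ExtraEight (app idm app_lt app_xor app_zero)

variable {G : Type*} [Group G] [Finite G]

theorem plane_all' {K : Kind} (hK : K.IsRed) (w : List ℕ) {u : ℕ} (hu : u < 256) (h : u % 64 = 0) :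
    app (K.mat w) u = u :=
  plane_all hK w ((mem_plane hu).2 h)

theorem bq_swap {K : Kind} {a b : ℕ} : K.bq a b = K.bq b a := by
  rw [Kind.bq, Kind.bq, Nat.xor_comm a b]
  cases K.q (b ^^^ a) <;> cases K.q a <;> cases K.q b <;> rfl

namespace Outer.Chart

variable {O : Outer G} {K : Kind} (C : O.Chart K) (hK : K.IsRed)
include hK

theorem act_plane' {h : G} (hh : h ∈ CC O.z) {p : ℕ} (hp : p < 256) (hp0 : p % 64 = 0) : C.act h p % 64 = 0 :=
  C.act_plane hK.mem hh (fun w _ hu h0 => plane_all' hK w hu h0) hp hp0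

/-- The six-dimensional part is preserved by the whole centraliser. -/
theorem act_six {h : G} (hh : h ∈ CC O.z) {n : ℕ} (hn : n < 64) : C.act h n < 64 := by
  have hi := inv_mem hh
  have hn' : n < 256 := by omega
  have key : ∀ p ∈ [64, 128], K.bq (C.act h n) p = false := by
    intro p hp
    have hp' : p < 256 ∧ p % 64 = 0 := by
      simp only [List.mem_cons, List.not_mem_nil, or_false] at hp; rcases hp with rfl | rfl <;> omega
    rw [← C.act_act_inv hh hp'.1, C.act_bq hh hn' (C.act_lt _ _)]
    obtain ⟨h1, h2⟩ := ((plane_iff K hK.mem n hn').2.1.1 hn)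
    have hm := C.act_plane' hK hi hp'.1 hp'.2
    have hlt := C.act_lt h⁻¹ p
    generalize C.act h⁻¹ p = t at hm hlt
    rcases (show t = 0 ∨ t = 64 ∨ t = 128 ∨ t = 64 ^^^ 128 by
      rw [show (64 : ℕ) ^^^ 128 = 192 from rfl]; omega) with rfl | rfl | rfl | rfl
    · have := C.bq_add (a := 64) (b := 64) (c := n) (by norm_num) (by norm_num) hn'
      rw [Nat.xor_self, Bool.xor_self] at this
      rw [bq_swap]; exact this
    · exact h1
    · exact h2
    · rw [bq_swap, C.bq_add (by norm_num) (by norm_num) hn', bq_swap, h1,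
        bq_swap, h2]
      rfl
  exact (plane_iff K hK.mem _ (C.act_lt h n)).2.1.2 ⟨key 64 (by simp), key 128 (by simp)⟩

/-- In a reducible module some outer element acts as the reflection. -/
theorem exists_sigma_red : ∃ u ∈ CC O.z, u ∉ O.H₀ ∧ ∀ n < 64, C.act u n = app sigR n := by
  obtain ⟨h, hh, ho⟩ := O.exists_out
  obtain ⟨w, hw⟩ := reducible_isometry hK.mem (fun w v hv e => C.mat_inj w hv e) (f := C.act h)
    ⟨fun v hv => C.act_six hK hh hv, fun a ha b hb => C.act_add hh (by omega) (by omega),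
      fun v hv => C.act_inj hh (by omega), fun v hv => C.act_q hh (by omega)⟩
  obtain ⟨m, hm⟩ := O.surj (el w)
  rcases hw with hid | hsig
  · exfalso
    obtain ⟨wi, hwi⟩ := exists_word (el w)⁻¹
    have hsix : ∀ v < 64, C.act h v = app (K.mat wi) v := fun v hv => by
      conv_rhs => rw [← hid v hv]
      rw [← app_mat_append _ _ _ (C.act_lt h v),
        C.app_of_el_eq (w' := []) (by rw [el_append, hwi, inv_mul_cancel, el_nil]) (C.act_lt h v),
        app_mat_nil _ (C.act_lt h v)]
    obtain ⟨k, hk⟩ := O.surj (el wi)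
    obtain ⟨x, hx⟩ := O.outer h hh ho k
    obtain ⟨u, hu⟩ := exists_word (O.π x)
    obtain ⟨u', hu'⟩ := exists_word (O.π ⟨h * x * h⁻¹, O.norm₀ h hh x x.2⟩)
    have key : el (u' ++ wi) = el (wi ++ u) := C.el_eq_of_app fun n hn => by
      obtain ⟨h1, h2, h3, h4⟩ := split_six n hn
      have h1' : n % 64 < 256 := by omega
      rw [← h2, app_xor, app_xor]
      congr 1
      · rw [app_mat_append _ _ _ h1', app_mat_append _ _ _ h1', ← hsix _ (red_mat_six hK.mem u h1),
          ← hsix _ h1, C.act_conj hh hu.symm hu'.symm h1']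
      · rw [plane_all' hK _ h4 h3, plane_all' hK _ h4 h3]
    rw [el_append, el_append] at key
    refine hx ?_
    rw [← hu', map_mul, map_mul, map_inv, hk, ← hu, ← key, mul_inv_cancel_right]
  · refine ⟨(m : G) * h, mul_mem (O.H₀_le m.2) hh, fun e => ho (by
      simpa using O.H₀.mul_mem (inv_mem m.2) e), fun n hn => ?_⟩
    rw [C.act_mul (O.H₀_le m.2) hh (by omega : n < 256), C.act_mem m.2 hm (C.act_lt _ _)]
    exact hsig n hn

end Outer.Chart

end Cfsg.Agent.Fus.U62Red
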