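import Cfsg.Agent.Lib.Spor.ExtraPairCore
import Cfsg.Agent.Lib.Fus.U62Red.AutSigmaRed
import Cfsg.Agent.Lib.Fus.U62Red.AutFactsOnly

/-!
Recognition of `U₆(2)`, the reduction for a centraliser with a larger quotient: no further conjugate of the
involution lies in the extraspecial group.
-/

set_option autoImplicit false
set_option linter.unusedSectionVars false

namespace Cfsg.Agent.Fus.U62Red

open Cfsg.Agent.Fus.U62Rec (Q4 CC)
open Cfsg.Agent.Invol.ExtraEight (app idm mu app_lt app_xor app_zero app_mu app_idm idm_lt)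

/-- A span is inside every closed set containing the vectors. -/
theorem spanL_mem {P : ℕ → Prop} (h0 : P 0) (hx : ∀ a b, P a → P b → P (a ^^^ b)) :
    ∀ {l : List ℕ}, (∀ a ∈ l, P a) → ∀ n ∈ spanL l, P n := by
  have key : ∀ (l acc : List ℕ), (∀ a ∈ l, P a) → (∀ n ∈ acc, P n) →
      ∀ n ∈ l.foldl (fun acc a => acc ++ acc.map fun b => b ^^^ a) acc, P n := by
    intro l
    induction l with
    | nil => intro acc _ h n hn; exact h n hn
    | cons a l ih =>
      intro acc hl h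
      refine ih _ (fun b hb => hl b (List.mem_cons_of_mem _ hb)) fun n hn => ?_
      rcases List.mem_append.1 hn with hn | hn
      · exact h n hn
      · obtain ⟨b, hb, rfl⟩ := List.mem_map.1 hn
        exact hx _ _ (h b hb) (hl a (List.mem_cons_self ..))
  intro l hl n hn
  exact key l [0] hl (fun m hm => by rw [List.mem_singleton.1 hm]; exact h0) n hn

variable {G : Type*} [Group G] [Finite G]

namespace Outer

/-- A conjugate of `z` other than itself inside the extraspecial group. -/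
structure Inside (O : Outer G) where
  g : G
  mem : g * O.z * g⁻¹ ∈ O.J
  ne : g * O.z * g⁻¹ ≠ O.z

namespace Inside

variable {O : Outer G} (p : O.Inside)

/-- The conjugate. -/
def s : G := p.g * O.z * p.g⁻¹

/-- The frame at the conjugate. -/
abbrev O' : Outer G := O.conj p.g

theorem s_sq : p.s * p.s = 1 := p.O'.ext.zz

theorem s_one : p.s ≠ 1 := p.O'.ext.ne

theorem s_comm : p.s * O.z = O.z * p.s := O.ext.central _ p.mem

theorem z_mem' : O.z ∈ p.O'.J :=
  O.ext.mem_pair p.mem (O.ext.exists_noncommuting p.mem (by rw [O.card_J]; norm_num))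

/-- The same pair seen from the other side. -/
def inv : O.Inside where
  g := p.g⁻¹
  mem := by
    have := O.mem_conj_J.1 p.z_mem'
    rwa [show p.g⁻¹ * O.z * p.g⁻¹⁻¹ = p.g⁻¹ * O.z * p.g by group]
  ne e := by
    refine p.ne ?_
    calc p.g * O.z * p.g⁻¹ = p.g * (p.g⁻¹ * O.z * p.g⁻¹⁻¹) * p.g⁻¹ := by rw [e]
      _ = O.z := by group

/-- The pair with the conjugate moved. -/
def moveL (k : G) (hk : k ∈ CC O.z) : O.Inside where
  g := k * p.g
  mem := by
    rw [show k * p.g * O.z * (k * p.g)⁻¹ = k * (p.g * O.z * p.g⁻¹) * k⁻¹ by group]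
    exact O.norm hk p.mem
  ne e := by
    refine p.ne ?_
    calc p.g * O.z * p.g⁻¹ = k⁻¹ * (k * p.g * O.z * (k * p.g)⁻¹) * k := by group
      _ = k⁻¹ * (O.z * k) := by rw [e]; group
      _ = O.z := by rw [← O.comm_z hk]; group

/-- The pair with the same conjugate and the other frame moved. -/
def moveR (k : G) (hk : k ∈ CC O.z) : O.Inside where
  g := p.g * k
  mem := by
    rw [show p.g * k * O.z * (p.g * k)⁻¹ = p.g * (k * O.z) * k⁻¹ * p.g⁻¹ by group, O.comm_z hk]
    simpa [mul_assoc] using p.mem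
  ne e := by
    refine p.ne ?_
    rw [show p.g * k * O.z * (p.g * k)⁻¹ = p.g * (k * O.z) * k⁻¹ * p.g⁻¹ by group, O.comm_z hk] at e
    simpa [mul_assoc] using e

theorem s_mem : p.s ∈ O.J := p.mem

/-- The common part. -/
def I : Subgroup G := O.J ⊓ p.O'.J

theorem z_I : O.z ∈ p.I := ⟨O.ext.mem, p.z_mem'⟩

theorem I_sq {x : G} (hx : x ∈ p.I) : x * x = 1 := by
  rcases O.ext.sq x hx.1 with e | e
  · exact e
  rcases p.O'.ext.sq x hx.2 with e' | e'
  · exact e'
  · exact absurd (e'.symm.trans e) p.ne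

theorem I_comm_s {x : G} (hx : x ∈ p.I) : x * p.s = p.s * x := p.O'.ext.central x hx.2

/-- The part of the centraliser of the conjugate in the extraspecial group inside the other index two group. -/
def C₁ : Subgroup G := (O.J ⊓ Subgroup.centralizer ({p.s} : Set G)) ⊓ p.O'.H₀

theorem mem_C₁ {y : G} : y ∈ p.C₁ ↔ (y ∈ O.J ∧ y * p.s = p.s * y) ∧ y ∈ p.O'.H₀ := by
  rw [C₁, Subgroup.mem_inf, Subgroup.mem_inf, Subgroup.mem_centralizer_singleton_iff]

theorem card_C₁ : 128 ≤ Nat.card ↥p.C₁ := by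
  classical
  have h1 := O.ext.card_le_centralizing p.s_mem
  rw [O.card_J] at h1
  change 512 ≤ 2 * Nat.card ↥(O.J ⊓ Subgroup.centralizer ({p.s} : Set G)) at h1
  set C := O.J ⊓ Subgroup.centralizer ({p.s} : Set G) with hC
  by_cases hall : ∀ y ∈ C, y ∈ p.O'.H₀
  · rw [C₁, inf_eq_left.2 hall]; change _ ≤ Nat.card ↥C; omega
  simp only [not_forall] at hall
  obtain ⟨y₀, hy₀, hy₀'⟩ := hall
  have hCC : ∀ y ∈ C, y ∈ CC p.O'.z := fun y hy =>
    Subgroup.mem_centralizer_singleton_iff.2 (Subgroup.mem_centralizer_singleton_iff.1 hy.2)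
  have hcov : (C : Set G) ⊆ (p.C₁ : Set G) ∪ (fun y => y₀ * y) '' (p.C₁ : Set G) := by
    intro y hy
    by_cases h : y ∈ p.O'.H₀
    · exact Or.inl ⟨hy, h⟩
    · refine Or.inr ⟨y₀⁻¹ * y, ⟨C.mul_mem (C.inv_mem hy₀) hy, ?_⟩, by group⟩
      have hi : y₀⁻¹ ∈ CC p.O'.z := inv_mem (hCC _ hy₀)
      have hi' : y₀⁻¹ ∉ p.O'.H₀ := fun e => hy₀' (by simpa using inv_mem e)
      exact p.O'.two _ hi hi' _ (hCC _ hy) h
  have h2 := (Set.ncard_le_ncard hcov (Set.toFinite _)).trans (Set.ncard_union_le _ _)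
  rw [Set.ncard_image_of_injective _ (mul_right_injective y₀), ← Nat.card_coe_set_eq, ← Nat.card_coe_set_eq] at h2
  change Nat.card ↥C ≤ Nat.card ↥p.C₁ + Nat.card ↥p.C₁ at h2
  omega

/-- The map to the other quotient. -/
def ψ : ↥p.C₁ →* Q4 := p.O'.π.comp (Subgroup.inclusion fun _ hy => (p.mem_C₁.1 hy).2)

theorem ψ_ker {y : ↥p.C₁} (h : p.ψ y = 1) : (y : G) ∈ p.I := ⟨(p.mem_C₁.1 y.2).1.1, (p.O'.ker _).1 h⟩

theorem card_mul : 128 ≤ Nat.card ↥p.ψ.range * Nat.card ↥p.I := by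
  have h := p.card_C₁
  have hk : Nat.card ↥p.ψ.ker ≤ Nat.card ↥p.I :=
    Nat.card_le_card_of_injective (fun y : p.ψ.ker => (⟨(y : ↥p.C₁), p.ψ_ker y.2⟩ : ↥p.I))
      fun a b e => Subtype.ext (Subtype.ext (congrArg (fun t : ↥p.I => (t : G)) e))
  have e := p.ψ.ker.card_mul_index
  rw [Subgroup.index_ker] at e
  calc 128 ≤ Nat.card ↥p.C₁ := h
    _ = Nat.card ↥p.ψ.ker * Nat.card ↥p.ψ.range := e.symm
    _ ≤ _ := by rw [mul_comm]; exact Nat.mul_le_mul_left _ hk

theorem range_sq {a : Q4} (ha : a ∈ p.ψ.range) : a * a = 1 := by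
  obtain ⟨y, rfl⟩ := ha
  show p.O'.π _ * p.O'.π _ = 1
  rw [← map_mul, p.O'.ker]
  show (y : G) * (y : G) ∈ p.O'.J
  rcases O.ext.sq _ (p.mem_C₁.1 y.2).1.1 with e | e <;> rw [e]
  · exact one_mem _
  · exact p.z_mem'

theorem range_two : IsPGroup 2 ↥p.ψ.range := fun a => ⟨1, by
  rw [pow_one, pow_two]; exact Subtype.ext (p.range_sq a.2)⟩

/-- An element of the centraliser of both involutions normalises the common part. -/
theorem conj_I {v : G} (hv : v ∈ CC O.z) (hvs : v * p.s = p.s * v) {x : G} (hx : x ∈ p.I) :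
    v * x * v⁻¹ ∈ p.I :=
  ⟨O.norm hv hx.1, p.O'.norm (Subgroup.mem_centralizer_singleton_iff.2 hvs) hx.2⟩

/-- Commutators with the centraliser of `z` in the other extraspecial group lie in the common part. -/
theorem comm_I {y a : G} (hy : y ∈ O.J) (hys : y * p.s = p.s * y) (ha : a ∈ p.O'.J) (haz : a * O.z = O.z * a) :
    y * a * y⁻¹ * a⁻¹ ∈ p.I := by
  refine ⟨?_, p.O'.J.mul_mem (p.O'.norm (Subgroup.mem_centralizer_singleton_iff.2 hys) ha) (p.O'.J.inv_mem ha)⟩
  rw [show y * a * y⁻¹ * a⁻¹ = y * (a * y⁻¹ * a⁻¹) by group]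
  exact mul_mem hy (O.norm (Subgroup.mem_centralizer_singleton_iff.2 haz) (inv_mem hy))

theorem inv_I {x : G} (hx : x ∈ p.I) : p.g⁻¹ * x * p.g ∈ p.inv.I := by
  refine ⟨O.mem_conj_J.1 hx.2, O.mem_conj_J.2 ?_⟩
  show p.g⁻¹⁻¹ * (p.g⁻¹ * x * p.g) * p.g⁻¹ ∈ O.J
  simpa [mul_assoc] using hx.1

theorem card_inv_I : Nat.card ↥p.I ≤ Nat.card ↥p.inv.I :=
  Nat.card_le_card_of_injective (fun x : p.I => (⟨_, p.inv_I x.2⟩ : ↥p.inv.I)) fun a b e => Subtype.ext (by
    simpa using congrArg Subtype.val e)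

/-- The common part is covered by the coordinates it takes. -/
theorem card_I_le {K : Kind} (C : O.Chart K) (L : List ℕ) (h : ∀ x ∈ p.I, C.cv x ∈ L) :
    Nat.card ↥p.I ≤ 2 * L.length := by
  classical
  have hsub : (p.I : Set G) ⊆ ((L.map C.pre ++ L.map fun n => C.pre n * O.z).toFinset : Set G) := by
    intro x hx
    obtain ⟨hp, hpe⟩ := C.pre_spec (C.lt x)
    rw [Finset.mem_coe, List.mem_toFinset, List.mem_append]
    rcases (C.cv_eq_iff hx.1 hp).1 hpe.symm with e | e
    · exact Or.inl (List.mem_map.2 ⟨_, h x hx, e.symm⟩)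
    · exact Or.inr (List.mem_map.2 ⟨_, h x hx, e.symm⟩)
  have h1 := Set.ncard_le_ncard hsub
  rw [Set.ncard_coe_finset, ← Nat.card_coe_set_eq] at h1
  have h2 := h1.trans (List.toFinset_card_le _)
  rw [List.length_append, List.length_map, List.length_map] at h2
  change Nat.card ↥p.I ≤ _ at h2
  omega

section Natural

variable (C : O.Chart .nat)

/-- The values of the coordinates on the common part. -/
def Val (n : ℕ) : Prop := ∃ x ∈ p.I, C.cv x = n

/-- In the natural module the values fill the line or one of the stable subspaces. -/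
theorem nat_shape (h5 : C.cv p.s = 5) : (∀ x ∈ p.I, C.cv x ∈ lineN) ∨
    ∃ T ∈ stableT, (∀ t ∈ T, p.Val C t) ∧ ∀ x ∈ p.I, C.cv x ∈ T := by
  by_cases hall : ∀ x ∈ p.I, C.cv x ∈ lineN
  · exact Or.inl hall
  simp only [not_forall] at hall
  obtain ⟨x, hx, hxL⟩ := hall
  have h0 : p.Val C 0 := ⟨1, one_mem _, C.cv_one⟩
  have hadd : ∀ a b, p.Val C a → p.Val C b → p.Val C (a ^^^ b) := by
    rintro _ _ ⟨a, ha, rfl⟩ ⟨b, hb, rfl⟩
    exact ⟨a * b, mul_mem ha hb, C.cv_mul a ha.1 b hb.1⟩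
  have hsing : ∀ n, p.Val C n → Kind.q .nat n = false := by
    rintro _ ⟨a, ha, rfl⟩
    exact C.q_false ha.1 (p.I_sq ha)
  have hs5 : p.Val C 5 := ⟨p.s, ⟨p.s_mem, p.O'.ext.mem⟩, h5⟩
  have himg : ∀ w ∈ orbW, p.Val C (app (Kind.nat.mat w) (C.cv x)) := by
    intro w hw
    have hfix : app (Kind.nat.mat w) (C.inner.cv ⟨p.s, O.J_le p.s_mem⟩) = C.inner.cv ⟨p.s, O.J_le p.s_mem⟩ := by
      show app _ (C.cv p.s) = C.cv p.s
      rw [h5]; exact orbW_fix w hw
    obtain ⟨v, hv, hvs⟩ := C.inner.exists_fix_lift (x := ⟨p.s, O.J_le p.s_mem⟩) p.s_mem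
      (fun e => p.s_one (congrArg Subtype.val e)) (fun e => p.ne (congrArg Subtype.val e)) hfix
    refine ⟨_, p.conj_I (O.H₀_le v.1.2) (congrArg Subtype.val hvs) hx, ?_⟩
    exact C.conj w v.1 hv x hx.1
  have hgen : ∀ a ∈ 5 :: C.cv x :: orbW.map (fun w => app (Kind.nat.mat w) (C.cv x)), p.Val C a := by
    intro a ha
    rcases List.mem_cons.1 ha with rfl | ha
    · exact hs5
    rcases List.mem_cons.1 ha with rfl | ha
    · exact ⟨x, hx, rfl⟩
    · obtain ⟨w, hw, rfl⟩ := List.mem_map.1 ha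
      exact himg w hw
  have hspan := spanL_mem h0 hadd hgen
  have hchk := List.all_eq_true.1 orb_span (C.cv x) (List.mem_range.2 (C.lt x))
  simp only [Bool.or_eq_true, List.any_eq_true, List.all_eq_true, List.contains_iff_mem] at hchk
  rcases hchk with ((h | h) | h) | (⟨a, ha, h⟩ | ⟨T, hT, h⟩)
  · rw [C.q_false hx.1 (p.I_sq hx)] at h; exact Bool.noConfusion h
  · rw [← h5, (C.bq_false_iff hx.1 p.s_mem).2 (p.I_comm_s hx)] at h; exact Bool.noConfusion h
  · exact absurd h hxL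
  · rw [hsing a (hspan a ha)] at h; exact Bool.noConfusion h
  refine Or.inr ⟨T, hT, fun t ht => hspan t (h t ht), fun y hy => ?_⟩
  have hperp := List.all_eq_true.1 (stableT_perp T hT).2.2 (C.cv y) (List.mem_range.2 (C.lt y))
  simp only [Bool.or_eq_true, List.any_eq_true, List.contains_iff_mem] at hperp
  rcases hperp with e | ⟨t, ht, e⟩
  · exact e
  · exfalso
    obtain ⟨a, ha, rfl⟩ := hspan t (h t ht)
    refine (C.bq_iff hy.1 ha.1).1 e ?_
    calc y * a = (y * a)⁻¹ := (inv_eq_of_mul_eq_one_right (p.I_sq (mul_mem hy ha))).symm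
      _ = _ := by rw [mul_inv_rev, inv_eq_of_mul_eq_one_right (p.I_sq hy), inv_eq_of_mul_eq_one_right (p.I_sq ha)]

theorem card_Val {T : List ℕ} (hnd : T.Nodup) (hT : ∀ t ∈ T, p.Val C t) : T.length ≤ Nat.card ↥p.I := by
  classical
  choose f hf hfc using hT
  have := Nat.card_le_card_of_injective (fun t : {t // t ∈ T} => (⟨f t.1 t.2, hf t.1 t.2⟩ : ↥p.I))
    fun a b e => Subtype.ext (by
      have e' := congrArg (fun x : ↥p.I => C.cv x.1) e
      simpa [hfc] using e')
  rwa [Nat.card_eq_fintype_card, Fintype.card_of_subtype T.toFinset (fun t => List.mem_toFinset),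
    List.toFinset_card_of_nodup hnd] at this

theorem nat_false (h5 : C.cv p.s = 5) (h5' : C.cv p.inv.s = 5) : False := by
  classical
  let C' := C.conjChart p.g
  have hz5 : C'.cv O.z = 5 := by
    rw [← h5']; show C.cv _ = C.cv _
    congr 1; show _ = p.g⁻¹ * O.z * p.g⁻¹⁻¹; group
  -- the images of the common part in the other coordinates
  have hI' : ∀ x ∈ p.I, C'.cv x = C.cv (p.g⁻¹ * x * p.g) := fun _ _ => rfl
  have key : ∀ (y : ↥p.C₁) (w : List ℕ), el w = p.ψ y → ∀ n < 256, Kind.bq .nat n 5 = false →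
      ∃ x ∈ p.inv.I, C.cv x = app (Kind.nat.mat w) n ^^^ n := by
    intro y w hw n hn hb
    obtain ⟨ha, hae⟩ := C'.pre_spec hn
    have haz : C'.pre n * O.z = O.z * C'.pre n := by
      rw [← hz5, ← hae] at hb
      exact (C'.bq_false_iff ha p.z_mem').1 hb
    obtain ⟨⟨hy, hys⟩, hy₀⟩ := p.mem_C₁.1 y.2
    have hmem := p.comm_I hy hys ha haz
    refine ⟨_, p.inv_I hmem, ?_⟩
    rw [← hI' _ hmem, C'.cv_mul _ (p.O'.norm (p.O'.H₀_le hy₀) ha) _ (inv_mem ha), C'.cv_inv ha,
      C'.conj w ⟨_, hy₀⟩ hw.symm _ ha, hae]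
  have himg : ∀ (w : List ℕ) (y : ↥p.C₁), el w = p.ψ y → app (Kind.nat.mat w) 5 = 5 := by
    intro w y hw
    obtain ⟨⟨hy, -⟩, hy₀⟩ := p.mem_C₁.1 y.2
    rw [← hz5, ← C'.conj w ⟨_, hy₀⟩ hw.symm _ p.z_mem']
    congr 1
    exact mul_inv_eq_iff_eq_mul.2 (O.ext.central _ hy)
  have hom : ∀ (w : List ℕ) (v : ℕ), v < 256 →
      app (Kind.nat.mat w) (app OM v) = app OM (app (Kind.nat.mat w) v) := fun w v hv => app_mat_OM w hv
  have hrebuild : ∀ (w : List ℕ) (P Pi : List ℕ), (∀ x ∈ P, x < 256) → mu P Pi = idm → (∀ x ∈ Pi, x < 256) →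
      Kind.nat.mat w = fromImg Pi (P.map (app (Kind.nat.mat w))) := by
    intro w P Pi hP hmu hPi
    refine list_ext (mat_length _ w) ?_ fun v hv => ?_
    · rw [fromImg, mu, List.length_map]
      have := congrArg List.length hmu
      rwa [mu, List.length_map] at this
    · have h2 := app_mu P hPi v
      rw [hmu, app_idm v hv] at h2
      rw [fromImg, app_mu _ hPi, show P.map (app (Kind.nat.mat w)) = mu (Kind.nat.mat w) P from rfl,
        app_mu _ hP, ← h2]
  have hpresQ : ∀ w : List ℕ, presQ (Kind.nat.mat w) = true := fun w => List.all_eq_true.2 fun v hv =>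
    beq_iff_eq.2 (mat_q _ w (List.mem_range.1 hv))
  rcases p.inv.nat_shape C h5' with hL | ⟨T, hT, hTv, hTI⟩
  · -- the line: the image is small
    have hrange : ∀ a ∈ p.ψ.range, a = 1 ∨ a = tT := by
      rintro _ ⟨y, rfl⟩
      obtain ⟨w, hw⟩ := exists_word (p.ψ y)
      obtain ⟨hb, hperp⟩ := basis_line
      have hd : ∀ v ∈ [16, 64, 1], ∃ a ∈ lineN, app (Kind.nat.mat w) v = v ^^^ a := by
        intro v hv
        have hv' : v < 256 := by
          have : ∀ v ∈ [16, 64, 1], v < 256 := by decide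
          exact this v hv
        obtain ⟨x, hx, e⟩ := key y w hw v hv' (hperp v hv)
        refine ⟨_, e ▸ hL x hx, ?_⟩
        rw [Nat.xor_comm (app _ v) v, ← Nat.xor_assoc, Nat.xor_self, Nat.zero_xor]
      obtain ⟨a, ha, ea⟩ := hd 16 (by simp)
      obtain ⟨b, hb', eb⟩ := hd 64 (by simp)
      obtain ⟨c, hc, ec⟩ := hd 1 (by simp)
      have e5 := himg w y hw
      have hmat := hrebuild w [5, 10, 16, 32, 64, 128, 1, 2] [64, 128, 65, 130, 4, 8, 16, 32] (by decide) hb (by decide)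
      simp only [List.map_cons, List.map_nil] at hmat
      have a10 : app (Kind.nat.mat w) (app OM 5) = app OM 5 := by rw [hom w 5 (by norm_num), e5]
      have a32 : app (Kind.nat.mat w) (app OM 16) = app OM (16 ^^^ a) := by rw [hom w 16 (by norm_num), ea]
      have a128 : app (Kind.nat.mat w) (app OM 64) = app OM (64 ^^^ b) := by rw [hom w 64 (by norm_num), eb]
      have a2 : app (Kind.nat.mat w) (app OM 1) = app OM (1 ^^^ c) := by rw [hom w 1 (by norm_num), ec]
      change app (Kind.nat.mat w) 10 = 10 at a10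
      change app (Kind.nat.mat w) 32 = _ at a32
      change app (Kind.nat.mat w) 128 = _ at a128
      change app (Kind.nat.mat w) 2 = _ at a2
      rw [e5, a10, ea, a32, eb, a128, ec, a2] at hmat
      have hchk := chain_line a ha b hb' c hc
      rw [Bool.or_eq_true] at hchk
      rcases hchk with h | h
      · have := hpresQ w
        rw [hmat] at this
        simp only [Bool.not_eq_true'] at h
        exact absurd this (Bool.eq_false_iff.1 h)
      · have hmem := List.contains_iff_mem.1 h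
        rw [← hmat] at hmem
        simp only [List.mem_cons, List.not_mem_nil, or_false] at hmem
        rw [← hw]
        rcases hmem with e | e
        · exact Or.inl (el_eq_one_iff.2 e)
        · exact Or.inr (el_eq_iff.2 e)
    have h2 : Nat.card ↥p.ψ.range ≤ 2 := by
      have hsub : (p.ψ.range : Set Q4) ⊆ {1, tT} := fun a ha => by
        rcases hrange a ha with e | e <;> simp [e]
      have h := Set.ncard_le_ncard hsub (Set.toFinite _)
      rw [← Nat.card_coe_set_eq] at h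
      exact h.trans ((Set.ncard_insert_le _ _).trans (by rw [Set.ncard_singleton]))
    have hI : Nat.card ↥p.I ≤ 8 := p.card_inv_I.trans (p.inv.card_I_le C lineN hL)
    have := p.card_mul
    nlinarith
  · -- a stable subspace: some element moves it
    obtain ⟨hnd, hlen, -⟩ := stableT_perp T hT
    rw [move_cover, List.mem_map] at hT
    obtain ⟨d, hd, rfl⟩ := hT
    obtain ⟨hmu, hP, hPlt, hm2, hm4, hm10, h15, hspan⟩ := move_basis d hd
    rcases p.nat_shape C h5 with hL | ⟨S, hS, hSv, hSI⟩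
    · have h1 := p.inv.card_Val C hnd hTv
      have h2 := p.inv.card_inv_I
      have h3 := p.card_I_le C lineN hL
      have hinv : p.inv.inv = p := by rcases p with ⟨g, _, _⟩; simp [Inside.inv]
      rw [hinv] at h2
      rw [hlen] at h1
      simp only [lineN, List.length_cons, List.length_nil] at h3
      omega
    obtain ⟨-, hSlen, hSperp⟩ := stableT_perp S hS
    obtain ⟨y, hy⟩ : ∃ y : ↥p.C₁, ∃ x ∈ p.I, (y : G) * x ≠ x * y := by
      by_contra hcon
      simp only [not_exists, not_and, not_not] at hcon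
      have hsub : ∀ y : ↥p.C₁, C.cv y ∈ S := fun y => by
        have hyJ := (p.mem_C₁.1 y.2).1.1
        have hperp' := List.all_eq_true.1 hSperp (C.cv y) (List.mem_range.2 (C.lt y))
        simp only [Bool.or_eq_true, List.any_eq_true, List.contains_iff_mem] at hperp'
        rcases hperp' with e | ⟨t, ht, e⟩
        · exact e
        · obtain ⟨x, hx, rfl⟩ := hSv t ht
          exact absurd (hcon y x hx) ((C.bq_iff hyJ hx.1).1 e)
      have hle : p.C₁ ≤ p.I := fun y hy => by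
        obtain ⟨x, hx, e⟩ := hSv _ (hsub ⟨y, hy⟩)
        rcases (C.cv_eq_iff (p.mem_C₁.1 hy).1.1 hx.1).1 e.symm with e' | e' <;> rw [e']
        exacts [hx, mul_mem hx p.z_I]
      have h1 := Subgroup.card_le_of_le hle
      have h2 := p.card_I_le C S hSI
      have h3 := p.card_C₁
      omega
    obtain ⟨x₀, hx₀, hyx⟩ := hy
    obtain ⟨⟨hyJ, hys⟩, hy₀⟩ := p.mem_C₁.1 y.2
    obtain ⟨w, hw⟩ := exists_word (p.ψ y)
    have e5 := himg w y hw
    have hTimg : ∀ t ∈ d.1, ∃ x ∈ p.I, C'.cv x = t := by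
      intro t ht
      obtain ⟨x, hx, e⟩ := hTv t ht
      refine ⟨p.g * x * p.g⁻¹, ⟨?_, O.mem_conj_J.2 (by simpa [mul_assoc] using hx.1)⟩, ?_⟩
      · have := O.mem_conj_J.1 hx.2
        simpa [Inside.inv, mul_assoc] using this
      · rw [← e]; show C.cv _ = _; congr 1; group
    have hlt : ∀ t ∈ d.1, t < 256 := fun t ht => by
      obtain ⟨x, -, rfl⟩ := hTimg t ht
      exact C'.lt x
    have hmove : ∀ t ∈ d.1, ∃ a ∈ [0, 5], app (Kind.nat.mat w) t = t ^^^ a := by
      intro t ht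
      obtain ⟨x, hx, rfl⟩ := hTimg t ht
      rw [← C'.conj w ⟨_, hy₀⟩ hw.symm _ hx.2]
      rcases O.ext.conj_eq hx.1 hyJ with e | e
      · exact ⟨0, by simp, by show C'.cv ((y : G) * x * (y : G)⁻¹) = _; rw [e, Nat.xor_zero]⟩
      · exact ⟨5, by simp, by
          show C'.cv ((y : G) * x * (y : G)⁻¹) = _
          rw [e, C'.cv_mul x hx.2 _ p.z_mem', hz5]⟩
    obtain ⟨a, ha, ea⟩ := hmove _ (List.contains_iff_mem.1 hm2)
    obtain ⟨b, hb, eb⟩ := hmove _ (List.contains_iff_mem.1 hm4)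
    obtain ⟨c, hc, ec⟩ : ∃ c ∈ d.1, app (Kind.nat.mat w) 1 = 1 ^^^ c := by
      obtain ⟨x, hx, e⟩ := key y w hw 1 (by norm_num) h15
      exact ⟨_, e ▸ hTI x hx, by rw [Nat.xor_comm (app _ 1) 1, ← Nat.xor_assoc, Nat.xor_self, Nat.zero_xor]⟩
    have hPilt : ∀ x ∈ d.2.2.1, x < 256 := by
      have : ∀ d ∈ moveData, ∀ x ∈ d.2.2.1, x < 256 := by decide +kernel
      exact this d hd
    have hmat := hrebuild w d.2.1 d.2.2.1 hPlt hmu hPilt
    have h2lt := hlt _ (List.contains_iff_mem.1 hm2)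
    have h4lt := hlt _ (List.contains_iff_mem.1 hm4)
    have himgeq : d.2.1.map (app (Kind.nat.mat w)) = imgT d a b c := by
      conv_lhs => rw [hP]
      simp only [List.map_cons, List.map_nil, imgT]
      have a10 : app (Kind.nat.mat w) (app OM 5) = app OM 5 := by rw [hom w 5 (by norm_num), e5]
      have a2 : app (Kind.nat.mat w) (app OM 1) = app OM (1 ^^^ c) := by rw [hom w 1 (by norm_num), ec]
      change app (Kind.nat.mat w) 10 = 10 at a10
      change app (Kind.nat.mat w) 2 = _ at a2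
      rw [a10, a2, hom w _ h2lt, hom w _ h4lt, e5, ea, eb, ec]
    rw [himgeq] at hmat
    have hchk := move_candidates d hd a ha b hb c hc
    simp only [Bool.or_eq_true, Bool.and_eq_true, beq_iff_eq, Bool.not_eq_true', List.any_eq_true] at hchk
    rcases hchk with (⟨rfl, rfl⟩ | h) | ⟨q, hq, hcode⟩
    · -- fixes the subspace
      have hfix : ∀ t ∈ d.1, app (Kind.nat.mat w) t = t := fun t ht => by
        refine spanL_mem (P := fun n => app (Kind.nat.mat w) n = n) (app_zero _)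
          (fun a b ha hb => by rw [app_xor, ha, hb]) ?_ t (List.contains_iff_mem.1 (List.all_eq_true.1 hspan t ht))
        intro v hv
        simp only [List.mem_cons, List.not_mem_nil, or_false] at hv
        rcases hv with rfl | rfl | rfl | rfl
        · exact e5
        · rw [show (10 : ℕ) = app OM 5 from rfl, hom w 5 (by norm_num), e5]
        · rw [ea, Nat.xor_zero]
        · rw [eb, Nat.xor_zero]
      refine hyx (mul_inv_eq_iff_eq_mul.1 ?_)
      rcases O.ext.conj_eq hx₀.1 hyJ with e | e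
      · exact e
      exfalso
      have ht : C'.cv x₀ ∈ d.1 := hTI _ (p.inv_I hx₀)
      have h1 := C'.conj w ⟨_, hy₀⟩ hw.symm _ hx₀.2
      rw [show (((⟨(y : G), hy₀⟩ : ↥p.O'.H₀)) : G) * x₀ * ((⟨(y : G), hy₀⟩ : ↥p.O'.H₀) : G)⁻¹ = x₀ * O.z from e,
        C'.cv_mul x₀ hx₀.2 _ p.z_mem', hz5, hfix _ ht] at h1
      exact absurd (Nat.xor_right_injective (h1.trans (Nat.xor_zero _).symm)) (by norm_num)
    · have := hpresQ w
      rw [hmat] at this
      exact absurd this (Bool.eq_false_iff.1 h)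
    obtain ⟨hfix5, hTcomm, hne⟩ := move_words d hd q hq
    have hwq : Kind.nat.mat w = Kind.nat.mat q.1 := by
      rw [hmat]
      refine (code_inj ?_ (mat_lt .nat q.1) ?_ hcode).symm
      · rw [fromImg, mu, List.length_map]
        have := congrArg List.length hmu
        rw [mu, List.length_map] at this
        rw [this]; exact mat_length .nat q.1
      · rw [← hmat]; exact mat_lt .nat w
    -- a lift of the moving word
    have hfixz : app (Kind.nat.mat q.2) (C'.inner.cv ⟨O.z, p.O'.J_le p.z_mem'⟩) =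
        C'.inner.cv ⟨O.z, p.O'.J_le p.z_mem'⟩ := by
      show app _ (C'.cv O.z) = C'.cv O.z
      rw [hz5]; exact hfix5
    obtain ⟨v, hv, hvz⟩ := C'.inner.exists_fix_lift (x := ⟨O.z, p.O'.J_le p.z_mem'⟩) p.z_mem'
      (fun e => O.ext.ne (congrArg Subtype.val e)) (fun e => p.ne (congrArg Subtype.val e).symm) hfixz
    have hvz' : (v.1 : G) * O.z = O.z * (v.1 : G) := congrArg Subtype.val hvz
    have hvCC : (v.1 : G) ∈ CC O.z := Subgroup.mem_centralizer_singleton_iff.2 hvz'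
    have hvs : (v.1 : G) * p.s = p.s * (v.1 : G) := p.O'.comm_z (p.O'.H₀_le v.1.2)
    have hvi : (v.1 : G)⁻¹ * p.s = p.s * (v.1 : G)⁻¹ := (Commute.inv_left hvs).eq
    have hyi : (y : G)⁻¹ * p.s = p.s * (y : G)⁻¹ := (Commute.inv_left hys).eq
    have hvy : (v.1 : G)⁻¹ * (y : G)⁻¹ * (v.1 : G) ∈ p.C₁ := p.mem_C₁.2 ⟨⟨by
      simpa using O.norm (inv_mem hvCC) (inv_mem hyJ), by
      calc (v.1 : G)⁻¹ * (y : G)⁻¹ * (v.1 : G) * p.s = (v.1 : G)⁻¹ * (y : G)⁻¹ * ((v.1 : G) * p.s) := by group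
        _ = (v.1 : G)⁻¹ * ((y : G)⁻¹ * p.s) * (v.1 : G) := by rw [hvs]; group
        _ = ((v.1 : G)⁻¹ * p.s) * (y : G)⁻¹ * (v.1 : G) := by rw [hyi]; group
        _ = _ := by rw [hvi]; group⟩, mul_mem (mul_mem (inv_mem v.1.2) (inv_mem hy₀)) v.1.2⟩
    let r : ↥p.C₁ := ⟨_, hvy⟩ * y
    obtain ⟨⟨hrJ, -⟩, hr₀⟩ := p.mem_C₁.1 r.2
    obtain ⟨u, hu⟩ := exists_word (el q.1)⁻¹
    obtain ⟨v', hv'⟩ := exists_word (el q.2)⁻¹
    have helw : el w = el q.1 := el_eq_iff.2 hwq
    have hπr : p.ψ r = (el q.2)⁻¹ * (el q.1)⁻¹ * el q.2 * el q.1 := by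
      have h1 : p.ψ ⟨_, hvy⟩ = (el q.2)⁻¹ * (el q.1)⁻¹ * el q.2 := by
        show p.O'.π _ = _
        rw [← helw, hw, ← hv]
        show _ = (p.O'.π v.1)⁻¹ * (p.O'.π ⟨_, hy₀⟩)⁻¹ * p.O'.π v.1
        rw [← map_inv, ← map_inv, ← map_mul, ← map_mul]
        rfl
      rw [map_mul, h1, ← hw, helw]
    have hrel : el (v' ++ u ++ (q.2 ++ q.1)) = p.ψ r := by
      rw [hπr, el_append, el_append, el_append, hv', hu]; group
    have hrI : (r : G) ∈ p.I := by
      refine (p.mem_C₁.1 r.2).1.1 |> fun hJ => ?_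
      have hperp' := List.all_eq_true.1 hSperp (C.cv r) (List.mem_range.2 (C.lt r))
      simp only [Bool.or_eq_true, List.any_eq_true, List.contains_iff_mem] at hperp'
      rcases hperp' with e | ⟨t, ht, e⟩
      · obtain ⟨x, hx, e'⟩ := hSv _ e
        rcases (C.cv_eq_iff hJ hx.1).1 e'.symm with e'' | e'' <;> rw [e'']
        exacts [hx, mul_mem hx p.z_I]
      · exfalso
        obtain ⟨x, hx, rfl⟩ := hSv t ht
        refine (C.bq_iff hJ hx.1).1 e (mul_inv_eq_iff_eq_mul.1 ?_)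
        rcases O.ext.conj_eq hx.1 hJ with h | h
        · exact h
        exfalso
        have h1 := C'.conj _ ⟨_, hr₀⟩ hrel.symm _ hx.2
        rw [show (((⟨(r : G), hr₀⟩ : ↥p.O'.H₀)) : G) * x * ((⟨(r : G), hr₀⟩ : ↥p.O'.H₀) : G)⁻¹ = x * O.z from h,
          C'.cv_mul x hx.2 _ p.z_mem', hz5] at h1
        have htT : C'.cv x ∈ d.1 := hTI _ (p.inv_I hx)
        have hxlt : C'.cv x < 256 := C'.lt x
        have hcancel : app (Kind.nat.mat (v' ++ u ++ (q.2 ++ q.1))) (C'.cv x) = C'.cv x := by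
          have hc' : app (Kind.nat.mat (q.2 ++ q.1)) (C'.cv x) = app (Kind.nat.mat (q.1 ++ q.2)) (C'.cv x) :=
            beq_iff_eq.1 (List.all_eq_true.1 hTcomm (C'.cv x) htT)
          rw [app_mat_append _ _ _ hxlt, hc', ← app_mat_append _ _ _ hxlt,
            C'.app_of_el_eq (w' := []) (by rw [el_append, el_append, el_append, hv', hu, el_nil]; group) hxlt,
            app_mat_nil _ hxlt]
        rw [hcancel] at h1
        exact absurd (Nat.xor_right_injective (h1.trans (Nat.xor_zero _).symm)) (by norm_num)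
    have h1 : p.ψ r = 1 := (p.O'.ker _).2 hrI.2
    rw [hπr, mul_assoc, ← mul_inv_rev, inv_mul_eq_one, ← el_append, ← el_append, el_eq_iff] at h1
    replace h1 := h1.symm
    exact hne (congrArg code h1)

end Natural

section Reducible

variable {K : Kind} (C : O.Chart K) (hK : K.IsRed)
include hK

/-- In a reducible module the six-dimensional part of the common part is small. -/
theorem red_values {x : G} (hx : x ∈ p.I) : C.cv x % 64 = 0 ∨ C.cv x % 64 = C.cv p.s % 64 := by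
  have hs0 : C.cv p.s ≠ 0 := fun e => ((C.zero_iff _ p.s_mem).1 e).elim p.s_one p.ne
  have hchk := List.all_eq_true.1 (red_orbit K hK.mem) (C.cv p.s) (List.mem_range.2 (C.lt _))
  simp only [Bool.or_eq_true, beq_iff_eq, List.any_eq_true] at hchk
  rcases hchk with (h | h) | ⟨o, -, ho⟩
  · exact absurd h hs0
  · rw [C.q_false p.s_mem p.s_sq] at h; exact Bool.noConfusion h
  obtain ⟨hrep, hall⟩ := red_allowed K hK.mem
  rw [List.contains_iff_mem, hrep, List.mem_map] at ho
  obtain ⟨⟨r, sw⟩, hr, hre⟩ := ho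
  obtain ⟨hfixw, hchk⟩ := hall _ hr
  obtain ⟨k, hk⟩ := O.surj (el o)
  let p' := p.moveL k (O.H₀_le k.2)
  have hs' : p'.s = (k : G) * p.s * (k : G)⁻¹ := by
    show (k : G) * p.g * O.z * ((k : G) * p.g)⁻¹ = (k : G) * (p.g * O.z * p.g⁻¹) * (k : G)⁻¹
    group
  have hx' : (k : G) * x * (k : G)⁻¹ ∈ p'.I := by
    refine ⟨O.norm (O.H₀_le k.2) hx.1, O.mem_conj_J.2 ?_⟩
    show ((k : G) * p.g)⁻¹ * ((k : G) * x * (k : G)⁻¹) * ((k : G) * p.g) ∈ O.J
    have := O.mem_conj_J.1 hx.2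
    rwa [show ((k : G) * p.g)⁻¹ * ((k : G) * x * (k : G)⁻¹) * ((k : G) * p.g) = p.g⁻¹ * x * p.g by group]
  have hsr : C.cv p'.s = r := by rw [hs', C.conj o k hk _ p.s_mem]; exact hre.symm
  set n := C.cv ((k : G) * x * (k : G)⁻¹) with hn
  have hq : n % 64 = 0 ∨ n % 64 = r % 64 := by
    have hc := List.all_eq_true.1 hchk n (List.mem_range.2 (C.lt _))
    simp only [Bool.or_eq_true, beq_iff_eq, List.any_eq_true] at hc
    rcases hc with (((h | h) | h) | h) | ⟨w, hw, h⟩
    · rw [C.q_false hx'.1 (p'.I_sq hx')] at h; exact Bool.noConfusion h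
    · rw [← hsr, (C.bq_false_iff hx'.1 p'.s_mem).2 (p'.I_comm_s hx')] at h; exact Bool.noConfusion h
    · exact Or.inl h
    · exact Or.inr h
    · exfalso
      have hfix : app (K.mat w) (C.inner.cv ⟨p'.s, O.J_le p'.s_mem⟩) = C.inner.cv ⟨p'.s, O.J_le p'.s_mem⟩ := by
        show app _ (C.cv p'.s) = C.cv p'.s
        rw [hsr]; exact beq_iff_eq.1 (List.all_eq_true.1 hfixw w hw)
      obtain ⟨v, hv, hvs⟩ := C.inner.exists_fix_lift (x := ⟨p'.s, O.J_le p'.s_mem⟩) p'.s_mem
        (fun e => p'.s_one (congrArg Subtype.val e)) (fun e => p'.ne (congrArg Subtype.val e)) hfix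
      have hI2 := p'.conj_I (O.H₀_le v.1.2) (congrArg Subtype.val hvs) hx'
      have hcv : C.cv ((v.1 : G) * ((k : G) * x * (k : G)⁻¹) * (v.1 : G)⁻¹) = app (K.mat w) n :=
        C.conj w v.1 hv _ hx'.1
      rw [← hcv] at h
      refine (C.bq_iff hx'.1 hI2.1).1 h ?_
      have h1 := p'.I_sq (mul_mem hx' hI2)
      have h2 := p'.I_sq hx'
      have h3 := p'.I_sq hI2
      generalize (v.1 : G) * ((k : G) * x * (k : G)⁻¹) * (v.1 : G)⁻¹ = b at h1 h3 ⊢
      generalize (k : G) * x * (k : G)⁻¹ = a at h1 h2 ⊢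
      calc a * b = (a * b)⁻¹ := (inv_eq_of_mul_eq_one_right h1).symm
        _ = _ := by rw [mul_inv_rev, inv_eq_of_mul_eq_one_right h2, inv_eq_of_mul_eq_one_right h3]
  have hsplit : ∀ v < 256, app (K.mat o) v % 64 = app (K.mat o) (v % 64) := by
    intro v hv
    obtain ⟨h1, h2, h3, h4⟩ := split_six v hv
    have h5 := red_mat_six hK.mem o h1
    conv_lhs => rw [← h2, app_xor, plane_all' hK o h4 h3, Nat.xor_mod_two_pow (n := 6)]
    rw [show (2 : ℕ) ^ 6 = 64 from rfl, h3, Nat.xor_zero, Nat.mod_eq_of_lt h5]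
  rw [hn, C.conj o k hk _ hx.1, hsplit _ (C.lt _)] at hq
  rw [← hsr, hs', C.conj o k hk _ p.s_mem, hsplit _ (C.lt _)] at hq
  have hxlt : C.cv x % 64 < 64 := Nat.mod_lt _ (by norm_num)
  have hslt : C.cv p.s % 64 < 64 := Nat.mod_lt _ (by norm_num)
  rcases hq with h | h
  · exact Or.inl (C.mat_inj o (by omega) h)
  · refine Or.inr (Nat.xor_eq_zero_iff.1 (C.mat_inj o ?_ (by rw [app_xor, h, Nat.xor_self])))
    exact Nat.xor_lt_two_pow (n := 8) (by omega) (by omega)

/-- In a reducible module the image of `z` in the other coordinates has no plane part. -/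
theorem red_pure : C.cv p.inv.s < 64 := by
  by_contra hge
  let C' := C.conjChart p.g
  have hz : C'.cv O.z = C.cv p.inv.s := by
    show C.cv _ = C.cv _; congr 1; show _ = p.g⁻¹ * O.z * p.g⁻¹⁻¹; group
  have hrange : ∀ a ∈ p.ψ.range, a = 1 := by
    rintro _ ⟨y, rfl⟩
    obtain ⟨w, hw⟩ := exists_word (p.ψ y)
    obtain ⟨⟨hy, hys⟩, hy₀⟩ := p.mem_C₁.1 y.2
    set n6 := C.cv p.inv.s % 64
    have him6 : ∀ v < 64, app (K.mat w) v ^^^ v = 0 ∨ app (K.mat w) v ^^^ v = n6 := by
      intro v hv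
      obtain ⟨π0, hπ0, hb⟩ := plane_part K hK.mem _ (C.lt _) hge v hv
      have hπlt : π0 < 256 ∧ π0 % 64 = 0 := by
        simp only [List.mem_cons, List.not_mem_nil, or_false] at hπ0; rcases hπ0 with rfl | rfl | rfl | rfl <;> omega
      have hn : v ^^^ π0 < 256 := Nat.xor_lt_two_pow (n := 8) (by omega) hπlt.1
      obtain ⟨ha, hae⟩ := C'.pre_spec hn
      have haz : C'.pre (v ^^^ π0) * O.z = O.z * C'.pre (v ^^^ π0) := by
        refine (C'.bq_false_iff ha p.z_mem').1 ?_
        rw [hae, hz]; exact hb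
      have hmem := p.comm_I hy hys ha haz
      have hval := p.inv.red_values C hK (p.inv_I hmem)
      have e : C.cv (p.g⁻¹ * ((y : G) * C'.pre (v ^^^ π0) * (y : G)⁻¹ * (C'.pre (v ^^^ π0))⁻¹) * p.g) =
          app (K.mat w) v ^^^ v := by
        show C'.cv _ = _
        rw [C'.cv_mul _ (p.O'.norm (p.O'.H₀_le hy₀) ha) _ (inv_mem ha), C'.cv_inv ha,
          C'.conj w ⟨_, hy₀⟩ hw.symm _ ha, hae, app_xor, plane_all' hK w hπlt.1 hπlt.2]
        rw [Nat.xor_assoc, Nat.xor_comm π0, Nat.xor_assoc, Nat.xor_comm π0 π0, Nat.xor_self, Nat.xor_zero]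
      have hlt : app (K.mat w) v ^^^ v < 64 := Nat.xor_lt_two_pow (n := 6) (red_mat_six hK.mem w hv) hv
      rw [e, Nat.mod_eq_of_lt hlt] at hval
      exact hval
    have him : ∀ v < 256, app (K.mat w) v ^^^ v = 0 ∨ app (K.mat w) v ^^^ v = n6 := by
      intro v hv
      obtain ⟨h1, h2, h3, h4⟩ := split_six v hv
      rw [show app (K.mat w) v ^^^ v = app (K.mat w) (v % 64) ^^^ v % 64 by
        conv_lhs => rw [← h2, app_xor, plane_all' hK w h4 h3]
        generalize app (K.mat w) (v % 64) = A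
        generalize v % 64 = B
        generalize v - _ = P
        apply Nat.eq_of_testBit_eq; intro i; simp [Nat.testBit_xor]
        cases P.testBit i <;> cases B.testBit i <;> rfl]
      exact him6 _ h1
    by_contra hne
    rw [← hw] at hne
    have hsq : el w * el w = 1 := by rw [hw]; exact p.range_sq ⟨y, rfl⟩
    obtain ⟨o, ho⟩ := involution_class hsq hne
    obtain ⟨ow, how⟩ := exists_word o
    obtain ⟨wt, hwt, hwte⟩ : ∃ wt ∈ [wT, wP], el ow * el w = el wt * el ow := by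
      rcases ho with e | e
      · exact ⟨wT, by simp, by rw [how, show el wT = tT from rfl, ← e]; group⟩
      · exact ⟨wP, by simp, by rw [how, show el wP = tP from rfl, ← e]; group⟩
    rw [← el_append, ← el_append] at hwte
    have hn6 : app (K.mat ow) n6 < 256 := app_mat_lt _ _ _
    obtain ⟨u, hu, hu0, hun⟩ := im_large K hK.mem wt hwt _ hn6
    have hu' : u < 256 := List.mem_range.1 hu
    obtain ⟨oi, hoi⟩ := exists_word (el ow)⁻¹
    have hv : app (K.mat oi) u < 256 := app_mat_lt _ _ _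
    have hback : app (K.mat ow) (app (K.mat oi) u) = u := by
      rw [← app_mat_append _ _ _ hu', C.app_of_el_eq (w' := []) (by rw [el_append, hoi, mul_inv_cancel, el_nil]) hu',
        app_mat_nil _ hu']
    have e : app (K.mat wt) u ^^^ u = app (K.mat ow) (app (K.mat w) (app (K.mat oi) u) ^^^ app (K.mat oi) u) := by
      rw [app_xor, hback, ← app_mat_append _ _ _ hv, C.app_of_el_eq hwte hv, app_mat_append _ _ _ hv, hback]
    rcases him _ hv with h | h <;> rw [h] at e
    · exact hu0 (e.trans (app_zero _))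
    · exact hun e
  have h1 : Nat.card ↥p.ψ.range ≤ 1 := by
    have : p.ψ.range = ⊥ := (Subgroup.eq_bot_iff_forall _).2 hrange
    rw [this, Subgroup.card_bot]
  have h2 := p.card_I_le C [0, 64, 128, 192, C.cv p.s % 64, C.cv p.s % 64 + 64, C.cv p.s % 64 + 128,
    C.cv p.s % 64 + 192] fun x hx => by
      have := p.red_values C hK hx
      have := C.lt x
      simp only [List.mem_cons, List.not_mem_nil, or_false]
      omega
  have := p.card_mul
  simp only [List.length_cons, List.length_nil] at h2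
  nlinarith

include p C in
theorem red_false : False := by
  have hs : C.cv p.s < 64 := by
    have := p.inv.red_pure C hK
    rwa [show p.inv.inv.s = p.s by show p.g⁻¹⁻¹ * O.z * p.g⁻¹⁻¹⁻¹ = _; rw [inv_inv]; rfl] at this
  have hz' := p.red_pure C hK
  let C' := C.conjChart p.g
  have hz : C'.cv O.z = C.cv p.inv.s := by
    show C.cv _ = C.cv _; congr 1; show _ = p.g⁻¹ * O.z * p.g⁻¹⁻¹; group
  have hI : ∀ x ∈ p.I, C.cv x ∈ [0, C.cv p.s] := by
    intro x hx
    have hxv := p.red_values C hK hx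
    rw [Nat.mod_eq_of_lt hs] at hxv
    by_contra hnot
    have hge : ¬ C.cv x < 64 := fun hlt => hnot (by rw [Nat.mod_eq_of_lt hlt] at hxv; simpa using hxv)
    obtain ⟨pl, hpl, hb, horth⟩ := plane_pairing K hK.mem _ (C.lt x) hge
    have hpl' : pl < 256 := by simp only [List.mem_cons, List.not_mem_nil, or_false] at hpl; omega
    obtain ⟨hy, hye⟩ := C.pre_spec hpl'
    set y := C.pre pl
    rw [← hye] at hb
    have hnc : x * y ≠ y * x := (C.bq_iff hx.1 hy).1 hb
    have hys : y * p.s = p.s * y := (C.bq_false_iff hy p.s_mem).1 (by rw [hye]; exact horth _ hs)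
    have hyC : y ∈ CC p.O'.z := Subgroup.mem_centralizer_singleton_iff.2 hys
    have he : y * x * y⁻¹ = x * O.z := (O.ext.conj_eq hx.1 hy).resolve_left fun e =>
      hnc (mul_inv_eq_iff_eq_mul.1 e).symm
    have hact := C'.act_spec hyC hx.2
    rw [he, C'.cv_mul x hx.2 _ p.z_mem', hz] at hact
    have hfixz : C'.act y (C.cv p.inv.s) = C.cv p.inv.s := by
      rw [← hz, ← C'.act_spec hyC p.z_mem']
      congr 1
      exact mul_inv_eq_iff_eq_mul.2 (O.ext.central _ hy)
    have hval := p.inv.red_values C hK (p.inv_I hx)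
    rw [Nat.mod_eq_of_lt hz'] at hval
    change C'.cv x % 64 = 0 ∨ C'.cv x % 64 = C.cv p.inv.s at hval
    obtain ⟨h1, h2, h3, h4⟩ := split_six _ (C'.lt x)
    have hfix6 : C'.act y (C'.cv x % 64) = C'.cv x % 64 := by
      rcases hval with e | e <;> rw [e]
      exacts [C'.act_zero hyC, hfixz]
    have hp' := C'.act_plane' hK hyC h4 h3
    have hexp : C'.act y (C'.cv x) = C'.cv x % 64 ^^^ C'.act y (C'.cv x - C'.cv x % 64) := by
      conv_lhs => rw [← h2, C'.act_add hyC (by omega) h4, hfix6]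
    rw [hexp] at hact
    have hs0 : C.cv p.inv.s ≠ 0 := fun e => ((C.zero_iff _ p.inv.mem).1 e).elim p.inv.s_one p.inv.ne
    refine hs0 ?_
    have hlt1 := C'.act_lt y (C'.cv x - C'.cv x % 64)
    have hxm : (C'.cv x % 64 ^^^ C'.act y (C'.cv x - C'.cv x % 64)) % 64 = C'.cv x % 64 := by
      rw [show (64 : ℕ) = 2 ^ 6 from rfl, Nat.xor_mod_two_pow, show (2 : ℕ) ^ 6 = 64 from rfl, hp', Nat.xor_zero,
        Nat.mod_mod]
    rw [← hact, show (64 : ℕ) = 2 ^ 6 from rfl, Nat.xor_mod_two_pow, show (2 : ℕ) ^ 6 = 64 from rfl,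
      Nat.mod_eq_of_lt hz'] at hxm
    exact Nat.xor_right_injective (hxm.trans (Nat.xor_zero _).symm)
  have hcard := p.card_I_le C _ hI
  have := p.card_mul
  simp only [List.length_cons, List.length_nil] at hcard
  have hr : 32 ≤ Nat.card ↥p.ψ.range := by nlinarith
  haveI : Fact (Nat.Prime 2) := ⟨Nat.prime_two⟩
  obtain ⟨m, hm⟩ := IsPGroup.iff_card.1 p.range_two
  have hm5 : 5 ≤ m := by
    by_contra h
    have : 2 ^ m ≤ 2 ^ 4 := Nat.pow_le_pow_right (by norm_num) (by omega)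
    rw [hm] at hr; omega
  obtain ⟨P, hP⟩ := Sylow.exists_subgroup_card_pow_prime (G := ↥p.ψ.range) 2 (n := 5)
    (hm ▸ pow_dvd_pow 2 hm5)
  refine no_elem32 (P := P.map p.ψ.range.subtype) ?_ ?_
  · rw [Subgroup.card_map_of_injective (Subgroup.subtype_injective _), hP]; norm_num
  · rintro _ ⟨a, -, rfl⟩
    exact p.range_sq a.2

end Reducible

end Inside

variable {O : Outer G}

/-- No further conjugate of the involution lies in the extraspecial group. -/
theorem onlyZ {K : Kind} (C : O.Chart K) (g : G) (hg : g * O.z * g⁻¹ ∈ O.J) : g * O.z * g⁻¹ = O.z := by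
  by_contra hne
  let p : O.Inside := ⟨g, hg, hne⟩
  rcases K with _ | _ | _
  · -- move both conjugates to the representative
    have move : ∀ q : O.Inside, ∃ k : ↥O.H₀, C.cv ((k : G) * q.s * (k : G)⁻¹) = 5 := fun q => by
      have h0 : C.cv q.s ≠ 0 := fun e => ((C.zero_iff _ q.mem).1 e).elim q.s_one q.ne
      obtain ⟨o, -, ho⟩ := List.any_eq_true.1
        ((orbN_cover _ (C.lt _) (C.q_false q.mem q.s_sq)).resolve_left h0)
      obtain ⟨k, hk⟩ := O.surj (el o)
      exact ⟨k, by rw [C.conj o k hk _ q.s_mem]; exact beq_iff_eq.1 ho⟩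
    obtain ⟨k, hk⟩ := move p
    obtain ⟨k', hk'⟩ := move p.inv
    refine ((p.moveL k (O.H₀_le k.2)).moveR (k' : G)⁻¹ (inv_mem (O.H₀_le k'.2))).nat_false C ?_ ?_
    · rw [← hk]; congr 1
      show (k : G) * g * (k' : G)⁻¹ * O.z * ((k : G) * g * (k' : G)⁻¹)⁻¹ = (k : G) * (g * O.z * g⁻¹) * (k : G)⁻¹
      calc _ = (k : G) * g * ((k' : G)⁻¹ * O.z) * (k' : G) * g⁻¹ * (k : G)⁻¹ := by group
        _ = _ := by rw [O.comm_z (inv_mem (O.H₀_le k'.2))]; group
    · rw [← hk']; congr 1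
      show ((k : G) * g * (k' : G)⁻¹)⁻¹ * O.z * ((k : G) * g * (k' : G)⁻¹)⁻¹⁻¹ =
        (k' : G) * (g⁻¹ * O.z * g⁻¹⁻¹) * (k' : G)⁻¹
      calc _ = (k' : G) * g⁻¹ * ((k : G)⁻¹ * O.z) * (k : G) * g * (k' : G)⁻¹ := by group
        _ = _ := by rw [O.comm_z (inv_mem (O.H₀_le k.2))]; group
  · exact p.red_false C (Or.inl rfl)
  · exact p.red_false C (Or.inr rfl)

end Outer

end Cfsg.Agent.Fus.U62Red
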