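import Cfsg.Agent.Lib.Fus.U62Red.AutParity
import Cfsg.Agent.Lib.Fus.U62Red.AutOnly

/-!
Recognition of `U₆(2)`, the reduction for a centraliser with a larger quotient: in the natural module the
transfer moves an outer element and kills the extraspecial group.
-/

set_option autoImplicit false
set_option linter.unusedSectionVars false

namespace Cfsg.Agent.Fus.U62Red

open Cfsg.Agent.Fus.U62Rec (Q4 CC)
open Cfsg.Agent.Invol.ExtraEight (app idm app_lt app_xor app_zero app_idm)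

variable {G : Type*} [Group G] [Finite G]

namespace Outer

/-- An outer element acting as the field automorphism, with a commuting element of order five. -/
structure Sigma (O : Outer G) where
  C : O.Chart .nat
  u : G
  v : G
  u_mem : u ∈ CC O.z
  u_out : u ∉ O.H₀
  v_mem : v ∈ O.H₀
  v_π : O.π ⟨v, v_mem⟩ = el fiveN
  comm : u * v = v * u
  act_u : ∀ n < 256, C.act u n = app sigN n

theorem exists_sigma {O : Outer G} (C : O.Chart .nat) : Nonempty O.Sigma := by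
  obtain ⟨C', h, hh, ho, hact⟩ := C.exists_sigma_nat
  obtain ⟨hs, hsig⟩ := sigN_facts
  obtain ⟨v, hv, -, u, hu, huo, huv, hua⟩ := C'.exists_commuting (five := fiveN)
    (el_eq_one_iff.2 five_facts.1) hh ho (fun n hn => by
      rw [hact _ (app_mat_lt _ _ _), hact n hn]
      exact (hsig n hn).2.2.2)
  exact ⟨⟨C', u, v, hu, huo, v.2, hv, huv, fun n hn => (hua n hn).trans (hact n hn)⟩⟩

namespace Sigma

variable {O : Outer G} (S : O.Sigma)

theorem act_v {n : ℕ} (hn : n < 256) : S.C.act S.v n = app (Kind.nat.mat fiveN) n :=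
  S.C.act_mem S.v_mem S.v_π hn

theorem sig_sig {n : ℕ} (hn : n < 256) : app sigN (app sigN n) = n := (sigN_facts.2 n hn).1

theorem sig_lt (n : ℕ) : app sigN n < 256 := app_lt sigN_facts.1 n

theorem act_u_inv {n : ℕ} (hn : n < 256) : S.C.act S.u⁻¹ n = app sigN n := by
  have h := S.C.act_inv_act S.u_mem (n := app sigN n) (sig_lt n)
  rwa [S.act_u _ (sig_lt n), sig_sig hn] at h

theorem u_sq : S.u * S.u = 1 ∨ S.u * S.u = O.z := by
  have hC := mul_mem S.u_mem S.u_mem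
  have hJ : S.u * S.u ∈ O.J := O.mem_of_trivial fun x hx => (S.C.cv_eq_iff (O.norm hC hx) hx).1 (by
    rw [S.C.act_spec hC hx, S.C.act_mul S.u_mem S.u_mem (S.C.lt x), S.act_u _ (S.C.lt x), S.act_u _ (sig_lt _),
      sig_sig (S.C.lt x)])
  have hfix : app (Kind.nat.mat fiveN) (S.C.cv (S.u * S.u)) = S.C.cv (S.u * S.u) := by
    rw [← S.act_v (S.C.lt _), ← S.C.act_spec (O.H₀_le S.v_mem) hJ]
    congr 1
    calc S.v * (S.u * S.u) * S.v⁻¹ = S.v * S.u * S.u * S.v⁻¹ := by group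
      _ = S.u * S.v * S.u * S.v⁻¹ := by rw [← S.comm]
      _ = S.u * (S.v * S.u) * S.v⁻¹ := by group
      _ = S.u * S.u := by rw [← S.comm]; group
  exact (S.C.zero_iff _ hJ).1 (fiveN_fixed _ (S.C.lt _) hfix)

/-- The preimage of the fixed space. -/
def A : Subgroup G where
  carrier := {x | x ∈ O.J ∧ app sigN (S.C.cv x) = S.C.cv x}
  one_mem' := ⟨one_mem _, by rw [S.C.cv_one, app_zero]⟩
  mul_mem' := by
    rintro a b ⟨ha, ha'⟩ ⟨hb, hb'⟩
    exact ⟨mul_mem ha hb, by rw [S.C.cv_mul a ha b hb, app_xor, ha', hb']⟩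
  inv_mem' := by
    rintro a ⟨ha, ha'⟩
    exact ⟨inv_mem ha, by rw [S.C.cv_inv ha]; exact ha'⟩

theorem mem_A {x : G} : x ∈ S.A ↔ x ∈ O.J ∧ app sigN (S.C.cv x) = S.C.cv x := Iff.rfl

theorem A_le : S.A ≤ O.J := fun _ h => h.1

theorem A_CC : S.A ≤ CC O.z := S.A_le.trans O.J_le_CC

theorem z_A : O.z ∈ S.A := S.mem_A.2 ⟨O.ext.mem, by rw [S.C.cv_z, app_zero]⟩

theorem cv_fixN {x : G} (hx : x ∈ S.A) : S.C.cv x ∈ fixN := fixN_mem _ (S.C.lt x) hx.2

theorem A_sq {x : G} (hx : x ∈ S.A) : x * x = 1 :=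
  S.C.sq_one hx.1 (fixN_facts _ (S.cv_fixN hx)).2.2.1

theorem A_comm {x y : G} (hx : x ∈ S.A) (hy : y ∈ S.A) : x * y = y * x :=
  (S.C.bq_false_iff hx.1 hy.1).1 ((fixN_facts _ (S.cv_fixN hx)).2.2.2.1 _ (S.cv_fixN hy))

/-- Every element of the fixed space is a commutator with the element of order five, up to the centre. -/
theorem A_eq {a : G} (ha : a ∈ S.A) : ∃ m ∈ S.A,
    a = S.v * m * S.v⁻¹ * m⁻¹ ∨ a = S.v * m * S.v⁻¹ * m⁻¹ * O.z := by
  obtain ⟨n, hn, hne⟩ := (fixN_facts _ (S.cv_fixN ha)).2.2.2.2.1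
  obtain ⟨hn256, hnσ, -⟩ := fixN_facts n hn
  obtain ⟨m, hm, hme⟩ := S.C.surj n hn256
  have hvm := O.norm (O.H₀_le S.v_mem) hm
  refine ⟨m, S.mem_A.2 ⟨hm, by rw [hme]; exact hnσ⟩, (S.C.cv_eq_iff ha.1 (mul_mem hvm (inv_mem hm))).1 ?_⟩
  rw [S.C.cv_mul _ hvm _ (inv_mem hm), S.C.cv_inv hm, S.C.act_spec (O.H₀_le S.v_mem) hm, hme, S.act_v hn256, hne]

theorem u_A {a : G} (ha : a ∈ S.A) : S.u * a = a * S.u := by
  obtain ⟨m, hm, he⟩ := S.A_eq ha
  have hv := O.comm_z (O.H₀_le S.v_mem)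
  have huz := O.comm_z S.u_mem
  have hmem := O.norm S.u_mem hm.1
  have hum : S.u * m * S.u⁻¹ = m ∨ S.u * m * S.u⁻¹ = m * O.z := (S.C.cv_eq_iff hmem hm.1).1 (by
    rw [S.C.act_spec S.u_mem hm.1, S.act_u _ (S.C.lt m), hm.2])
  have hc : S.u * (S.v * m * S.v⁻¹ * m⁻¹) * S.u⁻¹ = S.v * m * S.v⁻¹ * m⁻¹ := by
    have e1 : S.u * S.v⁻¹ * S.u⁻¹ = S.v⁻¹ := by
      rw [mul_inv_eq_iff_eq_mul, eq_inv_mul_iff_mul_eq, ← mul_assoc, ← S.comm, mul_inv_cancel_right]
    have e2 : S.u * (S.v * m * S.v⁻¹ * m⁻¹) * S.u⁻¹ =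
        S.u * S.v * S.u⁻¹ * (S.u * m * S.u⁻¹) * (S.u * S.v⁻¹ * S.u⁻¹) * (S.u * m * S.u⁻¹)⁻¹ := by group
    rw [e2, e1, S.comm, mul_inv_cancel_right]
    rcases hum with e | e <;> rw [e]
    calc S.v * (m * O.z) * S.v⁻¹ * (m * O.z)⁻¹ = S.v * m * (O.z * S.v⁻¹) * O.z⁻¹ * m⁻¹ := by group
      _ = S.v * m * (S.v⁻¹ * O.z) * O.z⁻¹ * m⁻¹ := by rw [O.comm_z (inv_mem (O.H₀_le S.v_mem))]
      _ = _ := by group
  rw [mul_inv_eq_iff_eq_mul] at hc
  rcases he with rfl | rfl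
  · exact hc
  · rw [← mul_assoc, hc, mul_assoc, huz, ← mul_assoc]

/-- An element centralising the fixed space modulo inner ones. -/
theorem cent {d : G} (hd : d ∈ CC O.z) (hcent : ∀ a ∈ S.A, d * a = a * d) : d ∈ S.A ∨ S.u * d ∈ S.A := by
  have inner : ∀ d ∈ O.H₀, (∀ a ∈ S.A, d * a = a * d) → d ∈ S.A := by
    intro d hd0 hcent
    have hdC := O.H₀_le hd0
    obtain ⟨w, hw⟩ := exists_word (O.π ⟨d, hd0⟩)
    have hW : ∀ n ∈ fixN, app (Kind.nat.mat w) n = n := fun n hn => by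
      obtain ⟨hlt, hσ, -⟩ := fixN_facts n hn
      obtain ⟨x, hx, hxe⟩ := S.C.surj n hlt
      have hxA : x ∈ S.A := S.mem_A.2 ⟨hx, by rw [hxe]; exact hσ⟩
      rw [← S.C.act_mem hd0 hw.symm hlt, ← hxe, ← S.C.act_spec hdC hx, mul_inv_eq_iff_eq_mul.2 (hcent x hxA)]
    have hall : ∀ n < 256, app (Kind.nat.mat w) n = n := fun n hn =>
      (isLin_mat _ w).ext (g := fun v => v) ⟨fun _ h => h, fun _ _ _ _ => rfl⟩ (fun i hi => by
        obtain ⟨a, ha, b, hb, e⟩ := fixN_span i hi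
        show _ = 1 <<< i
        rw [← e, app_xor, app_mat_OM w (fixN_facts b hb).1, hW a ha, hW b hb]) hn
    have hdJ : d ∈ O.J := O.mem_of_trivial fun x hx => (S.C.cv_eq_iff (O.norm hdC hx) hx).1 (by
      rw [S.C.act_spec hdC hx, S.C.act_mem hd0 hw.symm (S.C.lt x), hall _ (S.C.lt x)])
    refine S.mem_A.2 ⟨hdJ, fixN_perp _ (S.C.lt d) fun n hn => ?_⟩
    obtain ⟨hlt, hσ, -⟩ := fixN_facts n hn
    obtain ⟨x, hx, hxe⟩ := S.C.surj n hlt
    rw [← hxe]
    exact (S.C.bq_false_iff hdJ hx).2 (hcent x (S.mem_A.2 ⟨hx, by rw [hxe]; exact hσ⟩))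
  by_cases h : d ∈ O.H₀
  · exact Or.inl (inner d h hcent)
  · exact Or.inr (inner _ (O.two _ S.u_mem S.u_out _ hd h) fun a ha => by
      rw [mul_assoc, hcent a ha, ← mul_assoc, S.u_A ha, mul_assoc])

theorem uu_A : S.u * S.u ∈ S.A := by
  rcases S.u_sq with e | e <;> rw [e]
  exacts [one_mem _, S.z_A]

/-- The abelian two-group of the element and the fixed space. -/
def P : Subgroup G where
  carrier := {x | x ∈ S.A ∨ S.u * x ∈ S.A}
  one_mem' := Or.inl (one_mem _)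
  mul_mem' := by
    rintro a b (ha | ha) (hb | hb)
    · exact Or.inl (mul_mem ha hb)
    · exact Or.inr (by rw [← mul_assoc, S.u_A ha, mul_assoc]; exact mul_mem ha hb)
    · exact Or.inr (by rw [← mul_assoc]; exact mul_mem ha hb)
    · refine Or.inl ?_
      have h := mul_mem (inv_mem S.uu_A) (mul_mem ha hb)
      have hu' : S.u * a * S.u = S.u * (S.u * a) := (S.u_A ha).symm
      rw [show (S.u * S.u)⁻¹ * (S.u * a * (S.u * b)) = (S.u * S.u)⁻¹ * (S.u * a * S.u) * b by group, hu'] at h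
      rwa [show (S.u * S.u)⁻¹ * (S.u * (S.u * a)) * b = a * b by group] at h
  inv_mem' := by
    rintro a (ha | ha)
    · exact Or.inl (inv_mem ha)
    · refine Or.inr ?_
      have hb : S.u * (S.u * a)⁻¹ = (S.u * a)⁻¹ * S.u := S.u_A (inv_mem ha)
      rw [show S.u * a⁻¹ = S.u * (S.u * a)⁻¹ * S.u by group, hb, mul_assoc]
      exact mul_mem (inv_mem ha) S.uu_A

theorem A_le_P : S.A ≤ S.P := fun _ h => Or.inl h

theorem P_CC : S.P ≤ CC O.z := by
  rintro x (h | h)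
  · exact S.A_CC h
  · simpa using mul_mem (inv_mem S.u_mem) (S.A_CC h)

theorem P_u : ∀ p ∈ S.P, p * S.u = S.u * p := by
  rintro x (h | h)
  · exact (S.u_A h).symm
  · exact mul_left_cancel (a := S.u) (by rw [← mul_assoc]; exact (S.u_A h).symm)

theorem P_two : IsPGroup 2 ↥S.P := by
  rintro ⟨x, hx⟩
  refine ⟨2, Subtype.ext ?_⟩
  show x ^ 4 = 1
  rw [show x ^ 4 = (x * x) * (x * x) by simp [pow_succ, mul_assoc]]
  rcases hx with h | h
  · rw [S.A_sq h, one_mul]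
  · have hxu := S.P_u x (Or.inr h)
    have h2 : S.u * S.u * (x * x) = 1 := by
      calc S.u * S.u * (x * x) = S.u * (S.u * x) * x := by group
        _ = S.u * (x * S.u) * x := by rw [hxu]
        _ = S.u * x * (S.u * x) := by group
        _ = 1 := S.A_sq h
    rw [eq_inv_of_mul_eq_one_right h2]
    rcases S.u_sq with e | e <;> simp [e, inv_eq_of_mul_eq_one_right O.ext.zz, O.ext.zz]

/-- A lift of a word of order three commuting with the field automorphism, commuting with the outer element. -/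
theorem lift_tri {w : List ℕ} (hw : w ∈ triN) :
    ∃ k ∈ CC O.z, k * S.u = S.u * k ∧ ∀ n < 256, S.C.act k n = app (Kind.nat.mat w) n := by
  obtain ⟨h3, hcomm⟩ := triN_facts w hw
  obtain ⟨m, hm⟩ := O.surj (el w)
  have hmC := O.H₀_le m.2
  have hmact : ∀ n < 256, S.C.act (m : G) n = app (Kind.nat.mat w) n := fun n hn => S.C.act_mem m.2 hm hn
  have hE : (m : G) * S.u * (m : G)⁻¹ * S.u⁻¹ ∈ CC O.z :=
    mul_mem (mul_mem (mul_mem hmC S.u_mem) (inv_mem hmC)) (inv_mem S.u_mem)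
  have hinv : ∀ n < 256, S.C.act (m : G)⁻¹ (app sigN n) = app sigN (S.C.act (m : G)⁻¹ n) := fun n hn => by
    have hlt := S.C.act_lt (m : G)⁻¹ n
    conv_lhs => rw [← S.C.act_act_inv hmC hn, hmact _ hlt, hcomm _ hlt, ← hmact _ (sig_lt _)]
    rw [S.C.act_inv_act hmC (sig_lt _)]
  set e := (m : G) * S.u * (m : G)⁻¹ * S.u⁻¹ with he
  have heJ : e ∈ O.J := O.mem_of_trivial fun x hx => (S.C.cv_eq_iff (O.norm hE hx) hx).1 (by
    have hx' := S.C.lt x
    rw [S.C.act_spec hE hx, he, S.C.act_mul (mul_mem (mul_mem hmC S.u_mem) (inv_mem hmC)) (inv_mem S.u_mem) hx',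
      S.act_u_inv hx', S.C.act_mul (mul_mem hmC S.u_mem) (inv_mem hmC) (sig_lt _), hinv _ hx',
      S.C.act_mul hmC S.u_mem (sig_lt _), S.act_u _ (sig_lt _), sig_sig (S.C.act_lt _ _),
      S.C.act_act_inv hmC hx'])
  have hee : e * (S.u * e * S.u⁻¹) = 1 := by
    have h1 : (m : G) * (S.u * S.u) * (m : G)⁻¹ = S.u * S.u := by
      rcases S.u_sq with h | h <;> rw [h]
      · group
      · rw [O.comm_z hmC]; group
    rw [he, show (m : G) * S.u * (m : G)⁻¹ * S.u⁻¹ *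
      (S.u * ((m : G) * S.u * (m : G)⁻¹ * S.u⁻¹) * S.u⁻¹) =
      ((m : G) * (S.u * S.u) * (m : G)⁻¹) * (S.u * S.u)⁻¹ by group, h1, mul_inv_cancel]
  have heσ : app sigN (S.C.cv e) = S.C.cv e := by
    have h0 := congrArg S.C.cv hee
    rw [S.C.cv_mul _ heJ _ (O.norm S.u_mem heJ), S.C.cv_one, S.C.act_spec S.u_mem heJ, S.act_u _ (S.C.lt _)] at h0
    exact (Nat.xor_eq_zero_iff.1 h0).symm
  obtain ⟨y0, hy0, hy0e⟩ := (fixN_facts _ (fixN_mem _ (S.C.lt e) heσ)).2.2.2.2.2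
  obtain ⟨y, hy, hye⟩ := S.C.surj y0 (List.mem_range.1 hy0)
  have hyC := O.J_le_CC hy
  have ht : y * (S.u * y⁻¹ * S.u⁻¹) ∈ O.J := mul_mem hy (O.norm S.u_mem (inv_mem hy))
  have hte : e = y * (S.u * y⁻¹ * S.u⁻¹) ∨ e = y * (S.u * y⁻¹ * S.u⁻¹) * O.z := (S.C.cv_eq_iff heJ ht).1 (by
    rw [S.C.cv_mul _ hy _ (O.norm S.u_mem (inv_mem hy)), S.C.act_spec S.u_mem (inv_mem hy), S.C.cv_inv hy, hye,
      S.act_u _ (List.mem_range.1 hy0), hy0e])
  set k0 := y⁻¹ * (m : G) with hk0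
  have hk0C : k0 ∈ CC O.z := mul_mem (inv_mem hyC) hmC
  have hk0u : k0 * S.u * k0⁻¹ = S.u ∨ k0 * S.u * k0⁻¹ = S.u * O.z := by
    have hz1 := O.comm_z S.u_mem
    have hz2 := O.comm_z hyC
    rw [show k0 * S.u * k0⁻¹ = y⁻¹ * (e * S.u) * y by rw [hk0, he]; group]
    rcases hte with h | h <;> rw [h]
    · left; group
    · right
      calc y⁻¹ * (y * (S.u * y⁻¹ * S.u⁻¹) * O.z * S.u) * y = S.u * y⁻¹ * S.u⁻¹ * (O.z * S.u) * y := by group
        _ = S.u * y⁻¹ * (O.z * y) := by rw [← hz1]; group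
        _ = S.u * O.z := by rw [← hz2]; group
  have hk2 : k0 * k0 * S.u = S.u * (k0 * k0) := by
    rw [← mul_inv_eq_iff_eq_mul, show k0 * k0 * S.u * (k0 * k0)⁻¹ = k0 * (k0 * S.u * k0⁻¹) * k0⁻¹ by group]
    rcases hk0u with h | h <;> rw [h]
    · exact h
    · rw [show k0 * (S.u * O.z) * k0⁻¹ = k0 * S.u * (O.z * k0⁻¹) by group, ← O.comm_z (inv_mem hk0C),
        ← mul_assoc, h, O.mul_z_z]
  refine ⟨k0 * k0 * (k0 * k0), mul_mem (mul_mem hk0C hk0C) (mul_mem hk0C hk0C), ?_, fun n hn => ?_⟩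
  · rw [mul_assoc, hk2, ← mul_assoc, hk2, mul_assoc]
  · have hk0act : ∀ n < 256, S.C.act k0 n = app (Kind.nat.mat w) n := fun n hn => by
      rw [S.C.act_mul (inv_mem hyC) hmC hn, hmact n hn, S.C.act_mem (w := []) (inv_mem (O.J_le hy))
        (by rw [el_nil]; exact (O.ker _).2 (inv_mem hy)) (app_mat_lt _ _ _), app_mat_nil _ (app_mat_lt _ _ _)]
    have h4 : el (w ++ w ++ w ++ w) = el w := by
      rw [el_append, el_eq_one_iff.2 h3, one_mul]
    have e := S.C.app_of_el_eq h4 hn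
    rw [app_mat_append _ _ _ hn, app_mat_append _ _ _ (app_mat_lt _ _ _),
      app_mat_append _ _ _ (app_mat_lt _ _ _)] at e
    rw [S.C.act_mul (mul_mem hk0C hk0C) (mul_mem hk0C hk0C) hn, S.C.act_mul hk0C hk0C hn,
      S.C.act_mul hk0C hk0C (S.C.act_lt _ _), hk0act n hn, hk0act _ (app_mat_lt _ _ _),
      hk0act _ (app_mat_lt _ _ _), hk0act _ (app_mat_lt _ _ _)]
    exact e

/-- The twist of the outer element by an element of the extraspecial group. -/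
def tw (y : G) : G := y * S.u * y⁻¹ * S.u⁻¹

theorem tw_A {y : G} (hy : y ∈ O.J) : S.tw y ∈ S.A ∧ S.C.cv (S.tw y) = S.C.cv y ^^^ app sigN (S.C.cv y) := by
  have hn := O.norm S.u_mem (inv_mem hy)
  have e : S.tw y = y * (S.u * y⁻¹ * S.u⁻¹) := by rw [tw]; group
  have hcv : S.C.cv (S.tw y) = S.C.cv y ^^^ app sigN (S.C.cv y) := by
    rw [e, S.C.cv_mul _ hy _ hn, S.C.act_spec S.u_mem (inv_mem hy), S.C.cv_inv hy, S.act_u _ (S.C.lt y)]
  refine ⟨S.mem_A.2 ⟨by rw [e]; exact mul_mem hy hn, ?_⟩, hcv⟩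
  rw [hcv, app_xor, sig_sig (S.C.lt y), Nat.xor_comm]

theorem tw_mul (a b : G) : S.tw (a * b) = a * S.tw b * a⁻¹ * S.tw a := by simp only [tw]; group

theorem tw_z {y : G} (hy : y ∈ O.J) : S.tw (y * O.z) = S.tw y := by
  rw [tw, tw, show y * O.z * S.u * (y * O.z)⁻¹ = y * (O.z * S.u) * O.z⁻¹ * y⁻¹ by group, ← O.comm_z S.u_mem]
  group

/-- At a conjugate equal to the outer element or its product with the central involution the fixed space is
inner. -/
theorem inner_of_conj {g : G} (hg : g * O.z * g⁻¹ = S.u ∨ g * O.z * g⁻¹ = S.u * O.z) :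
    S.u ∈ (O.conj g).H₀ ∧ ∀ a ∈ S.A, a ∈ (O.conj g).H₀ := by
  set O' := O.conj g with hO'
  have hz' : O'.z = S.u ∨ O'.z = S.u * O.z := hg
  have hC : ∀ k ∈ CC O.z, k * S.u = S.u * k → k ∈ CC O'.z := fun k hk hku => by
    refine Subgroup.mem_centralizer_singleton_iff.2 ?_
    rcases hz' with e | e <;> rw [e]
    · exact hku
    · rw [← mul_assoc, hku, mul_assoc, O.comm_z hk, ← mul_assoc]
  have huC : S.u ∈ CC O'.z := hC _ S.u_mem rfl
  have hzC : O.z ∈ CC O'.z := hC _ (O.J_le_CC O.ext.mem) (O.comm_z S.u_mem).symm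
  have hAC : ∀ a ∈ S.A, a ∈ CC O'.z := fun a ha => hC a (S.A_CC ha) (S.u_A ha).symm
  -- the parity of the twists
  let F : ℕ → Multiplicative (ZMod 2) := fun n => O'.par (S.tw (S.C.pre n))
  have hF : ∀ y ∈ O.J, O'.par (S.tw y) = F (S.C.cv y) := fun y hy => by
    obtain ⟨hp, hpe⟩ := S.C.pre_spec (S.C.lt y)
    show _ = O'.par (S.tw (S.C.pre (S.C.cv y)))
    rcases (S.C.cv_eq_iff hp hy).1 hpe with e | e <;> rw [e]
    rw [S.tw_z hy]
  have hadd : ∀ a < 256, ∀ b < 256, F (a ^^^ b) =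
      (if Kind.bq .nat a (b ^^^ app sigN b) then O'.par O.z else 1) * F b * F a := by
    intro a ha b hb
    obtain ⟨hx, hxe⟩ := S.C.pre_spec ha
    obtain ⟨hy, hye⟩ := S.C.pre_spec hb
    obtain ⟨htA, htc⟩ := S.tw_A hy
    have h := hF _ (mul_mem hx hy)
    rw [S.C.cv_mul _ hx _ hy, hxe, hye] at h
    rw [← h, S.tw_mul]
    rw [hye] at htc
    show _ = _ * O'.par (S.tw (S.C.pre b)) * O'.par (S.tw (S.C.pre a))
    have hconj : S.C.pre a * S.tw (S.C.pre b) * (S.C.pre a)⁻¹ =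
        (if Kind.bq .nat a (b ^^^ app sigN b) then O.z else 1) * S.tw (S.C.pre b) := by
      cases hb' : Kind.bq .nat a (b ^^^ app sigN b)
      · rw [if_neg (by simp), one_mul, mul_inv_eq_iff_eq_mul]
        exact (S.C.bq_false_iff hx htA.1).1 (by rw [hxe, htc]; exact hb')
      · rw [if_pos rfl]
        have hne : S.C.pre a * S.tw (S.C.pre b) ≠ S.tw (S.C.pre b) * S.C.pre a :=
          (S.C.bq_iff hx htA.1).1 (by rw [hxe, htc]; exact hb')
        rw [((O.ext.conj_cases htA.1 hx).resolve_left hne).2, O.ext.central _ htA.1]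
    have ht' : O'.z = O'.z := rfl
    rw [hconj]
    have hifC : (if Kind.bq .nat a (b ^^^ app sigN b) then O.z else 1) ∈ CC O'.z := by
      split
      exacts [hzC, one_mem _]
    rw [O'.par_mul (mul_mem hifC (hAC _ htA)) (hAC _ (S.tw_A hx).1), O'.par_mul hifC (hAC _ htA)]
    cases Kind.bq .nat a (b ^^^ app sigN b)
    · simp [(O'.par_eq_one (one_mem _)).2 (one_mem _)]
    · simp
  have hk : ∀ w ∈ triN, ∀ n < 256, F (app (Kind.nat.mat w) n) = F n := by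
    intro w hw n hn
    obtain ⟨k, hk, hku, hkact⟩ := S.lift_tri hw
    obtain ⟨hp, hpe⟩ := S.C.pre_spec hn
    have h := hF _ (O.norm hk hp)
    rw [S.C.act_spec hk hp, hpe, hkact n hn] at h
    have h1 : k⁻¹ * S.u * k = S.u := by rw [mul_assoc, ← hku, inv_mul_cancel_left]
    have h2 : k⁻¹ * S.u⁻¹ = S.u⁻¹ * k⁻¹ := by rw [← mul_inv_rev, ← mul_inv_rev, hku]
    rw [← h, show S.tw (k * S.C.pre n * k⁻¹) = k * S.tw (S.C.pre n) * k⁻¹ by
      rw [tw, tw, show k * S.C.pre n * k⁻¹ * S.u * (k * S.C.pre n * k⁻¹)⁻¹ * S.u⁻¹ =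
        k * S.C.pre n * (k⁻¹ * S.u * k) * (S.C.pre n)⁻¹ * (k⁻¹ * S.u⁻¹) by group, h1, h2]
      group,
      O'.par_conj (hC k hk hku) (hAC _ (S.tw_A hp).1)]
  obtain ⟨e12, e23, e17, e34, e79, b12, b17⟩ := triN_images
  have hk1 := hk [0] (by simp [triN])
  have hk2 := hk [3, 3, 0, 3, 3, 0] (by simp [triN])
  have hk3 := hk [4, 4, 3, 4, 3, 4, 2, 0] (by simp [triN])
  have h2 : F 2 = F 1 := (congrArg F e12).symm.trans (hk1 1 (by norm_num))
  have h3 : F 3 = F 1 := ((congrArg F e23).symm.trans (hk1 2 (by norm_num))).trans h2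
  have h34 : F 34 = F 17 := (congrArg F e17).symm.trans (hk2 17 (by norm_num))
  have h51 : F 51 = F 17 := ((congrArg F e34).symm.trans (hk2 34 (by norm_num))).trans h34
  have h17 : F 17 = 1 := by
    have h := hadd 17 (by norm_num) 34 (by norm_num)
    rw [b17, if_neg (by simp), one_mul, show (17 : ℕ) ^^^ 34 = 51 from rfl, h51, h34, two_sq] at h
    exact h
  have hζ : O'.par O.z = F 1 := by
    have h := hadd 1 (by norm_num) 2 (by norm_num)
    rw [b12, if_pos rfl, show (1 : ℕ) ^^^ 2 = 3 from rfl, h3, h2, mul_assoc, two_sq, mul_one] at h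
    exact h.symm
  have h94 : F 79 = F 17 := by
    obtain ⟨hp, hpe⟩ := S.C.pre_spec (show 94 < 256 by norm_num)
    have hpA : S.C.pre 94 ∈ S.A := S.mem_A.2 ⟨hp, by rw [hpe]; decide +kernel⟩
    obtain ⟨hy, hye⟩ := S.C.pre_spec (show 17 < 256 by norm_num)
    have h := hF _ (mul_mem hp hy)
    rw [S.C.cv_mul _ hp _ hy, hpe, hye, show (94 : ℕ) ^^^ 17 = 79 from rfl] at h
    rw [← h, S.tw_mul]
    have h1 : S.tw (S.C.pre 94) = 1 := by rw [tw, ← S.u_A hpA]; group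
    rw [h1, mul_one, S.A_comm hpA (S.tw_A hy).1, mul_inv_cancel_right]
  have hz1 : O'.par O.z = 1 := by rw [hζ, ← hk3 1 (by norm_num), e79, h94, h17]
  have hA : ∀ a ∈ S.A, a ∈ O'.H₀ := by
    intro a ha
    refine (O'.par_eq_one (hAC a ha)).1 ?_
    have hvC : S.v ∈ CC O'.z := hC _ (O.H₀_le S.v_mem) S.comm.symm
    obtain ⟨m, hm, he⟩ := S.A_eq ha
    have hc : O'.par (S.v * m * S.v⁻¹ * m⁻¹) = 1 :=
      (O'.par_eq_one (mul_mem (mul_mem (mul_mem hvC (hAC m hm)) (inv_mem hvC)) (inv_mem (hAC m hm)))).2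
        (O'.comm_mem₀ hvC (hAC m hm))
    rcases he with rfl | rfl
    · exact hc
    · rw [O'.par_mul (mul_mem (mul_mem (mul_mem hvC (hAC m hm)) (inv_mem hvC)) (inv_mem (hAC m hm))) hzC, hc,
        hz1, mul_one]
  refine ⟨(O'.par_eq_one huC).1 ?_, hA⟩
  rcases hz' with e | e
  · rw [← e]; exact O'.par_z
  · have h := O'.par_z
    rw [e, O'.par_mul huC hzC, hz1, mul_one] at h
    exact h

theorem conj_CC {g x : G} : g⁻¹ * x * g ∈ CC O.z ↔ x * (g * O.z * g⁻¹) = g * O.z * g⁻¹ * x := by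
  rw [Subgroup.mem_centralizer_singleton_iff]
  constructor <;> intro h
  · calc x * (g * O.z * g⁻¹) = g * (g⁻¹ * x * g * O.z) * g⁻¹ := by group
      _ = _ := by rw [h]; group
  · calc g⁻¹ * x * g * O.z = g⁻¹ * (x * (g * O.z * g⁻¹)) * g := by group
      _ = _ := by rw [h]; group

/-- The transfer moves the outer element. -/
theorem V_u : O.V S.u = Multiplicative.ofAdd 1 := by
  refine (O.V_eq S.u_mem S.u_sq S.P S.P_two S.P_CC S.P_u (fun g hne hu hP => ?_)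
    (fun _ g hz hu hP => ?_)).trans (O.chi_out S.u_mem S.u_out)
  · have hd : ∀ a ∈ S.A, g * O.z * g⁻¹ * a = a * (g * O.z * g⁻¹) := fun a ha =>
      (conj_CC.1 (hP a (S.A_le_P ha))).symm
    have hdC : g * O.z * g⁻¹ ∈ CC O.z := Subgroup.mem_centralizer_singleton_iff.2 (hd _ S.z_A)
    rcases S.cent hdC hd with h | h
    · exact absurd (onlyZ S.C g h.1) hne
    obtain ⟨y0, hy0, hy0e⟩ := (fixN_facts _ (S.cv_fixN (S.A.mul_mem (inv_mem S.uu_A) h))).2.2.2.2.2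
    obtain ⟨y, hy, hye⟩ := S.C.surj y0 (List.mem_range.1 hy0)
    obtain ⟨htA, htc⟩ := S.tw_A hy
    have hdu : g * O.z * g⁻¹ = S.u * ((S.u * S.u)⁻¹ * (S.u * (g * O.z * g⁻¹))) := by group
    set a := (S.u * S.u)⁻¹ * (S.u * (g * O.z * g⁻¹)) with ha
    have haA : a ∈ S.A := S.A.mul_mem (inv_mem S.uu_A) h
    have hat : a = S.tw y ∨ a = S.tw y * O.z := (S.C.cv_eq_iff haA.1 htA.1).1 (by rw [htc, hye, hy0e])
    have hyu : y⁻¹ * S.u * y = (y⁻¹ * S.tw y * y)⁻¹ * S.u := by rw [tw]; group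
    have hyC := O.J_le_CC hy
    have hconj : y⁻¹ * g * O.z * (y⁻¹ * g)⁻¹ = S.u ∨ y⁻¹ * g * O.z * (y⁻¹ * g)⁻¹ = S.u * O.z := by
      rw [show y⁻¹ * g * O.z * (y⁻¹ * g)⁻¹ = y⁻¹ * (g * O.z * g⁻¹) * y by group, hdu]
      rcases hat with e | e <;> rw [e]
      · left
        rw [S.u_A htA, tw]; group
      · right
        rw [show S.u * (S.tw y * O.z) = S.u * S.tw y * O.z from (mul_assoc _ _ _).symm, S.u_A htA, tw]
        calc y⁻¹ * (y * S.u * y⁻¹ * S.u⁻¹ * S.u * O.z) * y = S.u * y⁻¹ * (O.z * y) := by group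
          _ = S.u * O.z := by rw [← O.comm_z hyC]; group
    obtain ⟨hu', hA'⟩ := S.inner_of_conj hconj
    have hconjA : y⁻¹ * S.tw y * y ∈ S.A := S.mem_A.2 ⟨by
      simpa using O.norm (inv_mem hyC) htA.1, by
      have hn := O.norm (inv_mem hyC) htA.1
      rw [inv_inv] at hn
      have e : S.C.cv (y⁻¹ * S.tw y * y) = S.C.cv (S.tw y) := by
        rw [S.C.cv_mul _ (mul_mem (inv_mem hy) htA.1) _ hy, S.C.cv_mul _ (inv_mem hy) _ htA.1, S.C.cv_inv hy,
          Nat.xor_comm (S.C.cv y), Nat.xor_assoc, Nat.xor_self, Nat.xor_zero]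
      rw [e]; exact htA.2⟩
    have hfin : y⁻¹ * S.u * y ∈ (O.conj (y⁻¹ * g)).H₀ := by
      rw [hyu]; exact mul_mem (inv_mem (hA' _ hconjA)) hu'
    have := O.mem_conj_H₀.1 hfin
    rwa [show (y⁻¹ * g)⁻¹ * (y⁻¹ * S.u * y) * (y⁻¹ * g) = g⁻¹ * S.u * g by group] at this
  · by_cases hall : ∀ a ∈ S.A, g⁻¹ * a * g ∈ CC O.z
    · exfalso
      have hd : ∀ a ∈ S.A, g * O.z * g⁻¹ * a = a * (g * O.z * g⁻¹) := fun a ha => (conj_CC.1 (hall a ha)).symm
      have hdC : g * O.z * g⁻¹ ∈ CC O.z := Subgroup.mem_centralizer_singleton_iff.2 (hd _ S.z_A)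
      refine hu (conj_CC.2 ?_)
      rcases S.cent hdC hd with h | h
      · exact S.u_A h
      · exact (S.P_u _ (Or.inr h)).symm
    · simp only [not_forall] at hall
      obtain ⟨a, ha, hna⟩ := hall
      have hmem := (hP a (S.A_le_P ha)).resolve_left hna
      have h := O.sq_mem₀ hmem
      rw [show g⁻¹ * (S.u⁻¹ * a) * g * (g⁻¹ * (S.u⁻¹ * a) * g) = g⁻¹ * (S.u⁻¹ * a * (S.u⁻¹ * a)) * g by group] at h
      have hsq : S.u⁻¹ * a * (S.u⁻¹ * a) = (S.u * S.u)⁻¹ := by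
        have hc : a * S.u⁻¹ = S.u⁻¹ * a := by
          rw [eq_inv_mul_iff_mul_eq, ← mul_assoc, S.u_A ha, mul_inv_cancel_right]
        calc S.u⁻¹ * a * (S.u⁻¹ * a) = S.u⁻¹ * (a * S.u⁻¹) * a := by group
          _ = S.u⁻¹ * S.u⁻¹ * (a * a) := by rw [hc]; group
          _ = _ := by rw [S.A_sq ha]; group
      rw [hsq] at h
      rename_i he
      rw [he, inv_eq_of_mul_eq_one_right O.ext.zz] at h
      exact h

include S in
/-- The transfer kills the extraspecial group. -/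
theorem V_J {x : G} (hx : x ∈ O.J) : O.V x = 1 := by
  have hz : O.V O.z = 1 := by
    have h1 := O.V_comm (S.C.pre 1) (S.C.pre 2)
    obtain ⟨ha, hae⟩ := S.C.pre_spec (show 1 < 256 by norm_num)
    obtain ⟨hb, hbe⟩ := S.C.pre_spec (show 2 < 256 by norm_num)
    have hne := (S.C.bq_iff ha hb).1 (by rw [hae, hbe]; decide +kernel)
    rw [((O.ext.conj_cases hb ha).resolve_left hne).2] at h1
    rwa [show S.C.pre 2 * O.z * (S.C.pre 2)⁻¹ = O.z by
      rw [O.ext.central _ hb]; group] at h1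
  obtain ⟨n, hn, hne⟩ := five_span _ (S.C.lt x)
  obtain ⟨hm, hme⟩ := S.C.pre_spec (List.mem_range.1 hn)
  have hvC := O.H₀_le S.v_mem
  have hvm := O.norm hvC hm
  have hcases := (S.C.cv_eq_iff hx (mul_mem hvm (inv_mem hm))).1 (by
    rw [S.C.cv_mul _ hvm _ (inv_mem hm), S.C.cv_inv hm, S.C.act_spec hvC hm, hme, S.act_v (List.mem_range.1 hn), hne])
  rcases hcases with e | e <;> rw [e]
  · exact O.V_comm _ _
  · rw [map_mul, O.V_comm, hz, one_mul]

end Sigma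

/-- In the natural module the transfer separates. -/
theorem natural_parity {O : Outer G} (C : O.Chart .nat) : O.Odd₁ ∧ ∀ x ∈ O.J, O.V x = 1 := by
  obtain ⟨S⟩ := exists_sigma C
  refine ⟨⟨S.u, S.u_mem, S.u_out, ?_⟩, fun x hx => S.V_J hx⟩
  rw [S.V_u]; decide

end Outer

end Cfsg.Agent.Fus.U62Red
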