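import Cfsg.Agent.Lib.Fus.U62Red.AutReflect

/-!
Recognition of `U₆(2)`, the reduction for a centraliser with a larger quotient: in the reducible modules the
transfer moves an outer element and kills the extraspecial group.
-/

set_option autoImplicit false
set_option linter.unusedSectionVars false

namespace Cfsg.Agent.Fus.U62Red

open Cfsg.Agent.Fus.U62Rec (Q4 CC)
open Cfsg.Agent.Invol.ExtraEight (app idm app_lt app_xor app_zero app_idm)

variable {G : Type*} [Group G] [Finite G]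

theorem conj_five {x g : G} : (g⁻¹ * x * g) ^ 5 = g⁻¹ * x ^ 5 * g := by simp [pow_succ, mul_assoc]

/-- Generators and vectors whose commutators span the six-dimensional part. -/
def sixGens : List (ℕ × ℕ) := [(0, 4), (0, 8), (0, 16), (0, 32), (1, 1), (1, 2)]

set_option maxRecDepth 100000 in
theorem six_span : ∀ K ∈ [Kind.redA, Kind.redH], ∀ n < 64,
    n ∈ spanL (sixGens.map fun p => app (K.mat [p.1]) p.2 ^^^ p.2) := by decide +kernel

namespace Outer

variable {O : Outer G}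

theorem conj_mem_CC {g x : G} : g⁻¹ * x * g ∈ CC O.z ↔ x * (g * O.z * g⁻¹) = g * O.z * g⁻¹ * x := by
  rw [Subgroup.mem_centralizer_singleton_iff]
  constructor <;> intro h
  · calc x * (g * O.z * g⁻¹) = g * (g⁻¹ * x * g * O.z) * g⁻¹ := by group
      _ = _ := by rw [h]; group
  · calc g⁻¹ * x * g * O.z = g⁻¹ * (x * (g * O.z * g⁻¹)) * g := by group
      _ = _ := by rw [h]; group

/-- A pair of orbit mates with a quaternion triple gives an inner central involution. -/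
theorem pair_inner {y g a b : G} (hy : y * y = O.z) (hz : g⁻¹ * O.z * g ∈ CC O.z)
    (hay : a * y = y * a) (haa : a * a = O.z) (hbb : b * b = O.z) (hab : a * b * (a * b) = O.z)
    (ha : g⁻¹ * a * g ∈ CC O.z ∨ g⁻¹ * (y⁻¹ * a) * g ∈ CC O.z)
    (hb : g⁻¹ * b * g ∈ CC O.z ∨ g⁻¹ * (y⁻¹ * b) * g ∈ CC O.z) : g⁻¹ * O.z * g ∈ O.H₀ := by
  have sq : ∀ x : G, x * x = O.z → g⁻¹ * x * g ∈ CC O.z → g⁻¹ * O.z * g ∈ O.H₀ := fun x hx h => by
    have := O.sq_mem₀ h
    rwa [show g⁻¹ * x * g * (g⁻¹ * x * g) = g⁻¹ * (x * x) * g by group, hx] at this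
  rcases ha with ha | ha
  · exact sq a haa ha
  rcases hb with hb | hb
  · exact sq b hbb hb
  have hc : a * y⁻¹ = y⁻¹ * a := (Commute.inv_right (hay : Commute a y)).eq
  refine sq _ hab ?_
  have h := mul_mem hz (mul_mem ha hb)
  rwa [show g⁻¹ * (y⁻¹ * a) * g * (g⁻¹ * (y⁻¹ * b) * g) = g⁻¹ * (y⁻¹ * (a * y⁻¹) * b) * g by group, hc,
    show g⁻¹ * O.z * g * (g⁻¹ * (y⁻¹ * (y⁻¹ * a) * b) * g) = g⁻¹ * (O.z * (y * y)⁻¹ * (a * b)) * g by group,
    hy, mul_inv_cancel, one_mul] at h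

namespace Chart

variable {K : Kind} (C : O.Chart K)

theorem six_pre_act (hK : K.IsRed) {h : G} (hh : h ∈ CC O.z) (h6 : ∀ n < 64, C.act h n = n) : h ∈ O.J := by
  have hKm := hK.mem
  have inner : h ∈ O.H₀ := by
    by_contra ho
    obtain ⟨m, hm⟩ := O.outer h hh ho 1
    obtain ⟨u, hu⟩ := exists_word (O.π m)
    obtain ⟨u', hu'⟩ := exists_word (O.π ⟨h * m * h⁻¹, O.norm₀ h hh m m.2⟩)
    have key : el u' = el u := C.el_eq_of_app fun n hn => by
      obtain ⟨h1, h2, h3, h4⟩ := split_six n hn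
      rw [← h2, app_xor, app_xor, plane_all' hK _ h4 h3, plane_all' hK _ h4 h3]
      congr 1
      have e := C.act_conj hh hu.symm hu'.symm (n := n % 64) (by omega)
      rw [h6 _ (red_mat_six hKm u h1), h6 _ h1] at e
      exact e.symm
    refine hm ?_
    rw [← hu', key, hu]
    congr 1
    ext
    simp
  obtain ⟨w, hw⟩ := exists_word (O.π ⟨h, inner⟩)
  refine O.mem_of_trivial fun x hx => (C.cv_eq_iff (O.norm hh hx) hx).1 ?_
  obtain ⟨h1, h2, h3, h4⟩ := split_six _ (C.lt x)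
  rw [C.act_spec hh hx]
  conv_lhs => rw [← h2]
  rw [C.act_add hh (by omega) h4, h6 _ h1, C.act_mem inner hw.symm h4, plane_all' hK _ h4 h3, h2]

/-- The preimage of the six-dimensional part and a vector of the plane. -/
def sixJ (p : ℕ) : Subgroup G where
  carrier := {x | x ∈ O.J ∧ (C.cv x < 64 ∨ (C.cv x ^^^ p) < 64)}
  one_mem' := ⟨one_mem _, Or.inl (by rw [C.cv_one]; norm_num)⟩
  mul_mem' := by
    rintro a b ⟨ha, ha'⟩ ⟨hb, hb'⟩
    refine ⟨mul_mem ha hb, ?_⟩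
    rw [C.cv_mul a ha b hb]
    have hlt : ∀ {u v : ℕ}, u < 64 → v < 64 → u ^^^ v < 64 := fun hu hv => Nat.xor_lt_two_pow (n := 6) hu hv
    rcases ha' with h | h <;> rcases hb' with h' | h'
    · exact Or.inl (hlt h h')
    · exact Or.inr (by rw [Nat.xor_assoc]; exact hlt h h')
    · exact Or.inr (by rw [Nat.xor_assoc, Nat.xor_comm _ p, ← Nat.xor_assoc]; exact hlt h h')
    · refine Or.inl ?_
      have := hlt h h'
      rwa [show C.cv a ^^^ p ^^^ (C.cv b ^^^ p) = C.cv a ^^^ C.cv b ^^^ (p ^^^ p) by ac_rfl, Nat.xor_self,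
        Nat.xor_zero] at this
  inv_mem' := by
    rintro a ⟨ha, ha'⟩
    exact ⟨inv_mem ha, by rw [C.cv_inv ha]; exact ha'⟩

theorem J_two : IsPGroup 2 ↥O.J := IsPGroup.of_card (n := 9) (by rw [O.card_J]; norm_num)

theorem triple (hK : K.IsRed) : ∃ a b : G, a ∈ O.J ∧ b ∈ O.J ∧ C.cv a = 4 ∧ C.cv b = 8 ∧ C.cv (a * b) = 12 ∧
    a * a = O.z ∧ b * b = O.z ∧ a * b * (a * b) = O.z := by
  obtain ⟨-, q4, q8, q12⟩ := triple_facts K hK.mem
  obtain ⟨ha, hae⟩ := C.pre_spec (show 4 < 256 by norm_num)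
  obtain ⟨hb, hbe⟩ := C.pre_spec (show 8 < 256 by norm_num)
  have hab : C.cv (C.pre 4 * C.pre 8) = 12 := by rw [C.cv_mul _ ha _ hb, hae, hbe]; rfl
  exact ⟨_, _, ha, hb, hae, hbe, hab, (C.q _ ha).1 (by rw [hae]; exact q4), (C.q _ hb).1 (by rw [hbe]; exact q8),
    (C.q _ (mul_mem ha hb)).1 (by rw [hab]; exact q12)⟩

/-- The transfer kills the elements over the plane. -/
theorem V_plane (hK : K.IsRed) {r : G} (hr : r ∈ O.J) (hr0 : C.cv r % 64 = 0) : O.V r = 1 := by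
  have hKm := hK.mem
  set p := C.cv r with hp
  have hlt : p < 256 := C.lt r
  have hcomm : ∀ q ∈ C.sixJ p, q * r = r * q := by
    rintro q ⟨hq, hq'⟩
    refine (C.bq_false_iff hq hr).1 ?_
    rw [← hp]
    have h0 : K.bq p p = false ∧ ∀ n < 64, K.bq n p = false := by
      rcases (show p = 0 ∨ p ∈ [64, 128, 192] by
        simp only [List.mem_cons, List.not_mem_nil, or_false]; omega) with e | e
      · rw [e]
        have h00 : ∀ n : ℕ, n < 256 → K.bq n 0 = false := fun n hn => by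
          obtain ⟨hm, hme⟩ := C.pre_spec hn
          rw [← hme, ← C.cv_one, C.bq_false_iff hm (one_mem _)]
          simp
        exact ⟨h00 0 (by norm_num), fun n hn => h00 n (by omega)⟩
      · obtain ⟨a, b, -⟩ := plane_line_bq K hKm p e
        exact ⟨a, b⟩
    rcases hq' with h | h
    · exact h0.2 _ h
    · have e := C.bq_add (a := C.cv q ^^^ p) (b := p) (c := p) (by omega) hlt hlt
      rw [Nat.xor_assoc, Nat.xor_self, Nat.xor_zero, h0.2 _ h, h0.1] at e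
      exact e
  have hle : C.sixJ p ≤ O.J := fun _ h => h.1
  have hr2 : r * r = 1 ∨ r * r = O.z := O.ext.sq r hr
  obtain ⟨a, b, ha, hb, hae, hbe, habe, haa, hbb, hab⟩ := C.triple hK
  rw [O.V_eq (O.J_le_CC hr) hr2 (C.sixJ p) (J_two.to_le hle) (hle.trans O.J_le_CC) hcomm
    (fun g hne _ hP => ?_) (fun hr' g hz _ hP => ?_), O.chi_eq_one]
  · exact O.J_le hr
  · exfalso
    have hd : ∀ q ∈ C.sixJ p, g * O.z * g⁻¹ * q = q * (g * O.z * g⁻¹) := fun q hq =>
      (conj_mem_CC.1 (hP q hq)).symm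
    have hdC : g * O.z * g⁻¹ ∈ CC O.z := Subgroup.mem_centralizer_singleton_iff.2
      (hd _ ⟨O.ext.mem, Or.inl (by rw [C.cv_z]; norm_num)⟩)
    refine hne (onlyZ C g (C.six_pre_act hK hdC fun n hn => ?_))
    obtain ⟨hm, hme⟩ := C.pre_spec (show n < 256 by omega)
    rw [act, mul_inv_eq_iff_eq_mul.2 (hd _ ⟨hm, Or.inl (by rw [hme]; exact hn)⟩), hme]
  · exact pair_inner hr' hz (hcomm a ⟨ha, Or.inl (by rw [hae]; norm_num)⟩) haa hbb hab
      (hP a ⟨ha, Or.inl (by rw [hae]; norm_num)⟩) (hP b ⟨hb, Or.inl (by rw [hbe]; norm_num)⟩)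

end Chart

namespace Refl

variable {K : Kind} (S : O.Refl K)

/-- The preimage of the commutator space. -/
def E : Subgroup G where
  carrier := {x | x ∈ O.J ∧ S.C.cv x ∈ cmR}
  one_mem' := ⟨one_mem _, by rw [S.C.cv_one]; decide⟩
  mul_mem' := by
    rintro a b ⟨ha, ha'⟩ ⟨hb, hb'⟩
    exact ⟨mul_mem ha hb, by rw [S.C.cv_mul a ha b hb]; exact cmR_xor _ ha' _ hb'⟩
  inv_mem' := by
    rintro a ⟨ha, ha'⟩
    exact ⟨inv_mem ha, by rw [S.C.cv_inv ha]; exact ha'⟩

theorem E_le : S.E ≤ O.J := fun _ h => h.1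

theorem z_E : O.z ∈ S.E := ⟨O.ext.mem, by rw [S.C.cv_z]; decide⟩

theorem E_eq {a : G} (ha : a ∈ S.E) : ∃ m ∈ S.E,
    a = S.v * m * S.v⁻¹ * m⁻¹ ∨ a = S.v * m * S.v⁻¹ * m⁻¹ * O.z := by
  obtain ⟨-, -, n, hn, hne⟩ := cmR_facts K S.red.mem _ ha.2
  have hn256 : n < 256 := by have := (cmR_facts K S.red.mem n hn).1; omega
  obtain ⟨m, hm, hme⟩ := S.C.surj n hn256
  have hvm := O.norm S.v_CC hm
  refine ⟨m, ⟨hm, by rw [hme]; exact hn⟩, (S.C.cv_eq_iff ha.1 (mul_mem hvm (inv_mem hm))).1 ?_⟩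
  rw [S.C.cv_mul _ hvm _ (inv_mem hm), S.C.cv_inv hm, S.C.act_spec S.v_CC hm, hme, S.act_v hn256, hne]

theorem u_E {a : G} (ha : a ∈ S.E) : S.u * a = a * S.u := by
  obtain ⟨m, hm, he⟩ := S.E_eq ha
  have huz := O.comm_z S.u_mem
  have hum : S.u * m * S.u⁻¹ = m ∨ S.u * m * S.u⁻¹ = m * O.z :=
    (S.C.cv_eq_iff (O.norm S.u_mem hm.1) hm.1).1 (by
      obtain ⟨h1, h2, -⟩ := cmR_facts K S.red.mem _ hm.2
      rw [S.C.act_spec S.u_mem hm.1, S.act_u _ h1, h2])
  have hc : S.u * (S.v * m * S.v⁻¹ * m⁻¹) * S.u⁻¹ = S.v * m * S.v⁻¹ * m⁻¹ := by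
    have e1 : S.u * S.v⁻¹ * S.u⁻¹ = S.v⁻¹ := by
      rw [mul_inv_eq_iff_eq_mul, eq_inv_mul_iff_mul_eq, ← mul_assoc, ← S.comm, mul_inv_cancel_right]
    rw [show S.u * (S.v * m * S.v⁻¹ * m⁻¹) * S.u⁻¹ =
      S.u * S.v * S.u⁻¹ * (S.u * m * S.u⁻¹) * (S.u * S.v⁻¹ * S.u⁻¹) * (S.u * m * S.u⁻¹)⁻¹ by group,
      e1, S.comm, mul_inv_cancel_right]
    rcases hum with e | e <;> rw [e]
    calc S.v * (m * O.z) * S.v⁻¹ * (m * O.z)⁻¹ = S.v * m * (O.z * S.v⁻¹) * O.z⁻¹ * m⁻¹ := by group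
      _ = S.v * m * (S.v⁻¹ * O.z) * O.z⁻¹ * m⁻¹ := by rw [O.comm_z (inv_mem S.v_CC)]
      _ = _ := by group
  rw [mul_inv_eq_iff_eq_mul] at hc
  rcases he with rfl | rfl
  · exact hc
  · rw [← mul_assoc, hc, mul_assoc, huz, ← mul_assoc]

variable (hu : S.u * S.u = 1 ∨ S.u * S.u = O.z)
include hu

theorem uu_E : S.u * S.u ∈ S.E := by
  rcases hu with e | e <;> rw [e]
  exacts [one_mem _, S.z_E]

/-- The two-group of the element and the commutator space. -/
def P : Subgroup G where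
  carrier := {x | x ∈ S.E ∨ S.u * x ∈ S.E}
  one_mem' := Or.inl (one_mem _)
  mul_mem' := by
    rintro a b (ha | ha) (hb | hb)
    · exact Or.inl (mul_mem ha hb)
    · exact Or.inr (by rw [← mul_assoc, S.u_E ha, mul_assoc]; exact mul_mem ha hb)
    · exact Or.inr (by rw [← mul_assoc]; exact mul_mem ha hb)
    · refine Or.inl ?_
      have h := mul_mem (inv_mem (S.uu_E hu)) (mul_mem ha hb)
      have hu' : S.u * a * S.u = S.u * (S.u * a) := (S.u_E ha).symm
      rw [show (S.u * S.u)⁻¹ * (S.u * a * (S.u * b)) = (S.u * S.u)⁻¹ * (S.u * a * S.u) * b by group, hu'] at h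
      rwa [show (S.u * S.u)⁻¹ * (S.u * (S.u * a)) * b = a * b by group] at h
  inv_mem' := by
    rintro a (ha | ha)
    · exact Or.inl (inv_mem ha)
    · refine Or.inr ?_
      have hb : S.u * (S.u * a)⁻¹ = (S.u * a)⁻¹ * S.u := S.u_E (inv_mem ha)
      rw [show S.u * a⁻¹ = S.u * (S.u * a)⁻¹ * S.u by group, hb, mul_assoc]
      exact mul_mem (inv_mem ha) (S.uu_E hu)

theorem P_CC : S.P hu ≤ CC O.z := by
  rintro x (h | h)
  · exact O.J_le_CC h.1
  · simpa using mul_mem (inv_mem S.u_mem) (O.J_le_CC h.1)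

theorem P_u : ∀ p ∈ S.P hu, p * S.u = S.u * p := by
  rintro x (h | h)
  · exact (S.u_E h).symm
  · exact mul_left_cancel (a := S.u) (by rw [← mul_assoc]; exact (S.u_E h).symm)

theorem P_two : IsPGroup 2 ↥(S.P hu) := by
  rintro ⟨x, hx⟩
  refine ⟨2, Subtype.ext ?_⟩
  show x ^ 4 = 1
  rw [show x ^ 4 = (x * x) * (x * x) by simp [pow_succ, mul_assoc]]
  rcases hx with h | h
  · rcases O.ext.sq x h.1 with e | e <;> rw [e]
    exacts [one_mul _, O.ext.zz]
  · have hxu := S.P_u hu x (Or.inr h)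
    have h2 : S.u * S.u * (x * x) = 1 ∨ S.u * S.u * (x * x) = O.z := by
      rw [show S.u * S.u * (x * x) = S.u * (S.u * x) * x by group,
        show S.u * (S.u * x) * x = S.u * (x * S.u) * x by rw [hxu],
        show S.u * (x * S.u) * x = S.u * x * (S.u * x) by group]
      exact O.ext.sq _ h.1
    rcases hu with e | e <;> rw [e] at h2 <;> rcases h2 with h2 | h2
    · rw [one_mul] at h2; rw [h2, one_mul]
    · rw [one_mul] at h2; rw [h2, O.ext.zz]
    · rw [eq_inv_of_mul_eq_one_right h2, inv_eq_of_mul_eq_one_right O.ext.zz, O.ext.zz]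
    · rw [mul_eq_left.1 h2, one_mul]

/-- An element centralising the commutator space. -/
theorem cent {d : G} (hd : d ∈ CC O.z) (hcent : ∀ a ∈ S.E, d * a = a * d) : d ∈ O.J ∨ S.u * d ∈ O.J := by
  have hK := S.red.mem
  have hW : ∀ n ∈ cmR, S.C.act d n = n := fun n hn => by
    have hlt : n < 256 := by have := (cmR_facts K hK n hn).1; omega
    obtain ⟨hx, hxe⟩ := S.C.pre_spec hlt
    rw [Chart.act, mul_inv_eq_iff_eq_mul.2 (hcent _ ⟨hx, by rw [hxe]; exact hn⟩), hxe]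
  have hcand : ∀ b : ℕ, b ∈ fxR → b ≠ 0 → S.C.act d b < 64 ∧ S.C.act d b ≠ 0 ∧
      (∀ m ∈ cmR, K.bq (S.C.act d b) m = false) ∧ K.q (S.C.act d b) = K.q b := fun b hb hb0 => by
    have hb64 : b < 64 := by
      have : ∀ b ∈ fxR, b < 64 := by decide
      exact this b hb
    refine ⟨S.C.act_six S.red hd hb64, fun e => hb0 (S.C.act_inj hd (by omega) e), fun m hm => ?_,
      S.C.act_q hd (by omega)⟩
    rw [← hW m hm, S.C.act_bq hd (by omega) (by have := (cmR_facts K hK m hm).1; omega)]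
    exact fxR_orth K hK b hb m hm
  obtain ⟨l16, n16, b16, q16⟩ := hcand 16 (by simp [fxR]) (by norm_num)
  obtain ⟨l35, n35, b35, q35⟩ := hcand 35 (by simp [fxR]) (by norm_num)
  have e16 := (fxR_cand K hK _ l16 n16 b16).1 q16
  obtain ⟨s0, s16, s35, s51⟩ := fxR_sig
  have e51 : S.C.act d 51 = 16 ^^^ S.C.act d 35 := by
    rw [← e16, ← S.C.act_add hd (by norm_num) (by norm_num)]; rfl
  have hext : ∀ (f : ℕ → ℕ), (∀ a < 64, ∀ b < 64, f (a ^^^ b) = f a ^^^ f b) → (∀ a ∈ cmR, f a = a) →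
      f 0 = 0 → f 16 = 16 → S.C.act d 35 = f 35 → ∀ n < 64, S.C.act d n = f n := by
    intro f hf hfW h0 h16 h35 n hn
    obtain ⟨a, ha, b, hb, rfl⟩ := six_split n hn
    have ha64 := (cmR_facts K hK a ha).1
    have hb64 : b < 64 := by
      have : ∀ b ∈ fxR, b < 64 := by decide
      exact this b hb
    rw [S.C.act_add hd (by omega) (by omega), hW a ha, hf a ha64 b hb64, hfW a ha]
    congr 1
    simp only [fxR, List.mem_cons, List.not_mem_nil, or_false] at hb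
    rcases hb with rfl | rfl | rfl | rfl
    · rw [S.C.act_zero hd, h0]
    · rw [e16, h16]
    · exact h35
    · rw [e51, h35, show (51 : ℕ) = 16 ^^^ 35 from rfl, hf 16 (by norm_num) 35 (by norm_num), h16]
  rcases (fxR_cand K hK _ l35 n35 b35).2 q35 with e35 | e35
  · exact Or.inl (S.C.six_pre_act S.red hd
      (hext id (fun _ _ _ _ => rfl) (fun _ _ => rfl) rfl rfl e35))
  · refine Or.inr (S.C.six_pre_act S.red (mul_mem S.u_mem hd) fun n hn => ?_)
    rw [S.C.act_mul S.u_mem hd (by omega : n < 256),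
      hext (app sigR) (fun a _ b _ => app_xor sigR a b) (fun a ha => (cmR_facts K hK a ha).2.1) s0 s16
        (e35.trans s35.symm) n hn,
      S.act_u _ (sigR_facts.2 n hn).1, (sigR_facts.2 n hn).2]

/-- The transfer moves the reflection. -/
theorem V_u : O.V S.u = Multiplicative.ofAdd 1 := by
  have hK := S.red.mem
  refine (O.V_eq S.u_mem hu (S.P hu) (S.P_two hu) (S.P_CC hu) (S.P_u hu) (fun g hne hgu hP => ?_)
    (fun he g hz _ hP => ?_)).trans (O.chi_out S.u_mem S.u_out)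
  · exfalso
    obtain ⟨a, b, haJ, -, hae, -, -, haa, -, -⟩ := S.C.triple S.red
    have haE : a ∈ S.E := ⟨haJ, by rw [hae]; exact (triple_facts K hK).1.1⟩
    have hd : ∀ q ∈ S.E, g * O.z * g⁻¹ * q = q * (g * O.z * g⁻¹) := fun q hq =>
      (conj_mem_CC.1 (hP q (Or.inl hq))).symm
    have hdC : g * O.z * g⁻¹ ∈ CC O.z := Subgroup.mem_centralizer_singleton_iff.2 (hd _ S.z_E)
    rcases S.cent hu hdC hd with h | h
    · exact hne (onlyZ S.C g h)
    -- the conjugate commutes with the element of order five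
    have hxE : ∀ q ∈ S.E, S.u * (g * O.z * g⁻¹) * q = q * (S.u * (g * O.z * g⁻¹)) := fun q hq => by
      rw [mul_assoc, hd q hq, ← mul_assoc, S.u_E hq, mul_assoc]
    have hxv : S.v * (S.u * (g * O.z * g⁻¹)) = S.u * (g * O.z * g⁻¹) * S.v :=
      S.comm_of_fixed h (cmR_perp K hK _ (S.C.lt _) fun m hm => by
        have hm256 : m < 256 := by have := (cmR_facts K hK m hm).1; omega
        obtain ⟨hp, hpe⟩ := S.C.pre_spec hm256
        rw [← hpe, S.C.bq_false_iff h hp]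
        exact hxE _ ⟨hp, by rw [hpe]; exact hm⟩)
    have hvd : S.v * (g * O.z * g⁻¹) = g * O.z * g⁻¹ * S.v := mul_left_cancel (a := S.u) (by
      rw [← mul_assoc, S.comm, mul_assoc, hxv, mul_assoc])
    have hvC : g⁻¹ * S.v * g ∈ CC O.z := conj_mem_CC.2 hvd
    have hzC : g⁻¹ * O.z * g ∈ CC O.z := hP O.z (Or.inl S.z_E)
    have hz0 : g⁻¹ * O.z * g ∈ O.H₀ := by
      have := O.sq_mem₀ (hP a (Or.inl haE))
      rwa [show g⁻¹ * a * g * (g⁻¹ * a * g) = g⁻¹ * (a * a) * g by group, haa] at this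
    have hv0 : g⁻¹ * S.v * g ∈ O.H₀ := by
      have := O.sq_mem₀ (Subgroup.pow_mem _ hvC 3)
      rwa [← pow_add, show 3 + 3 = 5 + 1 from rfl, pow_succ,
        show (g⁻¹ * S.v * g) ^ 5 = 1 by rw [conj_five, S.v_five]; group, one_mul] at this
    have hv1 : O.π ⟨_, hv0⟩ ≠ 1 := fun e => by
      have hJ := (O.ker _).1 e
      have h512 : (g⁻¹ * S.v * g) ^ 512 = 1 := by
        have := congrArg Subtype.val (pow_card_eq_one' (x := (⟨_, hJ⟩ : ↥O.J)))
        rw [O.card_J] at this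
        exact this
      have h5 : (g⁻¹ * S.v * g) ^ 5 = 1 := by rw [conj_five, S.v_five]; group
      have h1 : g⁻¹ * S.v * g = 1 := by
        rw [show (512 : ℕ) = 5 * 102 + 2 from rfl, pow_add, pow_mul, h5, one_pow, one_mul] at h512
        rwa [show (5 : ℕ) = 2 * 2 + 1 from rfl, pow_succ, pow_mul, h512, one_pow, one_mul] at h5
      have hv : S.v = 1 := by
        calc S.v = g * (g⁻¹ * S.v * g) * g⁻¹ := by group
          _ = 1 := by rw [h1]; group
      refine el_fiveR.2 ?_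
      rw [← S.v_π]
      exact (O.ker _).2 (show S.v ∈ O.J by rw [hv]; exact one_mem _)
    have hz1 : O.π ⟨_, hz0⟩ = 1 := by
      refine no_five (x := O.π ⟨_, hv0⟩) ?_ hv1 ?_ ?_
      · rw [← map_pow, show (⟨_, hv0⟩ : ↥O.H₀) ^ 5 = 1 from Subtype.ext (by
          show (g⁻¹ * S.v * g) ^ 5 = 1
          rw [conj_five, S.v_five]; group), map_one]
      · rw [← map_mul, show (⟨_, hz0⟩ : ↥O.H₀) * ⟨_, hz0⟩ = 1 from Subtype.ext (by
          show g⁻¹ * O.z * g * (g⁻¹ * O.z * g) = 1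
          rw [show g⁻¹ * O.z * g * (g⁻¹ * O.z * g) = g⁻¹ * (O.z * O.z) * g by group, O.ext.zz]; group), map_one]
      · rw [← map_mul, ← map_mul]
        congr 1
        ext
        show g⁻¹ * O.z * g * (g⁻¹ * S.v * g) = g⁻¹ * S.v * g * (g⁻¹ * O.z * g)
        rw [show g⁻¹ * O.z * g * (g⁻¹ * S.v * g) = g⁻¹ * (O.z * S.v) * g by group, ← O.comm_z S.v_CC]
        group
    have hJ := (O.ker _).1 hz1
    have e := onlyZ S.C g⁻¹ (by rw [inv_inv]; exact hJ)
    refine hne ?_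
    rw [inv_inv] at e
    calc g * O.z * g⁻¹ = g * (g⁻¹ * O.z * g) * g⁻¹ := by rw [e]
      _ = O.z := by group
  · obtain ⟨a, b, haJ, hbJ, hae, hbe, -, haa, hbb, hab⟩ := S.C.triple S.red
    have haE : a ∈ S.E := ⟨haJ, by rw [hae]; exact (triple_facts K hK).1.1⟩
    have hbE : b ∈ S.E := ⟨hbJ, by rw [hbe]; exact (triple_facts K hK).1.2.1⟩
    exact pair_inner he hz (S.u_E haE).symm haa hbb hab (hP a (Or.inl haE)) (hP b (Or.inl hbE))

omit hu in
include S in
/-- The transfer kills the extraspecial group. -/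
theorem V_J {x : G} (hx : x ∈ O.J) : O.V x = 1 := by
  have hK := S.red.mem
  have hz : O.V O.z = 1 := S.C.V_plane S.red O.ext.mem (by rw [S.C.cv_z])
  let P : ℕ → Prop := fun n => n < 256 ∧ ∀ y ∈ O.J, S.C.cv y = n → O.V y = 1
  have hP0 : P 0 := ⟨by norm_num, fun y hy e => by
    rcases (S.C.zero_iff y hy).1 e with rfl | rfl
    exacts [map_one _, hz]⟩
  have hadd : ∀ a b, P a → P b → P (a ^^^ b) := by
    rintro a b ⟨ha, hva⟩ ⟨hb, hvb⟩
    refine ⟨Nat.xor_lt_two_pow (n := 8) ha hb, fun y hy e => ?_⟩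
    obtain ⟨hp, hpe⟩ := S.C.pre_spec ha
    obtain ⟨hq, hqe⟩ := S.C.pre_spec hb
    rcases (S.C.cv_eq_iff hy (mul_mem hp hq)).1 (by rw [S.C.cv_mul _ hp _ hq, hpe, hqe, e]) with h | h <;> rw [h]
    · rw [map_mul, hva _ hp hpe, hvb _ hq hqe, one_mul]
    · rw [map_mul, map_mul, hva _ hp hpe, hvb _ hq hqe, hz]; simp
  have hgen : ∀ a ∈ sixGens.map (fun p => app (K.mat [p.1]) p.2 ^^^ p.2),
      P a := by
    intro a ha
    obtain ⟨⟨i, b⟩, hb, rfl⟩ := List.mem_map.1 ha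
    have hb256 : b < 256 := by
      simp only [sixGens, List.mem_cons, List.not_mem_nil, or_false, Prod.mk.injEq] at hb; omega
    obtain ⟨m, hm⟩ := O.surj (el [i])
    have hmC := O.H₀_le m.2
    obtain ⟨hp, hpe⟩ := S.C.pre_spec hb256
    have hn := O.norm hmC hp
    refine ⟨Nat.xor_lt_two_pow (n := 8) (app_mat_lt _ _ _) hb256, fun y hy e => ?_⟩
    rcases (S.C.cv_eq_iff hy (mul_mem hn (inv_mem hp))).1 (by
      rw [S.C.cv_mul _ hn _ (inv_mem hp), S.C.cv_inv hp, S.C.act_spec hmC hp, hpe, S.C.act_mem m.2 hm hb256, e])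
      with h | h <;> rw [h]
    · exact O.V_comm _ _
    · rw [map_mul, O.V_comm, hz, one_mul]
  obtain ⟨h1, h2, h3, h4⟩ := split_six _ (S.C.lt x)
  have hp : P (S.C.cv x - S.C.cv x % 64) := ⟨h4, fun y hy e => S.C.V_plane S.red hy (by rw [e]; exact h3)⟩
  have := hadd _ _ (spanL_mem hP0 hadd hgen _ (six_span K hK _ h1)) hp
  rw [h2] at this
  exact this.2 x hx rfl

end Refl

/-- In a reducible module the transfer separates. -/
theorem reducible_parity {K : Kind} (C : O.Chart K) (hK : K.IsRed) : O.Odd₁ ∧ ∀ x ∈ O.J, O.V x = 1 := by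
  obtain ⟨S, hu⟩ := exists_refl C hK
  refine ⟨⟨S.u, S.u_mem, S.u_out, ?_⟩, fun x hx => S.V_J hx⟩
  rw [S.V_u hu]; decide

end Outer

end Cfsg.Agent.Fus.U62Red
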