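import Cfsg.Agent.Lib.Fus.U62Red.Main
import Cfsg.Agent.Lib.Fus.U62Red.AutNatural
import Cfsg.Agent.Lib.Fus.U62Red.AutReducible
import Cfsg.Agent.Lib.Fus.U62Rec.Global

/-!
Recognition of `U₆(2)`, the reduction for a centraliser with a larger quotient: a subgroup of index two is
`U₆(2)`, or the involution is isolated.
-/

set_option autoImplicit false
set_option linter.unusedSectionVars false
set_option linter.style.haveILetI false

namespace Cfsg.Agent.Fus.U62Red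

open Cfsg
open Cfsg.Agent.Fus.U62Rec (Q4 CC Setting)
open Cfsg.Agent.Spor.ExtraPair (Ext)

variable {G : Type*} [Group G] [Finite G]

namespace Outer

variable (O : Outer G)

/-- The transfer separates in every case. -/
theorem parity : O.Odd₁ ∧ ∀ x ∈ O.J, O.V x = 1 := by
  obtain ⟨K, ⟨C⟩⟩ := O.exists_chart
  rcases K with _ | _ | _
  · exact natural_parity C
  · exact reducible_parity C (Or.inl rfl)
  · exact reducible_parity C (Or.inr rfl)

theorem z_ker : O.z ∈ O.V.ker := MonoidHom.mem_ker.2 (O.V_inner O.parity.2 O.z_mem₀)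

theorem J_ker : O.J ≤ O.V.ker := fun x hx => MonoidHom.mem_ker.2 (O.parity.2 x hx)

theorem ker_iff' {x : G} (hx : x ∈ CC O.z) : x ∈ O.V.ker ↔ x ∈ O.H₀ :=
  O.ker_iff O.parity.1 O.parity.2 hx

theorem CC_ker_mem {x : ↥O.V.ker} (hx : x ∈ CC (⟨O.z, O.z_ker⟩ : ↥O.V.ker)) : (x : G) ∈ O.H₀ :=
  (O.ker_iff' (Subgroup.mem_centralizer_singleton_iff.2
    (congrArg Subtype.val (Subgroup.mem_centralizer_singleton_iff.1 hx) :))).1 x.2

/-- The frame in the kernel of the transfer. -/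
noncomputable def kerFrame : Frame ↥O.V.ker where
  z := ⟨O.z, O.z_ker⟩
  J := O.J.subgroupOf O.V.ker
  ext :=
    { mem := O.ext.mem
      ne := fun e => O.ext.ne (congrArg Subtype.val e)
      zz := Subtype.ext O.ext.zz
      central := fun q hq => Subtype.ext (O.ext.central _ hq)
      comm := fun x hx y hy => (O.ext.comm _ hx _ hy).imp (fun e => Subtype.ext (by
          rw [commutatorElement_def] at e ⊢; push_cast; exact e)) (fun e => Subtype.ext (by
          rw [commutatorElement_def] at e ⊢; push_cast; exact e))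
      sq := fun x hx => (O.ext.sq _ hx).imp (fun e => Subtype.ext e) (fun e => Subtype.ext e)
      cen := fun x hx hc => (O.ext.cen _ hx fun q hq =>
          congrArg Subtype.val (hc ⟨q, O.J_ker hq⟩ hq)).imp (fun e => Subtype.ext e) (fun e => Subtype.ext e)
      self := fun c hc => O.ext.self _ fun q hq => congrArg Subtype.val (hc ⟨q, O.J_ker hq⟩ hq)
      norm := fun c hc _ hq => O.ext.norm _ (congrArg Subtype.val hc) _ hq }
  card_J := by rw [Nat.card_congr (Subgroup.subgroupOfEquivOfLe O.J_ker).toEquiv, O.card_J]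
  π := O.π.comp (MonoidHom.mk' (fun x => (⟨x.1.1, O.CC_ker_mem x.2⟩ : ↥O.H₀)) fun a b => rfl)
  surj q := by
    obtain ⟨m, rfl⟩ := O.surj q
    have hm := O.H₀_le m.2
    exact ⟨⟨⟨m, (O.ker_iff' hm).2 m.2⟩,
      Subgroup.mem_centralizer_singleton_iff.2 (Subtype.ext (O.comm_z hm))⟩, rfl⟩
  ker u := O.ker _

/-- A subgroup of index two is `U₆(2)`, or the involution is isolated. -/
theorem outer_reduction (K : Type*) [Field K] [Fintype K] (hK : Fintype.card K = 4) :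
    CC O.z ⊔ oddCore G = ⊤ ∨ ∃ G₀ : Subgroup G, G₀.index = 2 ∧ Nonempty (↥G₀ ≃* PSU 6 K 2) ∧
      Subgroup.centralizer (G₀ : Set G) = ⊥ ∧ ∀ x ∈ CC O.z, (x ∈ G₀ ↔ x ∈ O.H₀) := by
  obtain ⟨hodd, hJ⟩ := O.parity
  by_cases hp : Nonempty O.kerFrame.Pair
  · obtain ⟨p⟩ := hp
    obtain ⟨k, ⟨C⟩⟩ := O.kerFrame.exists_chart
    rcases k with _ | _ | _
    rotate_left
    · exact (O.kerFrame.red_isolated C (Or.inl rfl) p).elim
    · exact (O.kerFrame.red_isolated C (Or.inr rfl) p).elim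
    refine Or.inr ⟨O.V.ker, O.index_ker hodd, U62Rec.nonempty_psu (O.kerFrame.setting C p) K hK, ?_,
      fun x hx => O.ker_iff' hx⟩
    refine (Subgroup.eq_bot_iff_forall _).2 fun c hc => ?_
    have hc' := Subgroup.mem_centralizer_iff.1 hc
    have hcJ : c ∈ O.J := O.ext.self c fun q hq => hc' q (O.J_ker hq)
    rcases O.ext.cen c hcJ fun q hq => hc' q (O.J_ker hq) with rfl | rfl
    · rfl
    · refine absurd ?_ p.ne
      refine Subtype.ext ?_
      show (p.g : G) * O.z * (p.g : G)⁻¹ = O.z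
      rw [hc' _ p.g.2, mul_inv_cancel_right]
  · refine Or.inl (sup_oddCore_of_isolated ⟨orderOf_eq_prime (by rw [pow_two]; exact O.ext.zz) O.ext.ne,
      fun g hg => ?_⟩)
    have key : ∀ g : G, g ∈ O.V.ker → Commute O.z (g * O.z * g⁻¹) → g * O.z * g⁻¹ = O.z := fun g hgk hg => by
      by_contra hne
      exact hp ⟨⟨⟨g, hgk⟩, Subtype.ext hg.eq.symm, fun e => hne (congrArg Subtype.val e)⟩⟩
    by_cases hgk : g ∈ O.V.ker
    · exact key g hgk hg
    obtain ⟨u, hu, -, hVu⟩ := hodd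
    have e : g * u * O.z * (g * u)⁻¹ = g * O.z * g⁻¹ := by
      rw [show g * u * O.z * (g * u)⁻¹ = g * (u * O.z) * u⁻¹ * g⁻¹ by group, O.comm_z hu]; group
    rw [← e] at hg ⊢
    refine key _ (MonoidHom.mem_ker.2 ?_) hg
    have : ∀ a b : Multiplicative (ZMod 2), a ≠ 1 → b ≠ 1 → a * b = 1 := by decide
    rw [map_mul]
    exact this _ _ (fun h => hgk (MonoidHom.mem_ker.2 h)) hVu

end Outer

/-- The frame of a centraliser with a quotient containing `U₄(2)` with index two. -/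
theorem exists_outer (z : G) (hz : orderOf z = 2)
    (hJ : IsExtraspecial 2 ↥(pCore 2 ↥(CC z))) (hJc : Nat.card ↥(pCore 2 ↥(CC z)) = 2 ^ 9)
    (hCJ : Subgroup.centralizer ((pCore 2 ↥(CC z)) : Set ↥(CC z)) ≤ pCore 2 ↥(CC z))
    {A : Type*} [Group A] (φ : ↥(CC z) →* A) (hsurj : Function.Surjective φ) (hker : φ.ker = pCore 2 ↥(CC z))
    (N : Subgroup A) (hN : N.index = 2) (e : ↥N ≃* Q4) (hcent : Subgroup.centralizer (N : Set A) = ⊥) :
    ∃ O : Outer G, O.z = z ∧ ∀ x : ↥(CC z), ((x : G) ∈ O.H₀ ↔ φ x ∈ N) := by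
  let Q : G → Subgroup G := fun x => (pCore 2 ↥(CC x)).map (CC x).subtype
  have hQ : ∀ x : G, Q x = (pCore 2 ↥(CC x)).map (CC x).subtype := fun _ => rfl
  have hinj := Subgroup.equivMapOfInjective (pCore 2 ↥(CC z)) (CC z).subtype (Subgroup.subtype_injective _)
  have hE : IsExtraspecial 2 ↥(Q z) := Grp.ExtraCentSimple.isExtraspecial_equiv hinj hJ
  have hzQ : z ∈ Q z := Spor.ExtraPair.mem_core_self hQ (by rw [← pow_two, ← hz, pow_orderOf_eq_one])
  have hC : Subgroup.centralizer (Q z : Set G) ≤ Q z := fun c hc => by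
    have hc' := Subgroup.mem_centralizer_iff.1 hc
    have hcz : c ∈ CC z := Subgroup.mem_centralizer_singleton_iff.2 (hc' z hzQ).symm
    exact ⟨⟨c, hcz⟩, hCJ (Subgroup.mem_centralizer_iff.2 fun q hq =>
      Subtype.ext (hc' q ⟨q, hq, rfl⟩)), rfl⟩
  set H₀ := (N.comap φ).map (CC z).subtype with hH₀
  have hmem : ∀ x : ↥(CC z), ((x : G) ∈ H₀ ↔ φ x ∈ N) := fun x =>
    ⟨fun ⟨y, hy, e⟩ => (Subtype.ext e : y = x) ▸ hy, fun h => ⟨x, h, rfl⟩⟩
  have hle : H₀ ≤ CC z := Subgroup.map_subtype_le _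
  haveI hNn : N.Normal := Subgroup.normal_of_index_eq_two hN
  let π : ↥H₀ →* Q4 := e.toMonoidHom.comp (MonoidHom.mk'
    (fun m => (⟨φ ⟨m, hle m.2⟩, (hmem ⟨m, hle m.2⟩).1 m.2⟩ : ↥N)) fun a b => Subtype.ext (by
      push_cast; rw [← map_mul]; rfl))
  have hker' : ∀ x : ↥(CC z), φ x = 1 ↔ (x : G) ∈ Q z := fun x => by
    rw [← MonoidHom.mem_ker, hker]
    exact ⟨fun h => ⟨x, h, rfl⟩, fun ⟨w, hw, e⟩ => (Subtype.ext e : w = x) ▸ hw⟩
  refine ⟨{ z := z, J := Q z, ext := Spor.ExtraPair.ext_core hQ hz hE hC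
            card_J := by rw [← Nat.card_congr hinj.toEquiv, hJc]; norm_num
            H₀ := H₀, H₀_le := hle
            J_le := fun x hx => by
              obtain ⟨y, hy, rfl⟩ := hx
              exact (hmem y).2 (by rw [(hker' y).2 ⟨y, hy, rfl⟩]; exact one_mem _)
            norm₀ := fun h hh m hm => (hmem ⟨h * m * h⁻¹, mul_mem (mul_mem hh (hle hm)) (inv_mem hh)⟩).2 (by
              rw [show (⟨h * m * h⁻¹, _⟩ : ↥(CC z)) = ⟨h, hh⟩ * ⟨m, hle hm⟩ * ⟨h, hh⟩⁻¹ from rfl, map_mul,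
                map_mul, map_inv]
              exact hNn.conj_mem _ ((hmem ⟨m, hle hm⟩).1 hm) _)
            two := fun a ha ha' b hb hb' => (hmem ⟨a * b, mul_mem ha hb⟩).2 (by
              rw [show (⟨a * b, _⟩ : ↥(CC z)) = ⟨a, ha⟩ * ⟨b, hb⟩ from rfl, map_mul,
                Subgroup.mul_mem_iff_of_index_two hN]
              exact iff_of_false (fun h => ha' ((hmem ⟨a, ha⟩).2 h)) (fun h => hb' ((hmem ⟨b, hb⟩).2 h)))
            exists_out := by
              obtain ⟨a, ha⟩ := SetLike.exists_not_mem_of_ne_top N (fun h => by simp [h] at hN) rfl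
              obtain ⟨h, rfl⟩ := hsurj a
              exact ⟨h, h.2, fun h' => ha ((hmem h).1 h')⟩
            π := π
            surj := fun q => by
              obtain ⟨x, hx⟩ := hsurj (e.symm q : A)
              refine ⟨⟨x, (hmem x).2 (hx ▸ (e.symm q).2)⟩, ?_⟩
              show e ⟨φ ⟨x, _⟩, _⟩ = q
              rw [show (⟨φ ⟨x, _⟩, _⟩ : ↥N) = e.symm q from Subtype.ext hx, e.apply_symm_apply]
            ker := fun m => by
              rw [← hker' ⟨m, hle m.2⟩]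
              show e _ = 1 ↔ _
              rw [map_eq_one_iff _ e.injective]
              exact ⟨fun h => congrArg Subtype.val h, fun h => Subtype.ext h⟩
            outer := fun h hh ho k => ?_ }, rfl, hmem⟩
  by_contra hcon
  simp only [not_exists, ne_eq, not_not] at hcon
  refine ho ((hmem ⟨h, hh⟩).2 ?_)
  have hk : (φ ⟨k, hle k.2⟩)⁻¹ * φ ⟨h, hh⟩ ∈ Subgroup.centralizer (N : Set A) := by
    refine Subgroup.mem_centralizer_iff.2 fun a ha => ?_
    obtain ⟨x, rfl⟩ := hsurj a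
    have hxm : (x : G) ∈ H₀ := (hmem x).2 ha
    have e2 := congrArg Subtype.val (e.injective (hcon ⟨x, hxm⟩))
    change φ ⟨h * x * h⁻¹, _⟩ = φ ⟨k * x * (k : G)⁻¹, _⟩ at e2
    rw [show (⟨h * x * h⁻¹, _⟩ : ↥(CC z)) = ⟨h, hh⟩ * x * ⟨h, hh⟩⁻¹ from rfl,
      show (⟨k * x * (k : G)⁻¹, _⟩ : ↥(CC z)) = ⟨k, hle k.2⟩ * x * ⟨k, hle k.2⟩⁻¹ from rfl] at e2
    simp only [map_mul, map_inv] at e2
    calc φ x * ((φ ⟨k, hle k.2⟩)⁻¹ * φ ⟨h, hh⟩)
        = (φ ⟨k, hle k.2⟩)⁻¹ * (φ ⟨k, hle k.2⟩ * φ x * (φ ⟨k, hle k.2⟩)⁻¹) * φ ⟨h, hh⟩ := by group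
      _ = (φ ⟨k, hle k.2⟩)⁻¹ * (φ ⟨h, hh⟩ * φ x * (φ ⟨h, hh⟩)⁻¹) * φ ⟨h, hh⟩ := by rw [e2]
      _ = _ := by group
  rw [hcent, Subgroup.mem_bot, inv_mul_eq_one] at hk
  rw [← hk]
  exact (hmem ⟨k, hle k.2⟩).1 k.2

/-- A centraliser of shape `2¹⁺⁸U₄(2)2`: a subgroup of index two is `U₆(2)`, or the involution is isolated. -/
theorem aut_reduction (z : G) (hz : orderOf z = 2)
    (hJ : IsExtraspecial 2 ↥(pCore 2 ↥(CC z))) (hJc : Nat.card ↥(pCore 2 ↥(CC z)) = 2 ^ 9)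
    (hCJ : Subgroup.centralizer ((pCore 2 ↥(CC z)) : Set ↥(CC z)) ≤ pCore 2 ↥(CC z))
    {A : Type*} [Group A] (φ : ↥(CC z) →* A) (hsurj : Function.Surjective φ) (hker : φ.ker = pCore 2 ↥(CC z))
    (N : Subgroup A) (hN : N.index = 2) (e : ↥N ≃* Q4) (hcent : Subgroup.centralizer (N : Set A) = ⊥)
    (K : Type*) [Field K] [Fintype K] (hK : Fintype.card K = 4) :
    CC z ⊔ oddCore G = ⊤ ∨ ∃ G₀ : Subgroup G, G₀.index = 2 ∧ Nonempty (↥G₀ ≃* PSU 6 K 2) ∧
      Subgroup.centralizer (G₀ : Set G) = ⊥ ∧ ∀ x : ↥(CC z), ((x : G) ∈ G₀ ↔ φ x ∈ N) := by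
  obtain ⟨O, rfl, hO⟩ := exists_outer z hz hJ hJc hCJ φ hsurj hker N hN e hcent
  rcases O.outer_reduction K hK with h | ⟨G₀, h1, h2, h3, h4⟩
  · exact Or.inl h
  · exact Or.inr ⟨G₀, h1, h2, h3, fun x => (h4 x x.2).trans (hO x)⟩

end Cfsg.Agent.Fus.U62Red
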