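import Cfsg.Agent.Lib.Fus.U62Red.Code

/-!
Recognition of `U₆(2)`, the reduction for a centraliser with a larger quotient: data.
-/

set_option autoImplicit false
set_option linter.style.longLine false

namespace Cfsg.Agent.Fus.U62Red

/-- The field automorphism composed with a pairing of the coordinates. -/
def sigN : List ℕ :=
  [4, 12, 1, 3, 64, 192, 16, 48]

/-- The reflection of the reducible module. -/
def sigR : List ℕ :=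
  [1, 2, 4, 8, 16, 48, 64, 128]

/-- An element of order five commuting with `sigN`. -/
def fiveN : List ℕ :=
  [4, 3, 1, 4, 1]

/-- An element of order five commuting with `sigR`. -/
def fiveR : List ℕ :=
  [4, 0, 3, 0, 4]

/-- The kinds of words moving the images of the orthonormal basis back. -/
def natLevels : List (List (ℕ × List ℕ)) :=
  [[(1, []), (2, [0, 0]), (3, [0]), (4, [2]), (8, [2, 0]), (12, [2, 1]), (16, [3, 3]), (21, [4, 3, 3, 4, 0, 3, 0]), (22, [4, 1, 2]), (23, [0,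
    4, 4]), (25, [4, 1]), (26, [0, 4, 4, 0]), (27, [4, 3, 3, 4, 0, 3, 2]), (29, [4, 4, 1, 1]), (30, [4, 3, 3, 4, 0, 3]), (31, [4, 1, 0]), (32,
    [3, 3, 1]), (37, [4, 1, 1]), (38, [4, 4, 2]), (39, [4, 3, 1, 1, 4, 3]), (41, [4, 4]), (42, [4, 3, 1, 1, 4, 3, 0]), (43, [0, 4]), (45, [4, 3,
    3, 0, 3, 3]), (46, [0, 4, 0]), (47, [4, 4, 0]), (48, [0, 3, 3]), (53, [4, 4, 1]), (54, [4, 3, 3, 0, 2, 3]), (55, [4, 0]), (57, [4, 4, 2, 3,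
    4, 3]), (58, [4, 0, 0]), (59, [4, 1, 4]), (61, [4]), (62, [4, 1, 4, 0]), (63, [4, 4, 2, 3, 4, 3, 0]), (64, [3]), (69, [4, 3, 1, 0, 0]), (70,
    [4, 3, 0]), (71, [4, 3, 1, 1]), (73, [4, 3, 0, 0]), (74, [4, 4, 3]), (75, [4, 3, 1]), (77, [4, 4, 3, 0]), (78, [4, 3, 1, 0]), (79, [4, 3]),
    (81, [4, 0, 3, 4, 0, 0]), (82, [4, 0, 3, 4, 0]), (83, [4, 0, 3, 4]), (84, [4, 3, 3, 4, 1, 0]), (88, [4, 3, 4, 3, 3]), (92, [4, 3, 3, 4, 1]),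
    (97, [4, 3, 4, 3]), (98, [4, 4, 2, 3, 3]), (99, [4, 3, 4, 3, 0]), (100, [4, 3, 4, 3, 2]), (104, [4, 3, 0, 4, 3]), (108, [4, 3, 0, 4, 3, 0]),
    (113, [4, 3, 4, 3, 1]), (114, [4, 0, 3, 3, 0]), (115, [4, 0, 3, 3]), (116, [4, 3, 3, 4]), (120, [4, 3, 3, 4, 0]), (124, [4, 0, 3, 3, 2]),
    (128, [3, 4]), (133, [4, 3, 4]), (134, [4, 4, 3, 4, 0]), (135, [4, 3, 4, 1, 0]), (137, [4, 4, 2, 3]), (138, [4, 0, 0, 3, 1]), (139, [4, 3,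
    4, 0]), (141, [4, 3, 4, 1]), (142, [4, 0, 0, 3]), (143, [4, 4, 3, 4]), (145, [4, 3, 0, 3]), (146, [4, 4, 3, 3]), (147, [4, 3, 0, 3, 0]),
    (148, [4, 3, 0, 3, 2]), (152, [4, 4, 3, 3, 2]), (156, [4, 3, 1, 1, 4]), (161, [4, 3, 0, 4]), (162, [4, 4, 3, 3, 1]), (163, [4, 3, 0, 4, 0]),
    (164, [4, 3, 0, 4, 2]), (168, [4, 3, 0, 4, 2, 0]), (172, [0, 4, 3, 3, 3]), (177, [0, 4, 3, 3, 0]), (178, [0, 4, 3, 3]), (179, [4, 1, 4, 3,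
    3]), (180, [4, 3, 3, 0, 3]), (184, [0, 4, 3, 3, 2]), (188, [0, 4, 3, 3, 2, 0]), (192, [0, 3]), (197, [0, 4, 4, 3]), (198, [0, 4, 3, 1]),
    (199, [4, 0, 3, 0]), (201, [4, 0, 3, 1]), (202, [0, 4, 3]), (203, [4, 4, 0, 3]), (205, [4, 0, 3]), (206, [4, 1, 4, 3]), (207, [4, 0, 3, 1,
    0]), (209, [4, 3, 3, 0, 0]), (210, [4, 3, 3, 0]), (211, [4, 3, 3]), (212, [4, 3, 3, 2, 0]), (216, [4, 3, 3, 0, 2]), (220, [4, 3, 3, 2]),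
    (225, [4, 3, 3, 1, 0, 0]), (226, [4, 3, 3, 1, 0]), (227, [4, 3, 3, 1]), (228, [4, 4, 2, 3, 4]), (232, [4, 3, 3, 2, 1]), (236, [4, 3, 3, 1,
    2]), (241, [4, 3, 3, 3, 2]), (242, [4, 4, 0, 3, 3]), (243, [4, 3, 3, 1, 1]), (244, [4, 3, 3, 3]), (248, [4, 3, 3, 3, 0]), (252, [4, 3, 3, 3,
    0, 0])], [(4, []), (8, [1, 1]), (12, [1]), (16, [3, 3, 3, 2]), (32, [3, 3, 3, 2, 1]), (48, [3, 0, 3, 3, 2]), (64, [2, 3]), (84, [0, 3, 4, 4,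
    0, 3, 3, 2, 0]), (88, [0, 3, 4, 3, 3, 3]), (92, [3, 4, 0, 3, 3, 1, 2]), (100, [0, 3, 4, 3, 3, 2]), (104, [3, 4, 3, 0, 3, 3, 0]), (108, [4,
    2, 0, 3, 4, 3, 4, 0]), (116, [3, 4, 0, 3, 3, 2, 0]), (120, [4, 2, 0, 3, 4, 3, 4, 1, 0]), (124, [0, 3, 4, 3, 3, 2, 1]), (128, [1, 1, 2, 3]),
    (148, [3, 4, 4, 3, 3, 0, 2]), (152, [3, 4, 3, 0, 3, 2, 0]), (156, [4, 0, 0, 3, 4, 3, 4, 0]), (164, [3, 0, 4, 3, 3, 3, 0]), (168, [0, 0, 3,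
    4, 3, 3, 3, 0, 0]), (172, [3, 4, 4, 3, 3, 3, 0, 0]), (180, [0, 0, 3, 4, 3, 3, 0, 2]), (184, [0, 3, 4, 3, 0, 3, 3]), (188, [3, 0, 4, 3, 3, 2,
    0]), (192, [1, 2, 3]), (212, [3, 4, 3, 3, 2, 0]), (216, [0, 3, 4, 4, 3, 3, 3, 1, 0]), (220, [0, 3, 0, 4, 3, 3, 2]), (228, [0, 3, 4, 4, 3, 3,
    2, 0]), (232, [0, 3, 4, 3, 0, 3, 2]), (236, [3, 4, 3, 3, 1, 2]), (244, [0, 3, 0, 4, 3, 3, 3]), (248, [3, 4, 3, 3, 3, 0]), (252, [0, 3, 4, 4,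
    3, 3, 3, 0])], [(16, []), (32, [3, 3, 0, 0, 3, 3]), (48, [3, 3, 0, 3, 3]), (64, [3, 3, 2, 3, 3]), (128, [3, 3, 2, 0, 3, 3]), (192, [3, 3, 0,
    2, 3, 3])]]

/-- The linear isometries fixing three vectors of the orthonormal basis: a scalar and a word. -/
def natLast : List (ℕ × List ℕ × List ℕ) :=
  [(0, [], [1, 2, 4, 8, 16, 32, 64, 128]), (1, [1, 0, 0], [1, 2, 4, 8, 16, 32, 128, 192]), (2, [1, 1, 0], [1, 2, 4, 8, 16, 32, 192, 64])]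

/-- The words moving the images of the first five unit vectors back. -/
def redLevels : List (List (ℕ × List ℕ)) :=
  [[(1, []), (2, [1, 1]), (3, [1]), (4, [3, 2]), (8, [3, 2, 1]), (12, [3, 2, 0]), (16, [3]), (21, [4, 0, 3, 4]), (22, [4, 4]), (23, [4]), (25,
    [4, 4, 1]), (26, [4, 1]), (27, [4, 3, 0, 3]), (29, [3, 4, 0]), (30, [1, 1, 4, 3]), (31, [4, 0, 4]), (32, [3, 0]), (37, [4, 3]), (38, [4, 1,
    0]), (39, [4, 3, 0, 3, 0]), (41, [1, 1, 4]), (42, [4, 0, 3]), (43, [4, 3, 1]), (45, [4, 0, 3, 1]), (46, [4, 4, 0]), (47, [4, 0]), (48, [3,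
    0, 0]), (53, [3, 4]), (54, [4, 0, 3, 0]), (55, [4, 3, 1, 0]), (57, [4, 0, 3, 1, 0]), (58, [4, 1, 4]), (59, [4, 0, 0]), (61, [4, 3, 0]), (62,
    [1, 4]), (63, [4, 1, 4, 3])], [(2, []), (3, [3, 3]), (22, [4, 4, 0, 3, 4, 3, 1]), (23, [4, 4, 3, 4, 3, 4, 0]), (26, [4, 3, 4, 3, 2]), (27,
    [3, 4, 3, 4, 4, 0]), (30, [4, 3, 3, 4]), (31, [4, 3, 3, 4, 3, 3]), (38, [4, 3, 4, 3]), (39, [3, 3, 4, 3, 4, 3]), (42, [4, 3, 3, 4, 0]), (43,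
    [3, 4, 4, 3, 4]), (46, [4, 3, 4, 0, 3, 1]), (47, [4, 4, 3, 4, 3, 4, 2]), (54, [4, 3, 1, 4, 1]), (55, [3, 4, 4, 3, 4, 0]), (58, [4, 3, 4, 0,
    3, 1, 0]), (59, [4, 4, 3, 4, 3, 4]), (62, [4, 3, 4, 3, 0]), (63, [3, 4, 3, 4, 4])], [(4, []), (8, [0, 0]), (12, [0]), (16, [2]), (32, [2,
    0]), (48, [0, 2])], [(8, []), (12, [3, 3, 2, 3, 3, 2])], [(16, []), (32, [3, 3, 0, 3, 3, 0, 0]), (48, [3, 3, 0, 0, 3, 3, 0])]]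

/-- Words fixing the first unit vector. -/
def fixOne : List (List ℕ) :=
  [[1], [2, 3]]

/-- Words moving the first unit vector to the others. -/
def toUnit : List (List ℕ) :=
  [[], [0], [2], [2, 0], [3, 2], [3, 2, 0], [3, 3, 2], [3, 3, 2, 0]]

/-- Words fixing the representative point. -/
def orbW : List (List ℕ) :=
  [[1, 4, 3, 3, 1, 2, 3], [4, 1, 1, 0], [3, 3, 0, 3, 3]]

/-- The isotropic subspaces stable under the stabiliser of the point. -/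
def stableT : List (List ℕ) :=
  [[0, 5, 10, 15, 80, 85, 90, 95, 176, 181, 186, 191, 224, 229, 234, 239], [0, 5, 10, 15, 96, 101, 106, 111, 144, 149, 154, 159, 240, 245,
    250, 255], [0, 5, 10, 15, 112, 117, 122, 127, 160, 165, 170, 175, 208, 213, 218, 223]]

/-- For each of them: a basis, the expansions of the unit vectors in it, the possible images and words moving these. -/
def moveData : List (List ℕ × List ℕ × List ℕ × List (List ℕ × List ℕ)) :=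
  [([0, 5, 10, 15, 80, 85, 90, 95, 176, 181, 186, 191, 224, 229, 234, 239], [5, 10, 80, 160, 176, 208, 1, 2], [64, 128, 65, 130, 24, 44, 28,
    36], [([0, 4, 2, 3, 4, 3, 0], [0, 4, 2, 0, 3, 4]), ([0, 0, 4, 3, 4, 3, 0], [0, 4, 2, 0, 3, 4]), ([0, 4, 4, 3, 4, 4, 3, 0, 0], [1, 1, 4, 3,
    1]), ([0, 4, 4, 3, 4, 4, 3, 2, 0], [1, 1, 4, 3, 1]), ([0, 3, 4, 4, 3, 4, 2, 3, 3, 0], [0, 4, 4, 0, 3, 1]), ([3, 4, 3, 0, 3, 4, 4, 3, 4, 1],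
    [0, 4, 4, 0, 3, 1])]), ([0, 5, 10, 15, 96, 101, 106, 111, 144, 149, 154, 159, 240, 245, 250, 255], [5, 10, 96, 176, 144, 224, 1, 2], [64,
    128, 65, 130, 52, 24, 28, 36], [([1, 1, 4, 3, 4, 1, 4, 3], [0, 4, 3, 3, 4, 0]), ([0, 4, 2, 3, 4, 0, 3, 4], [1, 1, 4, 3, 1]), ([0, 0, 4, 3,
    4, 0, 3, 4], [1, 1, 4, 3, 1]), ([1, 4, 2, 3, 4, 3, 2, 1, 1], [0, 4, 3, 3, 4, 0]), ([1, 4, 4, 3, 4, 4, 3, 1, 1], [0, 0, 4, 3, 0]), ([3, 0, 2,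
    3, 4, 3, 2, 1, 4], [0, 0, 4, 3, 0])]), ([0, 5, 10, 15, 112, 117, 122, 127, 160, 165, 170, 175, 208, 213, 218, 223], [5, 10, 112, 144, 160,
    240, 1, 2], [64, 128, 65, 130, 44, 52, 28, 36], [([1, 1, 4, 3, 4, 3, 1], [0, 4, 4, 3, 0, 0]), ([2, 1, 1, 4, 3, 4, 3, 1], [0, 4, 4, 3, 0,
    0]), ([1, 4, 4, 3, 4, 2, 0, 3], [0, 4, 3, 3, 4, 0]), ([1, 4, 4, 3, 0, 4, 0, 3], [0, 4, 3, 3, 4, 0]), ([1, 1, 4, 3, 4, 0, 4, 3, 4], [0, 0, 4,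
    3, 0]), ([1, 1, 4, 3, 4, 0, 4, 3, 4, 2], [0, 0, 4, 3, 0])])]

/-- Representatives of the singular points. -/
def repA : List ℕ :=
  [5, 65, 129, 193]

/-- Words moving the singular points to the representatives. -/
def orbA : List (List ℕ) :=
  [[], [4, 0], [1, 0], [0, 0], [4], [1], [0], [1, 1], [4, 4], [2], [2, 1, 1], [2, 1], [3], [3, 1], [3, 1, 1], [2, 0], [4, 2], [1, 2], [3, 1,
    0], [3, 4], [3, 0], [0, 2], [4, 2, 0], [1, 2, 0], [3, 4, 0], [3, 0, 0], [4, 3], [3, 2], [3, 2, 1], [3, 2, 0], [4, 0, 3, 4], [4, 4, 1], [4,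
    1], [4, 3, 0, 3], [1, 1, 4, 3], [4, 0, 4], [4, 1, 0], [4, 3, 0, 3, 0], [1, 1, 4], [4, 0, 3], [4, 3, 1], [4, 0, 3, 1], [4, 4, 0], [4, 0, 3,
    0], [4, 3, 1, 0], [4, 0, 3, 1, 0], [4, 1, 4], [4, 0, 0], [4, 3, 0], [1, 4], [4, 1, 4, 3]]

/-- Words fixing each representative. -/
def stabA : List (ℕ × List (List ℕ)) :=
  [(5, [[4, 1, 0, 0], [0, 4, 3, 3, 4, 3]]), (65, [[3, 3, 0, 3, 3, 0], [0, 2, 3, 3, 2]]), (129, [[3, 3, 0, 3, 3, 0], [0, 2, 3, 3, 2]]), (193,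
    [[3, 3, 0, 3, 3, 0], [0, 2, 3, 3, 2]])]

/-- Representatives of the singular points. -/
def repH : List ℕ :=
  [5, 64, 69, 128, 133, 193]

/-- Words moving the singular points to the representatives. -/
def orbH : List (List ℕ) :=
  [[], [4, 0], [1, 0], [0, 0], [4], [1], [0], [1, 1], [4, 4], [2], [2, 1, 1], [2, 1], [3], [3, 1], [3, 1, 1], [2, 0], [4, 2], [1, 2], [3, 1,
    0], [3, 4], [3, 0], [0, 2], [4, 2, 0], [1, 2, 0], [3, 4, 0], [3, 0, 0], [4, 3], [3, 2], [3, 2, 1], [3, 2, 0], [4, 0, 3, 4], [4, 4, 1], [4,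
    1], [4, 3, 0, 3], [1, 1, 4, 3], [4, 0, 4], [4, 1, 0], [4, 3, 0, 3, 0], [1, 1, 4], [4, 0, 3], [4, 3, 1], [4, 0, 3, 1], [4, 4, 0], [4, 0, 3,
    0], [4, 3, 1, 0], [4, 0, 3, 1, 0], [4, 1, 4], [4, 0, 0], [4, 3, 0], [1, 4], [4, 1, 4, 3]]

/-- Words fixing each representative. -/
def stabH : List (ℕ × List (List ℕ)) :=
  [(5, [[3, 4, 3, 1], [0, 0, 3, 4, 1]]), (64, [[1, 2], [1]]), (69, [[3, 4, 3, 0, 4, 4], [3, 3]]), (128, [[1, 2], [1]]), (133, [[3, 4, 3, 0, 4,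
    4], [3, 3]]), (193, [[4, 3, 1, 4, 1], [0, 4, 3, 3, 4, 0]])]

end Cfsg.Agent.Fus.U62Red
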