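import Cfsg.Agent.Lib.Fus.U62Red.Gens
import Cfsg.Agent.Lib.Fus.U62Red.AutData

/-!
Recognition of `U₆(2)`, the reduction for a centraliser with a larger quotient: linear maps on numbers.
-/

set_option autoImplicit false
set_option maxRecDepth 100000

namespace Cfsg.Agent.Fus.U62Red

open Cfsg.Agent.Invol.ExtraEight (app idm mu app_lt app_mu app_idm app_zero app_xor eq_app)

/-- A linear map on the numbers below 256. -/
structure IsLin (f : ℕ → ℕ) : Prop where
  lt : ∀ v < 256, f v < 256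
  add : ∀ u < 256, ∀ v < 256, f (u ^^^ v) = f u ^^^ f v

theorem xor_lt {u v : ℕ} (hu : u < 256) (hv : v < 256) : u ^^^ v < 256 := Nat.xor_lt_two_pow (n := 8) hu hv

theorem IsLin.zero {f : ℕ → ℕ} (hf : IsLin f) : f 0 = 0 := by
  have h := hf.add 0 (by norm_num) 0 (by norm_num)
  rw [Nat.xor_self, Nat.xor_self] at h
  exact h

theorem IsLin.eq_app {f : ℕ → ℕ} (hf : IsLin f) {v : ℕ} (hv : v < 256) : f v = app (idm.map f) v :=
  Cfsg.Agent.Invol.ExtraEight.eq_app f hf.zero hf.add hv

/-- Two linear maps agreeing on the unit vectors agree. -/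
theorem IsLin.ext {f g : ℕ → ℕ} (hf : IsLin f) (hg : IsLin g) (h : ∀ i < 8, f (1 <<< i) = g (1 <<< i))
    {v : ℕ} (hv : v < 256) : f v = g v := by
  rw [hf.eq_app hv, hg.eq_app hv]
  congr 1
  refine List.map_congr_left fun x hx => ?_
  obtain ⟨i, hi, rfl⟩ : ∃ i < 8, 1 <<< i = x := by
    have : ∀ x ∈ idm, ∃ i < 8, 1 <<< i = x := by decide
    exact this x hx
  exact h i hi

theorem isLin_app {g : List ℕ} (hg : ∀ x ∈ g, x < 256) : IsLin (app g) :=
  ⟨fun v _ => app_lt hg v, fun u _ v _ => app_xor g u v⟩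

theorem isLin_mat (K : Kind) (w : List ℕ) : IsLin (app (K.mat w)) := isLin_app (mat_lt K w)

theorem IsLin.comp {f g : ℕ → ℕ} (hf : IsLin f) (hg : IsLin g) : IsLin fun v => f (g v) :=
  ⟨fun v hv => hf.lt _ (hg.lt v hv), fun u hu v hv => by
    show f (g (u ^^^ v)) = f (g u) ^^^ f (g v)
    rw [hg.add u hu v hv, hf.add _ (hg.lt u hu) _ (hg.lt v hv)]⟩

/-- A power of the scalar. -/
def omp : ℕ → ℕ → ℕ
  | 0, v => v
  | k + 1, v => app OM (omp k v)

theorem omp_lt : ∀ (k : ℕ) {v : ℕ}, v < 256 → omp k v < 256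
  | 0, _, hv => hv
  | _ + 1, _, _ => app_lt OM_lt _

theorem omp_add (j k v : ℕ) : omp (j + k) v = omp j (omp k v) := by
  induction j with
  | zero => rw [Nat.zero_add]; rfl
  | succ j ih => rw [Nat.succ_add]; show app OM _ = app OM _; rw [ih]

theorem isLin_omp : ∀ k : ℕ, IsLin (omp k)
  | 0 => ⟨fun _ h => h, fun _ _ _ _ => rfl⟩
  | k + 1 => (isLin_app OM_lt).comp (isLin_omp k)

theorem mat_omp (w : List ℕ) (k : ℕ) {v : ℕ} (hv : v < 256) :
    app (Kind.nat.mat w) (omp k v) = omp k (app (Kind.nat.mat w) v) := by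
  induction k with
  | zero => rfl
  | succ k ih => show app _ (app OM _) = app OM _; rw [app_mat_OM w (omp_lt k hv), ih]

theorem omp_three {v : ℕ} (hv : v < 256) : omp 3 v = v := by
  have h : ∀ v < 256, omp 3 v = v := by decide +kernel
  exact h v hv

theorem omp_q (k : ℕ) {v : ℕ} (hv : v < 256) : Kind.q .nat (omp k v) = Kind.q .nat v := by
  induction k with
  | zero => rfl
  | succ k ih =>
    have h : ∀ v < 256, Kind.q .nat (app OM v) = Kind.q .nat v := by decide +kernel
    show Kind.q .nat (app OM _) = _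
    rw [h _ (omp_lt k hv), ih]

theorem nat_one_fixed : ∀ c < 256, (∀ w ∈ fixOne, app (Kind.nat.mat w) c = c) → c ≠ 0 →
    ∃ k < 3, c = omp k 1 ∧ ∀ i < 8, app (Kind.nat.mat (toUnit.getD i [])) c = omp k (1 <<< i) := by decide +kernel

theorem fixOne_check : ∀ w ∈ fixOne, app (Kind.nat.mat w) 1 = 1 := by decide +kernel

theorem toUnit_check : ∀ i < 8, app (Kind.nat.mat (toUnit.getD i [])) 1 = 1 <<< i := by decide +kernel

/-- The maps commuting with the natural module are the scalars. -/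
theorem natural_commutant {f : ℕ → ℕ} (hf : IsLin f) (h1 : f 1 ≠ 0)
    (hc : ∀ w : List ℕ, ∀ v < 256, f (app (Kind.nat.mat w) v) = app (Kind.nat.mat w) (f v)) :
    ∃ k < 3, ∀ v < 256, f v = omp k v := by
  obtain ⟨k, hk, -, hunit⟩ := nat_one_fixed (f 1) (hf.lt 1 (by norm_num)) (fun w hw => by
    rw [← hc w 1 (by norm_num), fixOne_check w hw]) h1
  refine ⟨k, hk, fun v hv => hf.ext (isLin_omp k) (fun i hi => ?_) hv⟩
  rw [← toUnit_check i hi, hc _ 1 (by norm_num), hunit i hi, toUnit_check i hi]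

theorem natLevels_check : ∀ i < 3, (((List.range 256).filter fun c => Kind.q .nat c &&
      ((List.range i).all fun j => !Kind.bq .nat c (4 ^ j) && !Kind.bq .nat (app OM c) (4 ^ j))) =
        (natLevels.getD i []).map Prod.fst) ∧
    ∀ p ∈ natLevels.getD i [], app (Kind.nat.mat p.2) p.1 = 4 ^ i ∧
      ∀ j < i, app (Kind.nat.mat p.2) (4 ^ j) = 4 ^ j := by decide +kernel

theorem natLast_check : ((List.range 256).filter fun c => Kind.q .nat c &&
      ((List.range 3).all fun j => !Kind.bq .nat c (4 ^ j) && !Kind.bq .nat (app OM c) (4 ^ j))) =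
        natLast.map (fun p => app p.2.2 64) ∧
    ∀ p ∈ natLast, (∀ x ∈ p.2.2, x < 256) ∧ ∀ i < 8, app p.2.2 (1 <<< i) = omp p.1 (app (Kind.nat.mat p.2.1) (1 <<< i)) ∧
      ∀ j < 3, app p.2.2 (4 ^ j) = 4 ^ j ∧ app p.2.2 (app OM (4 ^ j)) = app OM (4 ^ j) := by decide +kernel

theorem units_nat : ∀ i < 8, 1 <<< i = 4 ^ (i / 2) ∨ 1 <<< i = app OM (4 ^ (i / 2)) := by decide +kernel

/-- A linear isometry of the natural module. -/
structure IsIso4 (f : ℕ → ℕ) : Prop where
  lin : IsLin f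
  om : ∀ v < 256, f (app OM v) = app OM (f v)
  q : ∀ v < 256, Kind.q .nat (f v) = Kind.q .nat v

theorem IsIso4.bq {f : ℕ → ℕ} (hf : IsIso4 f) {u v : ℕ} (hu : u < 256) (hv : v < 256) :
    Kind.bq .nat (f u) (f v) = Kind.bq .nat u v := by
  rw [Kind.bq, Kind.bq, ← hf.lin.add u hu v hv, hf.q _ (xor_lt hu hv), hf.q u hu, hf.q v hv]

theorem IsIso4.mat {f : ℕ → ℕ} (hf : IsIso4 f) (w : List ℕ) : IsIso4 fun v => app (Kind.nat.mat w) (f v) :=
  ⟨(isLin_mat _ w).comp hf.lin, fun v hv => by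
    show app _ (f (app OM v)) = _
    rw [hf.om v hv, app_mat_OM w (hf.lin.lt v hv)], fun v hv => by
    show Kind.q .nat (app _ (f v)) = _
    rw [mat_q _ _ (hf.lin.lt v hv), hf.q v hv]⟩

theorem nat_image {f : ℕ → ℕ} (hf : IsIso4 f) {i : ℕ} (hi : i ≤ 3)
    (hfix : ∀ j < i, f (4 ^ j) = 4 ^ j) :
    f (4 ^ i) ∈ (List.range 256).filter fun c => Kind.q .nat c &&
      ((List.range i).all fun j => !Kind.bq .nat c (4 ^ j) && !Kind.bq .nat (app OM c) (4 ^ j)) := by
  have hlt : ∀ j ≤ 3, 4 ^ j < 256 := by decide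
  have hbase : ∀ i ≤ 3, Kind.q .nat (4 ^ i) = true ∧ ∀ j < i, Kind.bq .nat (4 ^ i) (4 ^ j) = false ∧
      Kind.bq .nat (app OM (4 ^ i)) (4 ^ j) = false := by decide +kernel
  obtain ⟨hq, hb⟩ := hbase i hi
  rw [List.mem_filter, Bool.and_eq_true, List.all_eq_true]
  refine ⟨List.mem_range.2 (hf.lin.lt _ (hlt i hi)), by rw [hf.q _ (hlt i hi)]; exact hq, fun j hj => ?_⟩
  have hj' : j < i := List.mem_range.1 hj
  have hji := hlt j (by omega)
  rw [← hfix j hj', hf.bq (hlt i hi) hji, ← hf.om _ (hlt i hi), hf.bq (app_lt OM_lt _) hji]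
  simp [(hb j hj').1, (hb j hj').2]

/-- A linear isometry of the natural module is a word times a scalar. -/
theorem natural_isometry {f : ℕ → ℕ} (hf : IsIso4 f) :
    ∃ w : List ℕ, ∃ k < 3, ∀ v < 256, f v = app (Kind.nat.mat w) (omp k v) := by
  have step : ∀ i ≤ 3, ∃ w, ∀ j < i, app (Kind.nat.mat w) (f (4 ^ j)) = 4 ^ j := by
    intro i hi
    induction i with
    | zero => exact ⟨[], fun j hj => absurd hj (by omega)⟩
    | succ i ih =>
      obtain ⟨w, hw⟩ := ih (by omega)
      have hmem := nat_image (hf.mat w) (i := i) (by omega) hw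
      rw [(natLevels_check i (by omega)).1, List.mem_map] at hmem
      obtain ⟨p, hp, hpe⟩ := hmem
      obtain ⟨h1, h2⟩ := (natLevels_check i (by omega)).2 p hp
      refine ⟨p.2 ++ w, fun j hj => ?_⟩
      have hlt : f (4 ^ j) < 256 := hf.lin.lt _ (Nat.pow_lt_pow_right (by norm_num) (by omega : j < 4))
      rw [app_mat_append _ _ _ hlt]
      rcases Nat.lt_succ_iff_lt_or_eq.1 hj with hj' | rfl
      · rw [hw j hj', h2 j hj']
      · exact (congrArg _ hpe.symm).trans h1
  obtain ⟨w, hw⟩ := step 3 le_rfl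
  have hg := hf.mat w
  have hmem := nat_image hg (i := 3) le_rfl hw
  rw [natLast_check.1, List.mem_map] at hmem
  obtain ⟨p, hp, hpe⟩ := hmem
  obtain ⟨hlt, hD⟩ := natLast_check.2 p hp
  obtain ⟨w', hw'⟩ := exists_word (el w)⁻¹
  have hinv : Kind.nat.mat (w' ++ w) = idm := el_eq_one_iff.1 (by rw [el_append, hw', inv_mul_cancel])
  have hk : p.1 < 3 := by
    have : ∀ p ∈ natLast, p.1 < 3 := by decide +kernel
    exact this p hp
  refine ⟨w' ++ p.2.1, p.1, hk, fun v hv => ?_⟩
  have key : ∀ v < 256, app (Kind.nat.mat w) (f v) = app (Kind.nat.mat p.2.1) (omp p.1 v) := by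
    intro v hv
    refine hg.lin.ext ((isLin_mat _ p.2.1).comp (isLin_omp p.1)) (fun i hi => ?_) hv
    show app (Kind.nat.mat w) (f (1 <<< i)) = app (Kind.nat.mat p.2.1) (omp p.1 (1 <<< i))
    obtain ⟨hu, hj⟩ := hD i hi
    rw [mat_omp p.2.1 p.1 (by
      have : ∀ i < 8, 1 <<< i < 256 := by decide
      exact this i hi), ← hu]
    have h4 : ∀ j < 4, app (Kind.nat.mat w) (f (4 ^ j)) = app p.2.2 (4 ^ j) := by
      intro j hj'
      rcases (show j < 3 ∨ j = 3 by omega) with h | rfl
      · rw [hw j h, ((hD 0 (by norm_num)).2 j h).1]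
      · exact hpe.symm
    rcases units_nat i hi with e | e <;> rw [e]
    · exact h4 _ (by omega)
    · have hlt4 : 4 ^ (i / 2) < 256 := Nat.pow_lt_pow_right (by norm_num) (by omega : i / 2 < 4)
      rw [hf.om _ hlt4, app_mat_OM w (hf.lin.lt _ hlt4), h4 _ (by omega)]
      have : ∀ p ∈ natLast, ∀ j < 4, app OM (app p.2.2 (4 ^ j)) = app p.2.2 (app OM (4 ^ j)) := by decide +kernel
      exact this p hp _ (by omega)
  calc f v = app (Kind.nat.mat (w' ++ w)) (f v) := by rw [hinv, app_idm _ (hf.lin.lt v hv)]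
    _ = app (Kind.nat.mat w') (app (Kind.nat.mat w) (f v)) := app_mat_append _ _ _ (hf.lin.lt v hv)
    _ = _ := by rw [key v hv, ← app_mat_append _ _ _ (omp_lt _ hv)]

theorem redLevels_check : ∀ K ∈ [Kind.redA, Kind.redH], ∀ i < 5, ((List.range 64).all fun c =>
      !((K.q c == K.q (1 <<< i)) && ((List.range i).all fun j => K.bq c (1 <<< j) == K.bq (1 <<< i) (1 <<< j)) &&
        !((List.range (2 ^ i)).contains c)) || ((redLevels.getD i []).map Prod.fst).contains c) = true ∧
    ∀ p ∈ redLevels.getD i [], app (K.mat p.2) p.1 = 1 <<< i ∧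
      ∀ j < i, app (K.mat p.2) (1 <<< j) = 1 <<< j := by decide +kernel

theorem redLast_check : ∀ K ∈ [Kind.redA, Kind.redH], ∀ c < 64, K.q c = K.q 32 →
    (∀ j < 5, K.bq c (1 <<< j) = K.bq 32 (1 <<< j)) → 32 ≤ c → c = 32 ∨ c = app sigR 32 := by decide +kernel

theorem red_six : ∀ K ∈ [Kind.redA, Kind.redH], ∀ v < 64, ∀ i < 5, app (K.mat [i]) v < 64 := by decide +kernel

theorem sigR_fixed : ∀ i < 5, app sigR (1 <<< i) = 1 <<< i := by decide +kernel

/-- An isometry of the six-dimensional part of a reducible module. -/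
structure IsIso6 (K : Kind) (f : ℕ → ℕ) : Prop where
  lt : ∀ v < 64, f v < 64
  add : ∀ u < 64, ∀ v < 64, f (u ^^^ v) = f u ^^^ f v
  inj : ∀ v < 64, f v = 0 → v = 0
  q : ∀ v < 64, K.q (f v) = K.q v

theorem red_mat_six {K : Kind} (hK : K ∈ [Kind.redA, Kind.redH]) (w : List ℕ) {v : ℕ} (hv : v < 64) :
    app (K.mat w) v < 64 := by
  induction w with
  | nil => rw [app_mat_nil _ (by omega)]; exact hv
  | cons i w ih =>
    rw [app_mat_cons]
    by_cases hi : i < 5
    · have h := red_six K hK _ ih i hi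
      rwa [app_mat_cons, app_mat_nil _ (by omega)] at h
    · have hlen : K.gens.length ≤ i := by
        have : ∀ K ∈ [Kind.redA, Kind.redH], K.gens.length = 5 := by decide
        rw [this K hK]; omega
      rw [List.getD_eq_default _ _ hlen, app_idm _ (by omega)]
      exact ih

theorem IsIso6.bq {K : Kind} {f : ℕ → ℕ} (hf : IsIso6 K f) {u v : ℕ} (hu : u < 64) (hv : v < 64) :
    K.bq (f u) (f v) = K.bq u v := by
  rw [Kind.bq, Kind.bq, ← hf.add u hu v hv, hf.q _ (Nat.xor_lt_two_pow (n := 6) hu hv), hf.q u hu, hf.q v hv]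

theorem IsIso6.mat {K : Kind} (hK : K ∈ [Kind.redA, Kind.redH]) {f : ℕ → ℕ} (hf : IsIso6 K f) (w : List ℕ)
    (hinj : ∀ v < 256, app (K.mat w) v = 0 → v = 0) : IsIso6 K fun v => app (K.mat w) (f v) :=
  ⟨fun v hv => red_mat_six hK w (hf.lt v hv), fun u hu v hv => by
    show app _ (f (u ^^^ v)) = _
    rw [hf.add u hu v hv, app_xor],
    fun v hv h => hf.inj v hv (hinj _ (by have := hf.lt v hv; omega) h), fun v hv => by
    show K.q (app _ (f v)) = _
    rw [mat_q _ _ (by have := hf.lt v hv; omega), hf.q v hv]⟩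

theorem IsIso6.inj' {K : Kind} {f : ℕ → ℕ} (hf : IsIso6 K f) {u v : ℕ} (hu : u < 64) (hv : v < 64)
    (h : f u = f v) : u = v := by
  have := hf.inj _ (Nat.xor_lt_two_pow (n := 6) hu hv) (by rw [hf.add u hu v hv, h, Nat.xor_self])
  exact Nat.xor_eq_zero_iff.1 this

/-- An isometry of the six-dimensional part is a word or a word times the reflection. -/
theorem reducible_isometry {K : Kind} (hK : K ∈ [Kind.redA, Kind.redH])
    (hinj : ∀ (w : List ℕ), ∀ v < 256, app (K.mat w) v = 0 → v = 0) {f : ℕ → ℕ} (hf : IsIso6 K f) :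
    ∃ w : List ℕ, (∀ v < 64, app (K.mat w) (f v) = v) ∨ ∀ v < 64, app (K.mat w) (f v) = app sigR v := by
  have hl : ∀ i < 6, 1 <<< i < 64 := by decide
  have hcand : ∀ (g : ℕ → ℕ), IsIso6 K g → ∀ i ≤ 5, (∀ j < i, g (1 <<< j) = 1 <<< j) →
      g (1 <<< i) < 64 ∧ K.q (g (1 <<< i)) = K.q (1 <<< i) ∧
      (∀ j < i, K.bq (g (1 <<< i)) (1 <<< j) = K.bq (1 <<< i) (1 <<< j)) ∧ 2 ^ i ≤ g (1 <<< i) := by
    intro g hg i hi hfix
    refine ⟨hg.lt _ (hl i (by omega)), hg.q _ (hl i (by omega)), fun j hj => ?_, ?_⟩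
    · conv_lhs => rw [← hfix j hj]
      exact hg.bq (hl i (by omega)) (hl j (by omega))
    · by_contra hlt
      have hspan : ∀ i ≤ 5, ∀ c < 2 ^ i, c = (List.range i).foldl
          (fun a j => a ^^^ cond (c.testBit j) (1 <<< j) 0) 0 := by decide +kernel
      have key : ∀ (L : List ℕ) (a : ℕ), (∀ j ∈ L, j < i) → a < 64 → g a = a → ∀ c,
          g (L.foldl (fun a j => a ^^^ cond (Nat.testBit c j) (1 <<< j) 0) a) =
            L.foldl (fun a j => a ^^^ cond (Nat.testBit c j) (1 <<< j) 0) a := by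
        intro L
        induction L with
        | nil => intro a _ _ h c; exact h
        | cons j L ih =>
          intro a hL ha h c
          have hj := hL j (List.mem_cons_self ..)
          have hb : cond (Nat.testBit c j) (1 <<< j) 0 < 64 := by
            cases Nat.testBit c j <;> simp [hl j (by omega)]
          refine ih _ (fun x hx => hL x (List.mem_cons_of_mem _ hx)) (Nat.xor_lt_two_pow (n := 6) ha hb) ?_ c
          rw [hg.add _ ha _ hb, h]
          cases Nat.testBit c j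
          · have h0 := hg.add 0 (by norm_num) 0 (by norm_num)
            rw [Nat.xor_self, Nat.xor_self] at h0
            simp [h0]
          · simp [hfix j hj]
      have hfixc : g (g (1 <<< i)) = g (1 <<< i) := by
        have e := hspan i hi _ (not_le.1 hlt)
        have h0 := hg.add 0 (by norm_num) 0 (by norm_num)
        rw [Nat.xor_self, Nat.xor_self] at h0
        rw [e]
        exact key _ 0 (fun j hj => List.mem_range.1 hj) (by norm_num) h0 _
      have heq := hg.inj' (hg.lt _ (hl i (by omega))) (hl i (by omega)) hfixc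
      rw [heq, Nat.one_shiftLeft] at hlt
      exact hlt le_rfl
  have step : ∀ i ≤ 5, ∃ w, ∀ j < i, app (K.mat w) (f (1 <<< j)) = 1 <<< j := by
    intro i hi
    induction i with
    | zero => exact ⟨[], fun j hj => absurd hj (by omega)⟩
    | succ i ih =>
      obtain ⟨w, hw⟩ := ih (by omega)
      obtain ⟨c1, c2, c3, c4⟩ := hcand _ (hf.mat hK w (hinj w)) i (by omega) hw
      have hmem := List.all_eq_true.1 (redLevels_check K hK i (by omega)).1 _ (List.mem_range.2 c1)
      simp only [Bool.or_eq_true, Bool.not_eq_true', Bool.and_eq_false_iff, beq_eq_false_iff_ne, List.all_eq_false,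
        List.contains_iff_mem, List.mem_range, beq_iff_eq] at hmem
      rcases hmem with ((h | ⟨j, hj, h⟩) | h) | h
      · exact absurd c2 h
      · exact absurd (c3 j hj) h
      · rw [Bool.not_eq_false', List.contains_iff_mem, List.mem_range] at h
        omega
      obtain ⟨p, hp, hpe⟩ := List.mem_map.1 h
      obtain ⟨h1, h2⟩ := (redLevels_check K hK i (by omega)).2 p hp
      refine ⟨p.2 ++ w, fun j hj => ?_⟩
      have hlt : f (1 <<< j) < 256 := by have := hf.lt _ (hl j (by omega)); omega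
      rw [app_mat_append _ _ _ hlt]
      rcases Nat.lt_succ_iff_lt_or_eq.1 hj with hj' | rfl
      · rw [hw j hj', h2 j hj']
      · exact (congrArg _ hpe.symm).trans h1
  obtain ⟨w, hw⟩ := step 5 le_rfl
  have hg := hf.mat hK w (hinj w)
  obtain ⟨c1, c2, c3, c4⟩ := hcand _ hg 5 le_rfl hw
  refine ⟨w, ?_⟩
  have hext : ∀ (h : ℕ → ℕ), (∀ u < 64, ∀ v < 64, h (u ^^^ v) = h u ^^^ h v) →
      (∀ i < 6, app (K.mat w) (f (1 <<< i)) = h (1 <<< i)) → ∀ v < 64, app (K.mat w) (f v) = h v := by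
    intro h hh hu v hv
    have hspan : ∀ c < 64, c = (List.range 6).foldl
        (fun a j => a ^^^ cond (c.testBit j) (1 <<< j) 0) 0 := by decide +kernel
    have key : ∀ (L : List ℕ) (a : ℕ), (∀ j ∈ L, j < 6) → a < 64 → app (K.mat w) (f a) = h a → ∀ c,
        app (K.mat w) (f (L.foldl (fun a j => a ^^^ cond (Nat.testBit c j) (1 <<< j) 0) a)) =
          h (L.foldl (fun a j => a ^^^ cond (Nat.testBit c j) (1 <<< j) 0) a) := by
      intro L
      induction L with
      | nil => intro a _ _ e c; exact e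
      | cons j L ih =>
        intro a hL ha e c
        have hb : cond (Nat.testBit c j) (1 <<< j) 0 < 64 := by
          cases Nat.testBit c j <;> simp [hl j (hL j (List.mem_cons_self ..))]
        refine ih _ (fun x hx => hL x (List.mem_cons_of_mem _ hx)) (Nat.xor_lt_two_pow (n := 6) ha hb) ?_ c
        rw [hf.add _ ha _ hb, app_xor, e, hh _ ha _ hb]
        cases Nat.testBit c j
        · have h0 := hf.add 0 (by norm_num) 0 (by norm_num)
          have h0' := hh 0 (by norm_num) 0 (by norm_num)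
          rw [Nat.xor_self, Nat.xor_self] at h0 h0'
          simp [h0, h0', app_zero]
        · simp [hu j (hL j (List.mem_cons_self ..))]
    have h0 := hf.add 0 (by norm_num) 0 (by norm_num)
    have h0' := hh 0 (by norm_num) 0 (by norm_num)
    rw [Nat.xor_self, Nat.xor_self] at h0 h0'
    rw [hspan v hv]
    exact key _ 0 (fun j hj => List.mem_range.1 hj) (by norm_num) (by rw [h0, h0', app_zero]) _
  rcases redLast_check K hK _ c1 c2 c3 c4 with e | e
  · refine Or.inl (hext (fun v => v) (fun _ _ _ _ => rfl) fun i hi => ?_)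
    rcases (show i < 5 ∨ i = 5 by omega) with h | rfl
    exacts [hw i h, e]
  · refine Or.inr (hext (app sigR) (fun u _ v _ => app_xor sigR u v) fun i hi => ?_)
    rcases (show i < 5 ∨ i = 5 by omega) with h | rfl
    exacts [(hw i h).trans (sigR_fixed i h).symm, e]

end Cfsg.Agent.Fus.U62Red
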