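import Cfsg.Agent.Lib.Fus.U62Red.Plane

/-!
Recognition of `U₆(2)`, the reduction: coordinates in the reducible case, and the classification.
-/

set_option autoImplicit false
set_option maxHeartbeats 1000000

namespace Cfsg.Agent.Fus.U62Red

open Cfsg.Agent.Fus.U62Rec (Q4)
open Cfsg.Agent.Invol.ExtraEight (app idm mu comb comb_xor comb_zero)

namespace Mod

variable {V : Type*} [AddCommGroup V] (M : Mod V)

/-- A basis of the fixed plane in standard form. -/
theorem exists_plane (hV : Nat.card ↥M.V0 = 4) : ∃ f ∈ M.V0, ∃ f' ∈ M.V0,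
    (∀ x ∈ M.V0, ∃ d < 4, comb [f, f'] d = x) ∧ (∀ a < 4, ∀ b < 4, comb [f, f'] a = comb [f, f'] b → a = b) ∧
    ((∀ d < 4, M.q (comb [f, f'] d) = !(d == 0)) ∨ (∀ d < 4, M.q (comb [f, f'] d) = (d == 3))) := by
  classical
  haveI := M.finite
  haveI : Nontrivial ↥M.V0 := Finite.one_lt_card_iff_nontrivial.1 (by rw [hV]; norm_num)
  obtain ⟨⟨f, hf⟩, hne⟩ := exists_ne (0 : ↥M.V0)
  have h0 : f ≠ 0 := fun e => hne (Subtype.ext e)
  obtain ⟨f', hf', hf'0, hf'f⟩ : ∃ f' ∈ M.V0, f' ≠ 0 ∧ f' ≠ f := by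
    by_contra hcon
    have hsub : (M.V0 : Set V) ⊆ {0, f} := fun x hx => by
      by_cases e0 : x = 0
      · simp [e0]
      by_cases e1 : x = f
      · simp [e1]
      exact absurd ⟨x, hx, e0, e1⟩ hcon
    have h := (Set.ncard_le_ncard hsub (Set.toFinite _)).trans (Set.ncard_insert_le _ _)
    rw [Set.ncard_singleton, ← Nat.card_coe_set_eq] at h
    change Nat.card ↥M.V0 ≤ 2 at h
    omega
  have hs : f + f' ≠ 0 := fun e => hf'f (by
    calc f' = f + (f + f') := by rw [← add_assoc, M.two, zero_add]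
      _ = f := by rw [e, add_zero])
  have hs1 : f + f' ≠ f := fun e => hf'0 (add_eq_left.1 e)
  have hs2 : f + f' ≠ f' := fun e => h0 (add_eq_right.1 e)
  have he : ({0, f, f', f + f'} : Set V) = (M.V0 : Set V) := by
    refine Set.eq_of_subset_of_ncard_le ?_ ?_ (Set.toFinite _)
    · rintro y (rfl | rfl | rfl | rfl)
      exacts [zero_mem _, hf, hf', add_mem hf hf']
    · rw [← Nat.card_coe_set_eq, Set.ncard_insert_of_notMem (by simp [Ne.symm h0, Ne.symm hf'0, Ne.symm hs])
        (Set.toFinite _), Set.ncard_insert_of_notMem (by simp [Ne.symm hf'f, Ne.symm hs1, hf'0]) (Set.toFinite _),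
        Set.ncard_insert_of_notMem (by simp [h0]) (Set.toFinite _), Set.ncard_singleton]
      exact hV.le
  have hall : ∀ x ∈ M.V0, x = 0 ∨ x = f ∨ x = f' ∨ x = f + f' := fun x hx => by
    have : x ∈ ({0, f, f', f + f'} : Set V) := by rw [he]; exact hx
    simpa using this
  have hp := M.V0_polar hf h0 hf' hall
  -- a good basis among the three pairs
  suffices key : ∀ a b : V, a ∈ M.V0 → b ∈ M.V0 → a ≠ 0 → b ≠ 0 → a ≠ b →
      (M.q a = M.q b) → polar M.q a b = true → (∀ x ∈ M.V0, x = 0 ∨ x = a ∨ x = b ∨ x = a + b) →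
      ∃ f ∈ M.V0, ∃ f' ∈ M.V0, (∀ x ∈ M.V0, ∃ d < 4, comb [f, f'] d = x) ∧
        (∀ a < 4, ∀ b < 4, comb [f, f'] a = comb [f, f'] b → a = b) ∧
        ((∀ d < 4, M.q (comb [f, f'] d) = !(d == 0)) ∨ (∀ d < 4, M.q (comb [f, f'] d) = (d == 3))) by
    by_cases hq : M.q f = M.q f'
    · exact key f f' hf hf' h0 hf'0 (Ne.symm hf'f) hq hp hall
    have e3 : M.q (f + f') = false := by
      rw [polar] at hp
      revert hp hq; cases M.q (f + f') <;> cases M.q f <;> cases M.q f' <;> simp
    rcases Bool.eq_false_or_eq_true (M.q f) with hqf | hqf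
    · have hqf' : M.q f' = false := by revert hq; rw [hqf]; cases M.q f' <;> simp
      refine key f' (f + f') hf' (add_mem hf hf') hf'0 hs (Ne.symm hs2) (by rw [hqf', e3]) ?_ fun x hx => ?_
      · rw [M.polar_add_right, M.polar_self, M.polar_comm, hp]; rfl
      · have e : f' + (f + f') = f := by rw [add_comm f, ← add_assoc, M.two, zero_add]
        rw [e]
        rcases hall x hx with h | h | h | h
        exacts [Or.inl h, Or.inr (Or.inr (Or.inr h)), Or.inr (Or.inl h), Or.inr (Or.inr (Or.inl h))]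
    · refine key f (f + f') hf (add_mem hf hf') h0 hs (Ne.symm hs1) (by rw [hqf, e3]) ?_ fun x hx => ?_
      · rw [M.polar_add_right, M.polar_self, hp]; rfl
      · have e : f + (f + f') = f' := by rw [← add_assoc, M.two, zero_add]
        rw [e]
        rcases hall x hx with h | h | h | h
        exacts [Or.inl h, Or.inr (Or.inl h), Or.inr (Or.inr (Or.inr h)), Or.inr (Or.inr (Or.inl h))]
  intro a b ha hb a0 b0 hab hq hpab hallab
  have hc : comb [a, b] 0 = (0 : V) ∧ comb [a, b] 1 = a ∧ comb [a, b] 2 = b ∧ comb [a, b] 3 = a + b := by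
    refine ⟨?_, ?_, ?_, ?_⟩ <;> simp [comb]
  have ab0 : a + b ≠ 0 := fun e => hab (by
    calc a = a + (b + b) := by rw [M.two, add_zero]
      _ = b := by rw [← add_assoc, e, zero_add])
  refine ⟨a, ha, b, hb, fun x hx => ?_, fun m hm n hn e => ?_, ?_⟩
  · rcases hallab x hx with rfl | rfl | rfl | rfl
    exacts [⟨0, by norm_num, hc.1⟩, ⟨1, by norm_num, hc.2.1⟩, ⟨2, by norm_num, hc.2.2.1⟩, ⟨3, by norm_num, hc.2.2.2⟩]
  · interval_cases m <;> interval_cases n <;> first
      | rfl
      | (exfalso; simp [comb, a0, b0, hab, ab0, Ne.symm a0, Ne.symm b0, Ne.symm hab, Ne.symm ab0] at e)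
  · rw [polar, ← hq] at hpab
    cases hqa : M.q a
    · right
      rw [hqa] at hpab hq
      intro d hd
      interval_cases d <;> simp_all [M.q_zero]
    · left
      rw [hqa] at hpab hq
      intro d hd
      interval_cases d <;> simp_all [M.q_zero]

theorem coords_red (hcard : ∀ l ∈ redLines, Nat.card ↥(M.U l) = 4) (hV : Nat.card ↥M.V0 = 4) :
    Nonempty (M.Coords .redA) ∨ Nonempty (M.Coords .redH) := by
  haveI := M.finite
  obtain ⟨-, -, -, p4, p5, p6, p7, p8⟩ := perm_facts
  have hred : ∀ k ∈ allLines, k ∉ redLines → ∀ x, M.proj k x = 0 := fun k hk hn x =>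
    M.eq_top_of_card_T (L := redLines) (by decide) (by decide)
      (by rw [List.map_congr_left hcard, hV]; rfl) x k hk hn
  obtain ⟨f, hf, f', hf', hallF, hinjF, hqF⟩ := M.exists_plane hV
  obtain ⟨u, hu, u0⟩ := M.exists_ne_of_card (hcard (0, 1, 0) (by decide))
  have h33 : el [3, 3] * el [3, 3] = 1 := by rw [← el_append]; exact p5
  obtain ⟨w0, hw0, h0, hA⟩ : ∃ w0 ∈ M.U (0, 1, 0), w0 ≠ 0 ∧ M.ρ (el [3, 3]) w0 = w0 := by
    have hAu : M.ρ (el [3, 3]) u ∈ M.U (0, 1, 0) := M.move_mem (by decide) (by decide +kernel) hu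
    by_cases e : M.ρ (el [3, 3]) u = u
    · exact ⟨u, hu, u0, e⟩
    refine ⟨u + M.ρ (el [3, 3]) u, add_mem hu hAu, fun e' => e ?_, ?_⟩
    · calc M.ρ (el [3, 3]) u = (u + u) + M.ρ (el [3, 3]) u := by rw [M.two, zero_add]
        _ = u := by rw [add_assoc, e', add_zero]
    · rw [map_add, ← M.mul, h33, M.one, add_comm]
  have fY : M.ρ (el wY) w0 = w0 := M.linear_involution (g := (0, 1, 0)) (by decide)
    (hcard _ (by decide)) (by decide) p8 (by decide +kernel) hw0
  have t0 : M.ρ (el [2]) w0 = w0 := M.linear_involution (g := (0, 1, 0)) (by decide)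
    (hcard _ (by decide)) (by decide) p6 (by decide +kernel) hw0
  have hw2 : M.ρ (el [3]) w0 ∈ M.U (2, 0, 1) := M.move_mem (by decide) (by decide +kernel) hw0
  have hw1 : M.ρ (el [2, 3]) w0 ∈ M.U (1, 2, 1) := M.move_mem (by decide) (by decide +kernel) hw0
  have n1 : M.ρ (el [2, 3]) w0 ≠ 0 := fun e => h0 (M.ρ_injective _ (e.trans (map_zero _).symm))
  have n2 : M.ρ (el [3]) w0 ≠ 0 := fun e => h0 (M.ρ_injective _ (e.trans (map_zero _).symm))
  have s2 : M.ρ (el [3]) (M.ρ (el [3]) w0) = w0 := by rw [← M.mul, ← el_append]; exact hA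
  have t2 : M.ρ (el [2]) (M.ρ (el [3]) w0) = M.ρ (el [2, 3]) w0 := by rw [← M.mul, ← el_append]; rfl
  have t1 : M.ρ (el [2]) (M.ρ (el [2, 3]) w0) = M.ρ (el [3]) w0 := by rw [← t2, ← M.mul, p6, M.one]
  have s1 : M.ρ (el [3]) (M.ρ (el [2, 3]) w0) = M.ρ (el [2, 3]) w0 := by
    rw [← M.mul, ← el_append, show ([3] ++ [2, 3] : List ℕ) = [3, 2, 3] from rfl, p4, M.mul, M.mul, hA, fY]
  set w1 := M.ρ (el [2, 3]) w0
  set w2 := M.ρ (el [3]) w0 with hw2d
  let B : List V := [w0, M.act (0, 1, 0) w0, w1, M.act (1, 0, 0) w1, w2, M.act (0, 0, 1) w2, f, f']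
  have hsurj : ∀ x : V, ∃ n < 256, comb B n = x := by
    intro x
    have hsum : (allLines.map fun l => M.proj l x).sum = (redLines.map fun l => M.proj l x).sum := by
      have hd : ∀ k ∈ natLines ++ sixLines, k ∈ allLines ∧ k ∉ redLines := by decide
      rw [allLines, List.map_append, List.map_append, List.sum_append, List.sum_append,
        List.sum_eq_zero (l := List.map _ natLines) (fun y hy => by
          obtain ⟨k, hk, rfl⟩ := List.mem_map.1 hy
          exact hred k (hd k (List.mem_append_left _ hk)).1 (hd k (List.mem_append_left _ hk)).2 x),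
        List.sum_eq_zero (l := List.map _ sixLines) (fun y hy => by
          obtain ⟨k, hk, rfl⟩ := List.mem_map.1 hy
          exact hred k (hd k (List.mem_append_right _ hk)).1 (hd k (List.mem_append_right _ hk)).2 x),
        zero_add, add_zero]
    obtain ⟨d0, h0', e0⟩ := M.comb_line_surj (g := (0, 1, 0)) (by decide) (hcard _ (by decide)) hw0 h0
      (M.proj_mem (by decide) x)
    obtain ⟨d1, h1', e1⟩ := M.comb_line_surj (g := (1, 0, 0)) (by decide) (hcard _ (by decide)) hw1 n1
      (M.proj_mem (by decide) x)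
    obtain ⟨d2, h2', e2⟩ := M.comb_line_surj (g := (0, 0, 1)) (by decide) (hcard _ (by decide)) hw2 n2
      (M.proj_mem (by decide) x)
    obtain ⟨d3, h3', e3⟩ := hallF _ (M.S_mem x)
    refine ⟨d0 + 4 * d1 + 16 * d2 + 64 * d3, by omega, ?_⟩
    rw [comb_digits _ _ _ _ _ _ _ _ (by omega), show (d0 + 4 * d1 + 16 * d2 + 64 * d3) % 4 = d0 by omega,
      show (d0 + 4 * d1 + 16 * d2 + 64 * d3) / 4 % 4 = d1 by omega,
      show (d0 + 4 * d1 + 16 * d2 + 64 * d3) / 16 % 4 = d2 by omega,
      show (d0 + 4 * d1 + 16 * d2 + 64 * d3) / 64 % 4 = d3 by omega, e0, e1, e2, e3]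
    conv_rhs => rw [M.decomp x, hsum]
    simp [redLines]
    abel
  have a0 := M.act_pair (l := (0, 1, 0)) (g := (0, 1, 0)) (by decide) hw0
  have a1 := M.act_pair (l := (1, 2, 1)) (g := (1, 0, 0)) (by decide) hw1
  have a2 := M.act_pair (l := (2, 0, 1)) (g := (0, 0, 1)) (by decide) hw2
  obtain ⟨fF2, fF3, fR⟩ := M.plane_fixed hf hf' hallF hinjF hred hf
  obtain ⟨gF2, gF3, gR⟩ := M.plane_fixed hf hf' hallF hinjF hred hf'
  have hgen : ∀ i < 4, ∀ n < 256, M.ρ (el [i]) (comb B n) = comb B (app ((side true).getD i idm) n) := by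
    intro i hi n _
    refine M.gen_of_basis _ (getD_lt (side_lt true) i) ?_ n
    rcases i with _ | _ | _ | _ | i
    · obtain ⟨x0, y0⟩ := (a0 (1, 0, 0)).1 (by decide)
      obtain ⟨x1, y1⟩ := (a1 (1, 0, 0)).2.1 (by decide)
      obtain ⟨x2, y2⟩ := (a2 (1, 0, 0)).2.2 (by decide)
      rw [← ev_unit0, ← Mod.act]
      simp only [B, side, mr, List.map_cons, List.map_nil, cond_true, List.getD_cons_zero, comb, x0, y0, y1, x2,
        y2, hf _, hf' _]
      simp (decide := true)
    · obtain ⟨x0, y0⟩ := (a0 (0, 1, 0)).2.1 (by decide)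
      obtain ⟨x1, y1⟩ := (a1 (0, 1, 0)).2.2 (by decide)
      obtain ⟨x2, y2⟩ := (a2 (0, 1, 0)).1 (by decide)
      rw [← ev_unit1, ← Mod.act]
      simp only [B, side, mr, List.map_cons, List.map_nil, cond_true, List.getD_cons_zero, List.getD_cons_succ,
        comb, y0, x1, y1, x2, y2, hf _, hf' _]
      simp (decide := true)
    · have m0 := M.move_act (w := [2]) (by decide) (k := (0, 1, 0)) (g' := (0, 1, 0)) (by decide)
        (x := w0) (by rw [t0]; exact hw0) (0, 1, 0)
      have m1 := M.move_act (w := [2]) (by decide) (k := (2, 0, 1)) (g' := (0, 0, 1)) (by decide)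
        (x := w1) (by rw [t1]; exact hw2) (1, 0, 0)
      have m2 := M.move_act (w := [2]) (by decide) (k := (1, 2, 1)) (g' := (1, 0, 0)) (by decide)
        (x := w2) (by rw [t2]; exact hw1) (0, 0, 1)
      simp only [B, side, mr, List.map_cons, List.map_nil, cond_true, List.getD_cons_zero, List.getD_cons_succ,
        comb, m0, m1, m2, t0, t1, t2, fF2, gF2]
      simp (decide := true)
    · have m0 := M.move_act (w := [3]) (by decide) (k := (2, 0, 1)) (g' := (0, 0, 1)) (by decide)
        (x := w0) hw2 (0, 1, 0)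
      have m1 := M.move_act (w := [3]) (by decide) (k := (1, 2, 1)) (g' := (1, 0, 0)) (by decide)
        (x := w1) (by rw [s1]; exact hw1) (1, 0, 0)
      have m2 := M.move_act (w := [3]) (by decide) (k := (0, 1, 0)) (g' := (0, 1, 0)) (by decide)
        (x := w2) (by rw [s2]; exact hw0) (0, 0, 1)
      simp only [B, side, mr, List.map_cons, List.map_nil, cond_true, List.getD_cons_zero, List.getD_cons_succ,
        comb, m0, m1, m2, s1, s2, fF3, gF3, ← hw2d]
      simp (decide := true)
    · omega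
  have hq0 : ∀ n < 256, M.q (comb B n) =
      ((nz 0 n ^^ nz 1 n) ^^ (nz 2 n ^^ M.q (comb [f, f'] (n / 64 % 4)))) := by
    intro n hn
    have q0 := M.q_comb_line (g := (0, 1, 0)) (d := n % 4) (by decide) (by decide) (hcard _ (by decide)) hw0 h0
      (by omega)
    have q1 := M.q_comb_line (g := (1, 0, 0)) (d := n / 4 % 4) (by decide) (by decide) (hcard _ (by decide)) hw1 n1
      (by omega)
    have q2 := M.q_comb_line (g := (0, 0, 1)) (d := n / 16 % 4) (by decide) (by decide) (hcard _ (by decide)) hw2 n2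
      (by omega)
    have c0 := M.comb_line_mem (g := (0, 1, 0)) (d := n % 4) hw0
    have c1 := M.comb_line_mem (g := (1, 0, 0)) (d := n / 4 % 4) hw1
    have c2 := M.comb_line_mem (g := (0, 0, 1)) (d := n / 16 % 4) hw2
    have c3 : comb [f, f'] (n / 64 % 4) ∈ M.V0 := by
      rw [comb_two]
      refine add_mem ?_ ?_
      · cases n / 64 % 4 % 2 == 1
        exacts [zero_mem _, hf]
      · cases n / 64 % 4 / 2 % 2 == 1
        exacts [zero_mem _, hf']
    have o01 := M.orth_lines (by decide) (by decide) (by decide) c0 c1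
    have o02 := M.orth_lines (by decide) (by decide) (by decide) c0 c2
    have o12 := M.orth_lines (by decide) (by decide) (by decide) c1 c2
    have o03 := (M.polar_comm _ _).trans (M.orth_V0 (by decide) c3 c0)
    have o13 := (M.polar_comm _ _).trans (M.orth_V0 (by decide) c3 c1)
    have o23 := (M.polar_comm _ _).trans (M.orth_V0 (by decide) c3 c2)
    rw [comb_digits _ _ _ _ _ _ _ _ hn, M.q_add_orth (by rw [M.polar_add_right, M.polar_add_right, o01, o02, o03]; rfl),
      M.q_add_orth (by rw [M.polar_add_right, o12, o13]; rfl), M.q_add_orth o23, q0, q1, q2]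
    simp only [nz, pow_zero, Nat.div_one, pow_one, show 4 ^ 2 = 16 from rfl, Bool.xor_assoc]
  have e64 : comb B 64 = f := by simp [B, comb]
  have e128 : comb B 128 = f' := by simp [B, comb]
  rcases hqF with hqa | hqh
  · refine Or.inl (M.finish true .redA rfl hsurj hgen (fun n hn => ?_) (ks := [(64, 128)])
      ⟨(64, 128), List.mem_cons_self .., by rw [e64, fR], by rw [e128, gR]⟩ (by decide) fun n hn p hp => ?_)
    · rw [hq0 n hn, hqa _ (by omega)]
      simp only [Kind.q, nz, show 4 ^ 3 = 64 from rfl]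
    · rw [List.mem_singleton.1 hp]
      exact List.all_eq_true.1 R_unique_redA n (List.mem_range.2 hn)
  · refine Or.inr (M.finish true .redH rfl hsurj hgen (fun n hn => ?_) (ks := [(64, 128)])
      ⟨(64, 128), List.mem_cons_self .., by rw [e64, fR], by rw [e128, gR]⟩ (by decide) fun n hn p hp => ?_)
    · rw [hq0 n hn, hqh _ (by omega)]
      simp only [Kind.q]
    · rw [List.mem_singleton.1 hp]
      exact List.all_eq_true.1 R_unique_redH n (List.mem_range.2 hn)

/-- The classification: three kinds. -/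
theorem exists_coords : ∃ K : Kind, Nonempty (M.Coords K) := by
  rcases M.dichotomy with ⟨h, hV⟩ | ⟨h, hV⟩
  · exact ⟨_, M.coords_nat h hV⟩
  · rcases M.coords_red h hV with h' | h'
    exacts [⟨_, h'⟩, ⟨_, h'⟩]

end Mod

end Cfsg.Agent.Fus.U62Red
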