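import Cfsg.Agent.Lib.Spor.ExtraPair
import Cfsg.Agent.Lib.Fus.U62Red.RedCoords

/-!
Recognition of `U₆(2)`, the reduction: the centraliser with its extraspecial group, and coordinates on it.
-/

set_option autoImplicit false
set_option linter.unusedSectionVars false

namespace Cfsg.Agent.Fus.U62Red

open Cfsg.Agent.Fus.U62Rec (Q4 CC)
open Cfsg.Agent.Spor.ExtraPair (Ext)
open Cfsg.Agent.Invol.ExtraEight (app app_zero app_lt comb comb_zero comb_xor)

variable {G : Type*} [Group G]

/-- The data of a centraliser. -/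
structure Frame (G : Type*) [Group G] where
  z : G
  J : Subgroup G
  ext : Ext z J
  card_J : Nat.card ↥J = 512
  π : ↥(CC z) →* Q4
  surj : Function.Surjective π
  ker : ∀ u : ↥(CC z), π u = 1 ↔ (u : G) ∈ J

namespace Frame

variable (F : Frame G)

theorem comm_z {m : G} (hm : m ∈ CC F.z) : m * F.z = F.z * m := Subgroup.mem_centralizer_singleton_iff.1 hm

theorem J_le : F.J ≤ CC F.z := fun x hx => Subgroup.mem_centralizer_singleton_iff.2 (F.ext.central x hx)

theorem z_mem_CC : F.z ∈ CC F.z := F.J_le F.ext.mem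

theorem norm {m : G} (hm : m ∈ CC F.z) {x : G} (hx : x ∈ F.J) : m * x * m⁻¹ ∈ F.J :=
  F.ext.norm m (F.comm_z hm) x hx

theorem z_inv : F.z⁻¹ = F.z := inv_eq_of_mul_eq_one_right F.ext.zz

theorem mul_z_z (x : G) : x * F.z * F.z = x := by rw [mul_assoc, F.ext.zz, mul_one]

/-- The centre inside the extraspecial group. -/
def Zq : Subgroup ↥F.J where
  carrier := {x | (x : G) = 1 ∨ (x : G) = F.z}
  one_mem' := Or.inl rfl
  mul_mem' := by
    rintro x y (hx | hx) (hy | hy) <;> simp only [Set.mem_setOf_eq, Subgroup.coe_mul, hx, hy]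
    · exact Or.inl (one_mul _)
    · exact Or.inr (one_mul _)
    · exact Or.inr (mul_one _)
    · exact Or.inl F.ext.zz
  inv_mem' := by
    rintro x (hx | hx) <;> simp only [Set.mem_setOf_eq, Subgroup.coe_inv, hx]
    · exact Or.inl inv_one
    · exact Or.inr F.z_inv

theorem mem_Zq {x : ↥F.J} : x ∈ F.Zq ↔ (x : G) = 1 ∨ (x : G) = F.z := Iff.rfl

instance Zq_normal : F.Zq.Normal := ⟨fun x hx y => by
  rw [F.mem_Zq] at hx ⊢
  push_cast
  rcases hx with h | h <;> rw [h]
  · left; group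
  · right
    rw [F.ext.central y y.2]; group⟩

instance quotGroup : CommGroup (↥F.J ⧸ F.Zq) :=
  { (inferInstance : Group (↥F.J ⧸ F.Zq)) with
    mul_comm := fun a b => by
      obtain ⟨x, rfl⟩ := QuotientGroup.mk_surjective a
      obtain ⟨y, rfl⟩ := QuotientGroup.mk_surjective b
      rw [← QuotientGroup.mk_mul, ← QuotientGroup.mk_mul, QuotientGroup.eq, F.mem_Zq]
      push_cast
      rcases F.ext.comm _ (inv_mem y.2) _ (inv_mem x.2) with h | h <;> rw [commutatorElement_def] at h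
      · left; rw [← h]; group
      · right; rw [← h]; group }

/-- The module. -/
abbrev V := Additive (↥F.J ⧸ F.Zq)

open _root_.Classical in
/-- The class of an element. -/
noncomputable def cls (x : G) : F.V :=
  if h : x ∈ F.J then Additive.ofMul (QuotientGroup.mk (s := F.Zq) ⟨x, h⟩) else 0

theorem cls_eq {x : G} (h : x ∈ F.J) : F.cls x = Additive.ofMul (QuotientGroup.mk (s := F.Zq) ⟨x, h⟩) := dif_pos h

theorem cls_mul {x y : G} (hx : x ∈ F.J) (hy : y ∈ F.J) : F.cls (x * y) = F.cls x + F.cls y := by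
  rw [F.cls_eq hx, F.cls_eq hy, F.cls_eq (mul_mem hx hy)]; rfl

theorem cls_inv {x : G} (hx : x ∈ F.J) : F.cls x⁻¹ = -F.cls x := by
  rw [F.cls_eq hx, F.cls_eq (inv_mem hx)]; rfl

theorem cls_zero_iff {x : G} (hx : x ∈ F.J) : F.cls x = 0 ↔ x = 1 ∨ x = F.z := by
  rw [F.cls_eq hx, ← ofMul_one, Additive.ofMul.injective.eq_iff, QuotientGroup.eq_one_iff, F.mem_Zq]

theorem cls_eq_iff {x y : G} (hx : x ∈ F.J) (hy : y ∈ F.J) : F.cls x = F.cls y ↔ x = y ∨ x = y * F.z := by
  rw [F.cls_eq hx, F.cls_eq hy, Additive.ofMul.injective.eq_iff, eq_comm, QuotientGroup.eq, F.mem_Zq]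
  push_cast
  constructor
  · rintro (h | h)
    · exact Or.inl (inv_mul_eq_one.1 h).symm
    · exact Or.inr (by rw [← h]; group)
  · rintro (rfl | rfl)
    · exact Or.inl (inv_mul_cancel _)
    · exact Or.inr (by group)

theorem cls_surj (v : F.V) : ∃ x ∈ F.J, F.cls x = v := by
  obtain ⟨x, hx⟩ := QuotientGroup.mk_surjective (Additive.toMul v)
  exact ⟨x, x.2, by rw [F.cls_eq x.2, Subtype.coe_eta, hx]; rfl⟩

theorem two_eq (v : F.V) : v + v = 0 := by
  obtain ⟨x, hx, rfl⟩ := F.cls_surj v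
  rw [← F.cls_mul hx hx, F.cls_zero_iff (mul_mem hx hx)]
  exact F.ext.sq x hx

theorem card_V [Finite G] : Nat.card F.V = 256 := by
  have h : Nat.card F.V = Nat.card (↥F.J ⧸ F.Zq) := Nat.card_congr Additive.toMul
  have h2 : Nat.card ↥F.Zq = 2 := by
    rw [← SetLike.coe_sort_coe, Nat.card_coe_set_eq, Set.ncard_eq_two]
    exact ⟨1, ⟨F.z, F.ext.mem⟩, fun e => F.ext.ne (congrArg Subtype.val e).symm, Set.ext fun x =>
      ⟨fun hx => hx.imp (fun h => Subtype.ext h) (fun h => Subtype.ext h),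
        fun hx => hx.imp (fun h => congrArg Subtype.val h) (fun h => congrArg Subtype.val h)⟩⟩
  have := F.Zq.card_mul_index
  rw [h2, Subgroup.index_eq_card, F.card_J] at this
  omega

/-- Conjugation by an element of the centraliser on the module. -/
noncomputable def conjHom (m : ↥(CC F.z)) : F.V →+ F.V :=
  MonoidHom.toAdditive (QuotientGroup.map F.Zq F.Zq
    (MonoidHom.mk' (fun x => (⟨m * x * (m : G)⁻¹, F.norm m.2 x.2⟩ : ↥F.J)) fun x y => by
      ext; push_cast; group) (fun x hx => by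
    rw [Subgroup.mem_comap, F.mem_Zq]
    rw [F.mem_Zq] at hx
    show (m : G) * (x : G) * (m : G)⁻¹ = 1 ∨ (m : G) * (x : G) * (m : G)⁻¹ = F.z
    rcases hx with h | h <;> rw [h]
    · left; group
    · right; rw [F.comm_z m.2]; group))

theorem conjHom_cls (m : ↥(CC F.z)) {x : G} (hx : x ∈ F.J) :
    F.conjHom m (F.cls x) = F.cls (m * x * (m : G)⁻¹) := by
  rw [F.cls_eq hx, F.cls_eq (F.norm m.2 hx)]; rfl

theorem cls_conj_J {y x : G} (hy : y ∈ F.J) (hx : x ∈ F.J) : F.cls (y * x * y⁻¹) = F.cls x := by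
  rw [F.cls_mul (mul_mem hy hx) (inv_mem hy), F.cls_mul hy hx, F.cls_inv hy]; abel

theorem conjHom_congr {m n : ↥(CC F.z)} (h : F.π m = F.π n) {x : G} (hx : x ∈ F.J) :
    F.cls (m * x * (m : G)⁻¹) = F.cls (n * x * (n : G)⁻¹) := by
  have hy : ((m * n⁻¹ : ↥(CC F.z)) : G) ∈ F.J := (F.ker _).1 (by rw [map_mul, map_inv, h, mul_inv_cancel])
  rw [show (m : G) * x * (m : G)⁻¹ = ((m * n⁻¹ : ↥(CC F.z)) : G) * (n * x * (n : G)⁻¹) *
    ((m * n⁻¹ : ↥(CC F.z)) : G)⁻¹ by push_cast; group, F.cls_conj_J hy (F.norm n.2 hx)]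

open _root_.Classical in
/-- The form. -/
noncomputable def qv (v : F.V) : Bool := decide (∃ x ∈ F.J, F.cls x = v ∧ x * x = F.z)

theorem sq_mul_z {x : G} (hx : x ∈ F.J) : x * F.z * (x * F.z) = x * x := by
  rw [show x * F.z * (x * F.z) = x * (F.z * x) * F.z by group, ← F.ext.central x hx,
    show x * (x * F.z) * F.z = x * x * (F.z * F.z) by group, F.ext.zz, mul_one]

theorem qv_cls {x : G} (hx : x ∈ F.J) : F.qv (F.cls x) = true ↔ x * x = F.z := by
  classical
  rw [qv, decide_eq_true_iff]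
  refine ⟨fun ⟨y, hy, he, h⟩ => ?_, fun h => ⟨x, hx, rfl, h⟩⟩
  rcases (F.cls_eq_iff hy hx).1 he with rfl | rfl
  · exact h
  · rwa [F.sq_mul_z hx] at h

theorem comm_cases {x y : G} (hx : x ∈ F.J) (hy : y ∈ F.J) : x * y = y * x ∨ x * y = y * x * F.z := by
  rcases F.ext.conj_eq hy hx with h | h
  · exact Or.inl (mul_inv_eq_iff_eq_mul.1 h)
  · right
    rw [mul_inv_eq_iff_eq_mul] at h
    rw [h, mul_assoc, ← F.ext.central x hx, mul_assoc]

theorem polar_cls {x y : G} (hx : x ∈ F.J) (hy : y ∈ F.J) :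
    polar F.qv (F.cls x) (F.cls y) = true ↔ x * y ≠ y * x := by
  rw [polar, ← F.cls_mul hx hy]
  have h1 := F.qv_cls hx
  have h2 := F.qv_cls hy
  have h3 := F.qv_cls (mul_mem hx hy)
  have hne : (1 : G) ≠ F.z := fun e => F.ext.ne e.symm
  have hb : ∀ {b : Bool} {P : Prop}, (b = true ↔ P) → P → b = true := fun h p => h.2 p
  have hf : ∀ {b : Bool} {P : Prop}, (b = true ↔ P) → ¬ P → b = false := fun h p =>
    Bool.eq_false_iff.2 fun e => p (h.1 e)
  rcases F.comm_cases hx hy with h | h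
  · have e : x * y * (x * y) = x * x * (y * y) := by
      calc x * y * (x * y) = x * (y * x) * y := by group
        _ = _ := by rw [← h]; group
    rcases F.ext.sq x hx with a | a <;> rcases F.ext.sq y hy with b | b <;> rw [a, b] at e
    · rw [hf h1 (a ▸ hne), hf h2 (b ▸ hne), hf h3 (by rw [e, mul_one]; exact hne)]; simp [h]
    · rw [hf h1 (a ▸ hne), hb h2 b, hb h3 (by rw [e, one_mul])]; simp [h]
    · rw [hb h1 a, hf h2 (b ▸ hne), hb h3 (by rw [e, mul_one])]; simp [h]
    · rw [hb h1 a, hb h2 b, hf h3 (by rw [e, F.ext.zz]; exact hne)]; simp [h]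
  · have hn : x * y ≠ y * x := by
      rw [h]; exact fun e => F.ext.ne (by simpa using e)
    have e : x * y * (x * y) = x * x * (y * y) * F.z := by
      have h' : y * x = x * y * F.z := by rw [h, F.mul_z_z]
      calc x * y * (x * y) = x * (y * x) * y := by group
        _ = x * x * y * (F.z * y) := by rw [h']; group
        _ = _ := by rw [← F.ext.central y hy]; group
    rcases F.ext.sq x hx with a | a <;> rcases F.ext.sq y hy with b | b <;> rw [a, b] at e
    · rw [hf h1 (a ▸ hne), hf h2 (b ▸ hne), hb h3 (by rw [e, one_mul, one_mul])]; simp [hn]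
    · rw [hf h1 (a ▸ hne), hb h2 b, hf h3 (by rw [e, one_mul, F.ext.zz]; exact hne)]; simp [hn]
    · rw [hb h1 a, hf h2 (b ▸ hne), hf h3 (by rw [e, mul_one, F.ext.zz]; exact hne)]; simp [hn]
    · rw [hb h1 a, hb h2 b, hb h3 (by rw [e, F.ext.zz, one_mul])]; simp [hn]

theorem polar_add (u v w : F.V) : polar F.qv (u + v) w = (polar F.qv u w ^^ polar F.qv v w) := by
  obtain ⟨x, hx, rfl⟩ := F.cls_surj u
  obtain ⟨y, hy, rfl⟩ := F.cls_surj v
  obtain ⟨t, ht, rfl⟩ := F.cls_surj w
  rw [← F.cls_mul hx hy]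
  have h1 := F.polar_cls hx ht
  have h2 := F.polar_cls hy ht
  have h3 := F.polar_cls (mul_mem hx hy) ht
  rw [Bool.eq_iff_iff, h3]
  rcases F.comm_cases hx ht with a | a <;> rcases F.comm_cases hy ht with b | b
  · have e : x * y * t = t * (x * y) := by
      rw [mul_assoc, b, ← mul_assoc, a, mul_assoc]
    simp [Bool.eq_false_iff.2 fun c => h1.1 c a, Bool.eq_false_iff.2 fun c => h2.1 c b, e]
  · have e : x * y * t = t * (x * y) * F.z := by
      rw [mul_assoc, b, show x * (t * y * F.z) = x * t * (y * F.z) by group, a]; group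
    have n1 : y * t ≠ t * y := by rw [b]; exact fun c => F.ext.ne (by simpa using c)
    have n2 : x * y * t ≠ t * (x * y) := by rw [e]; exact fun c => F.ext.ne (by simpa using c)
    simp [Bool.eq_false_iff.2 fun c => h1.1 c a, h2.2 n1, n2]
  · have e : x * y * t = t * (x * y) * F.z := by
      rw [mul_assoc, b, ← mul_assoc, a, mul_assoc _ F.z y, ← F.ext.central y hy]; group
    have n1 : x * t ≠ t * x := by rw [a]; exact fun c => F.ext.ne (by simpa using c)
    have n2 : x * y * t ≠ t * (x * y) := by rw [e]; exact fun c => F.ext.ne (by simpa using c)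
    simp [h1.2 n1, Bool.eq_false_iff.2 fun c => h2.1 c b, n2]
  · have e : x * y * t = t * (x * y) := by
      rw [mul_assoc, b, show x * (t * y * F.z) = x * t * (y * F.z) by group, a,
        show t * x * F.z * (y * F.z) = t * x * (F.z * y) * F.z by group, ← F.ext.central y hy,
        show t * x * (y * F.z) * F.z = t * (x * y) * F.z * F.z by group, F.mul_z_z]
    have n1 : x * t ≠ t * x := by rw [a]; exact fun c => F.ext.ne (by simpa using c)
    have n2 : y * t ≠ t * y := by rw [b]; exact fun c => F.ext.ne (by simpa using c)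
    simp [h1.2 n1, h2.2 n2, e]

/-- A lift of an element of the quotient. -/
noncomputable def lift (g : Q4) : ↥(CC F.z) := Function.surjInv F.surj g

theorem π_lift (g : Q4) : F.π (F.lift g) = g := Function.surjInv_eq F.surj g

/-- The module of the centraliser. -/
noncomputable def mod [Finite G] : Mod F.V where
  ρ g := F.conjHom (F.lift g)
  q := F.qv
  mul g h v := by
    obtain ⟨x, hx, rfl⟩ := F.cls_surj v
    rw [F.conjHom_cls _ hx, F.conjHom_cls _ hx, F.conjHom_cls _ (F.norm (F.lift h).2 hx),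
      F.conjHom_congr (m := F.lift (g * h)) (n := F.lift g * F.lift h)
        (by rw [map_mul, π_lift, π_lift, π_lift]) hx]
    congr 1; push_cast; group
  one v := by
    obtain ⟨x, hx, rfl⟩ := F.cls_surj v
    rw [F.conjHom_cls _ hx, F.conjHom_congr (m := F.lift 1) (n := 1) (by rw [π_lift, map_one]) hx]
    simp
  two := F.two_eq
  card := F.card_V
  q_inv g v := by
    obtain ⟨x, hx, rfl⟩ := F.cls_surj v
    rw [F.conjHom_cls _ hx, Bool.eq_iff_iff, F.qv_cls (F.norm (F.lift g).2 hx), F.qv_cls hx]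
    have hc := F.comm_z (F.lift g).2
    constructor <;> intro h
    · calc x * x = ((F.lift g : ↥(CC F.z)) : G)⁻¹ * ((F.lift g : G) * x * (F.lift g : G)⁻¹ *
            ((F.lift g : G) * x * (F.lift g : G)⁻¹)) * (F.lift g : G) := by group
        _ = ((F.lift g : ↥(CC F.z)) : G)⁻¹ * F.z * (F.lift g : G) := by rw [h]
        _ = F.z := by rw [mul_assoc, ← hc]; group
    · calc _ = (F.lift g : G) * (x * x) * (F.lift g : G)⁻¹ := by group
        _ = F.z := by rw [h, hc]; group
  q_zero := by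
    rw [← (F.cls_zero_iff (one_mem _)).2 (Or.inl rfl), Bool.eq_false_iff]
    exact fun h => F.ext.ne (by rw [← (F.qv_cls (one_mem _)).1 h, one_mul])
  polar_add := F.polar_add
  nondeg v hv := by
    obtain ⟨x, hx, rfl⟩ := F.cls_surj v
    by_contra hcon
    rw [Ne, F.cls_zero_iff hx] at hv
    refine hv (F.ext.cen x hx fun y hy => ?_)
    by_contra hne
    exact hcon ⟨F.cls y, (F.polar_cls hx hy).2 (Ne.symm hne)⟩
  faith g h := by
    rw [← F.π_lift g, F.ker]
    refine F.ext.mem_of_trivial fun x hx => ?_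
    have := h (F.cls x)
    rw [F.conjHom_cls _ hx, F.cls_eq_iff (F.norm (F.lift g).2 hx) hx] at this
    exact this

/-- Coordinates on the extraspecial group. -/
structure Chart (F : Frame G) (K : Kind) where
  cv : G → ℕ
  lt : ∀ x, cv x < 256
  cv_mul : ∀ x ∈ F.J, ∀ y ∈ F.J, cv (x * y) = cv x ^^^ cv y
  zero_iff : ∀ x ∈ F.J, cv x = 0 ↔ x = 1 ∨ x = F.z
  surj : ∀ n < 256, ∃ x ∈ F.J, cv x = n
  q : ∀ x ∈ F.J, K.q (cv x) = true ↔ x * x = F.z
  conj : ∀ w : List ℕ, ∀ u : ↥(CC F.z), F.π u = el w → ∀ x ∈ F.J,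
    cv (u * x * (u : G)⁻¹) = app (K.mat w) (cv x)

theorem exists_chart [Finite G] : ∃ K : Kind, Nonempty (F.Chart K) := by
  obtain ⟨K, ⟨C⟩⟩ := F.mod.exists_coords
  choose code hlt hcode using C.surj
  have hadd : ∀ u v, code (u + v) = code u ^^^ code v := fun u v =>
    C.inj _ (hlt _) _ (Nat.xor_lt_two_pow (n := 8) (hlt u) (hlt v))
      (by rw [comb_xor F.two_eq, hcode, hcode, hcode])
  have hz : code 0 = 0 := C.inj _ (hlt _) _ (by norm_num) (by rw [hcode, comb_zero])
  have hword : ∀ w : List ℕ, ∀ n < 256, F.mod.ρ (el w) (comb C.B n) = comb C.B (app (K.mat w) n) := by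
    intro w
    induction w with
    | nil => intro n hn; rw [el_nil, F.mod.one, app_mat_nil _ hn]
    | cons i w ih =>
      intro n hn
      rw [show el (i :: w) = el [i] * el w from el_append [i] w, F.mod.mul, ih n hn,
        C.gen i _ (app_mat_lt _ w n), app_mat_cons]
  refine ⟨K, ⟨⟨fun x => code (F.cls x), fun x => hlt _, fun x hx y hy => by rw [F.cls_mul hx hy, hadd],
    fun x hx => ?_, fun n hn => ?_, fun x hx => ?_, fun w u hu x hx => ?_⟩⟩⟩
  · rw [← F.cls_zero_iff hx]
    exact ⟨fun h => by rw [← hcode (F.cls x), h, comb_zero], fun h => by rw [h, hz]⟩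
  · obtain ⟨x, hx, e⟩ := F.cls_surj (comb C.B n)
    exact ⟨x, hx, C.inj _ (hlt _) _ hn (by rw [hcode, e])⟩
  · rw [← C.q _ (hlt _), hcode]
    exact F.qv_cls hx
  · refine C.inj _ (hlt _) _ (app_mat_lt _ w _) ?_
    rw [← hword w _ (hlt _), hcode, hcode]
    show _ = F.conjHom (F.lift (el w)) (F.cls x)
    rw [F.conjHom_cls _ hx, F.conjHom_congr (m := u) (n := F.lift (el w)) (by rw [π_lift, hu]) hx]

/-- The conjugate centraliser. -/
def conj (g : G) : Frame G where
  z := g * F.z * g⁻¹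
  J := F.J.map (MulAut.conj g).toMonoidHom
  ext := F.ext.map_conj g
  card_J := by rw [Subgroup.card_map_of_injective (MulAut.conj g).injective, F.card_J]
  π := MonoidHom.mk' (fun u => F.π ⟨g⁻¹ * u * g, by
      refine Subgroup.mem_centralizer_singleton_iff.2 ?_
      have h := Subgroup.mem_centralizer_singleton_iff.1 u.2
      calc g⁻¹ * (u : G) * g * F.z = g⁻¹ * ((u : G) * (g * F.z * g⁻¹)) * g := by group
        _ = _ := by rw [h]; group⟩) fun u v => by
      rw [← map_mul]; congr 1; ext; push_cast; group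
  surj q := by
    obtain ⟨m, hm⟩ := F.surj q
    refine ⟨⟨g * m * g⁻¹, Subgroup.mem_centralizer_singleton_iff.2 ?_⟩, ?_⟩
    · calc g * (m : G) * g⁻¹ * (g * F.z * g⁻¹) = g * ((m : G) * F.z) * g⁻¹ := by group
        _ = _ := by rw [F.comm_z m.2]; group
    · rw [← hm]
      show F.π _ = _
      congr 1; ext; push_cast; group
  ker u := by
    show F.π _ = 1 ↔ _
    rw [F.ker]
    constructor
    · intro h
      exact ⟨_, h, by show g * (g⁻¹ * (u : G) * g) * g⁻¹ = _; group⟩
    · rintro ⟨x, hx, e⟩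
      change g * x * g⁻¹ = _ at e
      show g⁻¹ * (u : G) * g ∈ F.J
      rw [← e]
      simpa [mul_assoc] using hx

theorem mem_conj_J {g x : G} : x ∈ (F.conj g).J ↔ g⁻¹ * x * g ∈ F.J := by
  constructor
  · rintro ⟨y, hy, rfl⟩
    show g⁻¹ * (g * y * g⁻¹) * g ∈ F.J
    simpa [mul_assoc] using hy
  · intro h
    exact ⟨_, h, by show g * (g⁻¹ * x * g) * g⁻¹ = x; group⟩

/-- The conjugate coordinates. -/
def Chart.conjChart {K : Kind} (C : F.Chart K) (g : G) : (F.conj g).Chart K where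
  cv x := C.cv (g⁻¹ * x * g)
  lt x := C.lt _
  cv_mul x hx y hy := by
    rw [← C.cv_mul _ (F.mem_conj_J.1 hx) _ (F.mem_conj_J.1 hy)]; congr 1; group
  zero_iff x hx := by
    rw [C.zero_iff _ (F.mem_conj_J.1 hx)]
    show _ ↔ _ ∨ x = g * F.z * g⁻¹
    constructor <;> rintro (h | h)
    · left; rw [show x = g * (g⁻¹ * x * g) * g⁻¹ by group, h]; group
    · right; rw [← h]; group
    · left; rw [h]; group
    · right; rw [h]; group
  surj n hn := by
    obtain ⟨x, hx, e⟩ := C.surj n hn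
    exact ⟨g * x * g⁻¹, F.mem_conj_J.2 (by simpa [mul_assoc] using hx), by rw [← e]; congr 1; group⟩
  q x hx := by
    rw [C.q _ (F.mem_conj_J.1 hx)]
    show _ ↔ x * x = g * F.z * g⁻¹
    constructor <;> intro h
    · rw [← h]; group
    · calc _ = g⁻¹ * (x * x) * g := by group
        _ = _ := by rw [h]; group
  conj w u hu x hx := by
    rw [← C.conj w _ hu _ (F.mem_conj_J.1 hx)]
    congr 1; group

end Frame

end Cfsg.Agent.Fus.U62Red
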