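import Cfsg.Agent.Lib.Fus.U62Red.AutLinear

/-!
Recognition of `U₆(2)`, the reduction for a centraliser with a larger quotient: computations on the two
involutory maps and their commuting elements of order five.
-/

set_option autoImplicit false
set_option maxRecDepth 100000

namespace Cfsg.Agent.Fus.U62Red

open Cfsg.Agent.Invol.ExtraEight (app idm mu)

theorem sigN_facts : (∀ x ∈ sigN, x < 256) ∧ ∀ v < 256, app sigN (app sigN v) = v ∧
    app sigN (app OM v) = omp 2 (app sigN v) ∧ Kind.q .nat (app sigN v) = Kind.q .nat v ∧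
    app sigN (app (Kind.nat.mat fiveN) v) = app (Kind.nat.mat fiveN) (app sigN v) := by decide +kernel

theorem sigR_facts : (∀ x ∈ sigR, x < 256) ∧ ∀ v < 64, app sigR v < 64 ∧ app sigR (app sigR v) = v := by
  decide +kernel

theorem sigR_five : ∀ K ∈ [Kind.redA, Kind.redH], ∀ v < 64,
    app sigR (app (K.mat fiveR) v) = app (K.mat fiveR) (app sigR v) := by decide +kernel

theorem five_facts : wd mn (fiveN ++ fiveN ++ fiveN ++ fiveN ++ fiveN) = idm ∧ wd mn fiveN ≠ idm ∧
    wd mn (fiveR ++ fiveR ++ fiveR ++ fiveR ++ fiveR) = idm ∧ wd mn fiveR ≠ idm := by decide +kernel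

theorem fiveN_fixed : ∀ v < 256, app (Kind.nat.mat fiveN) v = v → v = 0 := by decide +kernel

theorem plane_iff : ∀ K ∈ [Kind.redA, Kind.redH], ∀ v < 256,
    ((∀ i < 5, app (K.mat [i]) v = v) → v % 64 = 0) ∧ (v < 64 ↔ (K.bq v 64 = false ∧ K.bq v 128 = false)) ∧
      (v % 64 = 0 → app (K.mat fiveR) v = v) := by
  decide +kernel

theorem split_six : ∀ v < 256, v % 64 < 64 ∧ v % 64 ^^^ (v - v % 64) = v ∧ (v - v % 64) % 64 = 0 ∧
    v - v % 64 < 256 := by decide +kernel

end Cfsg.Agent.Fus.U62Red
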