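import Cfsg.Agent.Lib.Fus.U62Red.AutLinear

/-!
Recognition of `U₆(2)`, the reduction for a centraliser with a larger quotient: computations on the fixed space
of the field automorphism.
-/

set_option autoImplicit false
set_option maxRecDepth 100000
set_option maxHeartbeats 4000000

namespace Cfsg.Agent.Fus.U62Red

open Cfsg.Agent.Invol.ExtraEight (app idm mu)

/-- The fixed space of the field automorphism. -/
def fixN : List ℕ := [0, 5, 11, 14, 80, 85, 91, 94, 176, 181, 187, 190, 224, 229, 235, 238]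

/-- Three words of order three commuting with the field automorphism. -/
def triN : List (List ℕ) := [[0], [3, 3, 0, 3, 3, 0], [4, 4, 3, 4, 3, 4, 2, 0]]

theorem fixN_mem : ∀ n < 256, app sigN n = n → n ∈ fixN := by decide +kernel

theorem fixN_facts : ∀ m ∈ fixN, m < 256 ∧ app sigN m = m ∧ Kind.q .nat m = false ∧
    (∀ n ∈ fixN, Kind.bq .nat m n = false) ∧
    (∃ n ∈ fixN, app (Kind.nat.mat fiveN) n ^^^ n = m) ∧
    ∃ y ∈ List.range 256, y ^^^ app sigN y = m := by decide +kernel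

theorem fixN_perp : ∀ n < 256, (∀ m ∈ fixN, Kind.bq .nat n m = false) → app sigN n = n := by decide +kernel

theorem fixN_span : ∀ i < 8, ∃ a ∈ fixN, ∃ b ∈ fixN, a ^^^ app OM b = 1 <<< i := by decide +kernel

theorem triN_facts : ∀ w ∈ triN, wd mn (w ++ w ++ w) = idm ∧
    ∀ n < 256, app sigN (app (Kind.nat.mat w) n) = app (Kind.nat.mat w) (app sigN n) := by decide +kernel

theorem triN_images : app (Kind.nat.mat [0]) 1 = 2 ∧ app (Kind.nat.mat [0]) 2 = 3 ∧
    app (Kind.nat.mat [3, 3, 0, 3, 3, 0]) 17 = 34 ∧ app (Kind.nat.mat [3, 3, 0, 3, 3, 0]) 34 = 51 ∧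
    app (Kind.nat.mat [4, 4, 3, 4, 3, 4, 2, 0]) 1 = 79 ∧
    Kind.bq .nat 1 (2 ^^^ app sigN 2) = true ∧ Kind.bq .nat 17 (34 ^^^ app sigN 34) = false := by decide +kernel

theorem five_span : ∀ n < 256, ∃ m ∈ List.range 256, app (Kind.nat.mat fiveN) m ^^^ m = n := by decide +kernel

theorem gen_orders : wd mn ([0] ++ [0] ++ [0]) = idm ∧ wd mn ([1] ++ [1] ++ [1]) = idm ∧
    wd mn ([4] ++ [4] ++ [4]) = idm ∧ wd mn ([2, 3] ++ [2, 3] ++ [2, 3]) = idm ∧
    wd mn (([3, 0, 4] ++ [3, 0, 4] ++ [3, 0, 4]) ++ ([3, 0, 4] ++ [3, 0, 4] ++ [3, 0, 4]) ++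
      ([3, 0, 4] ++ [3, 0, 4] ++ [3, 0, 4])) = idm := by decide +kernel

end Cfsg.Agent.Fus.U62Red
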