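import Cfsg.Agent.Lib.Fus.U62Red.AutLinear
import Cfsg.Agent.Lib.Fus.U62Red.AutFacts

/-!
Recognition of `U₆(2)`, the reduction for a centraliser with a larger quotient: computations for the reducible
modules and for an element of order five of `U₄(2)`.
-/

set_option autoImplicit false
set_option maxRecDepth 100000
set_option maxHeartbeats 4000000

namespace Cfsg.Agent.Fus.U62Red

open Cfsg.Agent.Invol.ExtraEight (app idm mu)

/-- The commutator space of the element of order five on the six-dimensional part. -/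
def cmR : List ℕ := [0, 3, 4, 7, 8, 11, 12, 15, 17, 18, 21, 22, 25, 26, 29, 30]

/-- The fixed space of the element of order five on the six-dimensional part. -/
def fxR : List ℕ := [0, 16, 35, 51]

theorem cmR_facts : ∀ K ∈ [Kind.redA, Kind.redH], ∀ m ∈ cmR, m < 64 ∧ app sigR m = m ∧
    ∃ n ∈ cmR, app (K.mat fiveR) n ^^^ n = m := by decide +kernel

theorem cmR_xor : ∀ a ∈ cmR, ∀ b ∈ cmR, a ^^^ b ∈ cmR := by decide +kernel

theorem six_split : ∀ n < 64, ∃ a ∈ cmR, ∃ b ∈ fxR, a ^^^ b = n := by decide +kernel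

theorem fxR_sig : app sigR 0 = 0 ∧ app sigR 16 = 16 ∧ app sigR 35 = 51 ∧ app sigR 51 = 35 := by decide +kernel

theorem fxR_cand : ∀ K ∈ [Kind.redA, Kind.redH], ∀ n < 64, n ≠ 0 → (∀ m ∈ cmR, K.bq n m = false) →
    (K.q n = K.q 16 → n = 16) ∧ (K.q n = K.q 35 → n = 35 ∨ n = 51) := by decide +kernel

theorem fxR_orth : ∀ K ∈ [Kind.redA, Kind.redH], ∀ b ∈ fxR, ∀ m ∈ cmR, K.bq b m = false := by decide +kernel

theorem cmR_perp : ∀ K ∈ [Kind.redA, Kind.redH], ∀ n < 256, (∀ m ∈ cmR, K.bq n m = false) →
    app (K.mat fiveR) n = n := by decide +kernel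

theorem five_fix_split : ∀ K ∈ [Kind.redA, Kind.redH], ∀ n < 256, app (K.mat fiveR) n = n →
    n % 64 ∈ fxR ∧ (app sigR (n % 64) = n % 64 → n % 64 = 0 ∨ n % 64 = 16) := by decide +kernel

theorem triple_facts : ∀ K ∈ [Kind.redA, Kind.redH],
    (4 ∈ cmR ∧ 8 ∈ cmR ∧ 12 ∈ cmR) ∧ K.q 4 = true ∧ K.q 8 = true ∧ K.q 12 = true := by decide +kernel

theorem plane_line_bq : ∀ K ∈ [Kind.redA, Kind.redH], ∀ p ∈ [64, 128, 192], K.bq p p = false ∧
    (∀ n < 64, K.bq n p = false) ∧ ∃ p' ∈ [64, 128], K.bq p p' = true := by decide +kernel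

/-- The images of a basis made by the element of order five and the scalar. -/
def orbitImg (c : ℕ) : List ℕ :=
  let f := app (Kind.nat.mat fiveR)
  [c, f c, f (f c), f (f (f c)), app OM c, app OM (f c), app OM (f (f c)), app OM (f (f (f c)))]

/-- The coordinates of the unit vectors in that basis at the first unit vector. -/
def orbitPi : List ℕ := [1, 16, 97, 118, 221, 13, 197, 156]

theorem orbit_basis : mu (orbitImg 1) orbitPi = idm := by decide +kernel

/-- A map is an isometric involution of the natural module. -/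
def invIso (M : List ℕ) : Bool :=
  (List.range 256).all fun v => Kind.q .nat (app M v) == Kind.q .nat v && app M (app M v) == v

theorem orbit_commutant : ∀ c < 256, invIso (mu (orbitImg c) orbitPi) = true →
    mu (orbitImg c) orbitPi = idm := by decide +kernel

end Cfsg.Agent.Fus.U62Red
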