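import Cfsg.Agent.Lib.Fus.U62Red.AutFactsRed
import Mathlib.GroupTheory.Sylow

/-!
Recognition of `U₆(2)`, the reduction for a centraliser with a larger quotient: no involution of `U₄(2)`
commutes with an element of order five.
-/

set_option autoImplicit false

namespace Cfsg.Agent.Fus.U62Red

open Cfsg.Agent.Fus.U62Rec (Q4)
open Cfsg.Agent.Invol.ExtraEight (app idm mu app_lt app_mu app_idm idm_lt)

theorem el_fiveR : el fiveR ^ 5 = 1 ∧ el fiveR ≠ 1 := by
  refine ⟨?_, fun e => five_facts.2.2.2 (el_eq_one_iff.1 e)⟩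
  rw [pow_succ, pow_succ, pow_succ, pow_succ, pow_one, ← el_append, ← el_append, ← el_append, ← el_append]
  exact el_eq_one_iff.2 five_facts.2.2.1

/-- No involution of `U₄(2)` commutes with an element of order five. -/
theorem no_five {x t : Q4} (hx : x ^ 5 = 1) (hx1 : x ≠ 1) (ht : t * t = 1) (h : t * x = x * t) : t = 1 := by
  classical
  haveI : Fact (Nat.Prime 5) := ⟨by norm_num⟩
  haveI : Finite Q4 := Nat.finite_of_card_ne_zero (by rw [card_Q4]; norm_num)
  have hcard : ∀ y : Q4, y ^ 5 = 1 → y ≠ 1 → Nat.card ↥(Subgroup.zpowers y) = 5 ^ (Nat.card Q4).factorization 5 := by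
    intro y hy hy1
    rw [Nat.card_zpowers, orderOf_eq_prime hy hy1, card_Q4,
      show (25920 : ℕ) = 5 ^ 1 * 5184 from rfl, Nat.factorization_mul (by norm_num) (by norm_num),
      Finsupp.add_apply, Nat.Prime.factorization_pow (by norm_num), Finsupp.single_eq_same,
      Nat.factorization_eq_zero_of_not_dvd (by norm_num : ¬ 5 ∣ 5184), add_zero, pow_one]
  obtain ⟨g, hg⟩ := MulAction.exists_smul_eq Q4 (Sylow.ofCard (Subgroup.zpowers x) (hcard x hx hx1))
    (Sylow.ofCard (Subgroup.zpowers (el fiveR)) (hcard _ el_fiveR.1 el_fiveR.2))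
  have hsub : (Subgroup.zpowers x).map (MulAut.conj g).toMonoidHom = Subgroup.zpowers (el fiveR) := by
    have := congrArg Sylow.toSubgroup hg
    exact this
  have hmem : el fiveR ∈ (Subgroup.zpowers x).map (MulAut.conj g).toMonoidHom := by
    rw [hsub]; exact Subgroup.mem_zpowers _
  obtain ⟨_, ⟨k, rfl⟩, hk⟩ := hmem
  change g * x ^ k * g⁻¹ = el fiveR at hk
  set t' := g * t * g⁻¹ with ht'
  have hc : t' * el fiveR = el fiveR * t' := by
    rw [← hk, ht', show g * t * g⁻¹ * (g * x ^ k * g⁻¹) = g * (t * x ^ k) * g⁻¹ by group,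
      (Commute.zpow_right (h : Commute t x) k).eq]
    group
  have htt : t' * t' = 1 := by
    rw [ht', show g * t * g⁻¹ * (g * t * g⁻¹) = g * (t * t) * g⁻¹ by group, ht]; group
  obtain ⟨w, hw⟩ := exists_word t'
  rw [← hw] at hc htt
  have hcomm := el_comm_iff.1 hc
  rw [← el_append] at htt
  have hinv := el_eq_one_iff.1 htt
  set M := Kind.nat.mat w with hM
  have hf : ∀ v < 256, app M (app (Kind.nat.mat fiveR) v) = app (Kind.nat.mat fiveR) (app M v) := fun v hv => by
    rw [← app_mu _ (mat_lt _ fiveR), hcomm, app_mu _ (mat_lt _ w)]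
  have hB : ∀ i ∈ orbitImg 1, i < 256 := by
    have : ∀ i ∈ orbitImg 1, i < 256 := by decide +kernel
    exact this
  have himg : (orbitImg 1).map (app M) = orbitImg (app M 1) := by
    have l1 : ∀ v, app (Kind.nat.mat fiveR) v < 256 := fun v => app_mat_lt _ _ v
    simp only [orbitImg, List.map_cons, List.map_nil, hM]
    rw [app_mat_OM w (by norm_num : (1 : ℕ) < 256), app_mat_OM w (l1 _), app_mat_OM w (l1 _),
      app_mat_OM w (l1 _), ← hM, hf 1 (by norm_num), hf _ (l1 _), hf 1 (by norm_num), hf _ (l1 _), hf _ (l1 _),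
      hf 1 (by norm_num)]
  have hPi : ∀ i ∈ orbitPi, i < 256 := by decide
  have hMeq : ∀ v < 256, app M v = app (mu (orbitImg (app M 1)) orbitPi) v := fun v hv => by
    conv_lhs => rw [← app_idm v hv, ← orbit_basis, app_mu _ hPi]
    rw [app_mu _ hPi, ← himg]
    exact (app_mu M hB _).symm
  have hok : invIso (mu (orbitImg (app M 1)) orbitPi) = true := by
    simp only [invIso, List.all_eq_true, List.mem_range, Bool.and_eq_true, beq_iff_eq]
    intro v hv
    refine ⟨?_, ?_⟩
    · rw [← hMeq v hv, hM, mat_q _ _ hv]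
    · rw [← hMeq v hv, ← hMeq _ (app_mat_lt _ w v), hM, ← app_mat_append _ _ _ hv, hinv, app_idm v hv]
  have hid := orbit_commutant (app M 1) (app_mat_lt _ w 1) hok
  have h1 : el w = 1 := by
    rw [← el_nil, el_eq_iff]
    refine mat_ext _ fun v hv => ?_
    rw [← hM, hMeq v hv, hid, app_idm v hv, app_mat_nil _ hv]
  rw [hw, ht'] at h1
  exact conj_eq_one_iff.1 h1

end Cfsg.Agent.Fus.U62Red
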