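import Cfsg.Agent.Lib.Fus.U62Red.AutTransfer
import Cfsg.Agent.Lib.Fus.U62Red.AutFactsNat

/-!
Recognition of `U₆(2)`, the reduction for a centraliser with a larger quotient: parity inside a centraliser and
the values of the transfer on the subgroup of index two.
-/

set_option autoImplicit false
set_option linter.unusedSectionVars false

namespace Cfsg.Agent.Fus.U62Red

open Cfsg.Agent.Fus.U62Rec (Q4 CC)

variable {G : Type*} [Group G]

/-- Elements of a group of order two square to one. -/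
theorem two_sq (a : Multiplicative (ZMod 2)) : a * a = 1 := by revert a; decide

theorem two_odd_pow (a : Multiplicative (ZMod 2)) {n : ℕ} (hn : Odd n) : a ^ n = a := by
  obtain ⟨k, rfl⟩ := hn
  rw [pow_succ, pow_mul, pow_two, two_sq, one_pow, one_mul]

theorem two_inv (a : Multiplicative (ZMod 2)) : a⁻¹ = a := inv_eq_of_mul_eq_one_right (two_sq a)

namespace Outer

variable (O : Outer G)

open _root_.Classical in
/-- The parity, on the whole group. -/
noncomputable def par (x : G) : Multiplicative (ZMod 2) :=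
  if h : x ∈ CC O.z then O.chi ⟨x, h⟩ else 1

theorem par_mul {x y : G} (hx : x ∈ CC O.z) (hy : y ∈ CC O.z) : O.par (x * y) = O.par x * O.par y := by
  rw [par, par, par, dif_pos hx, dif_pos hy, dif_pos (mul_mem hx hy), ← map_mul]
  rfl

theorem par_eq_one {x : G} (hx : x ∈ CC O.z) : O.par x = 1 ↔ x ∈ O.H₀ := by
  rw [par, dif_pos hx]; exact O.chi_eq_one hx

theorem par_z : O.par O.z = 1 := (O.par_eq_one (O.J_le_CC O.ext.mem)).2 O.z_mem₀

theorem par_inv {x : G} (hx : x ∈ CC O.z) : O.par x⁻¹ = O.par x := by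
  have h := O.par_mul hx (inv_mem hx)
  rw [mul_inv_cancel, (O.par_eq_one (one_mem _)).2 (one_mem _)] at h
  rw [← two_inv (O.par x)]
  exact (inv_eq_of_mul_eq_one_right h.symm).symm

theorem par_conj {k x : G} (hk : k ∈ CC O.z) (hx : x ∈ CC O.z) : O.par (k * x * k⁻¹) = O.par x := by
  rw [O.par_mul (mul_mem hk hx) (inv_mem hk), O.par_mul hk hx, O.par_inv hk, mul_comm (O.par k), mul_assoc,
    two_sq, mul_one]

/-- Squares in the centraliser are inner. -/
theorem sq_mem₀ {x : G} (hx : x ∈ CC O.z) : x * x ∈ O.H₀ :=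
  (O.par_eq_one (mul_mem hx hx)).1 (by rw [O.par_mul hx hx, two_sq])

/-- Commutators in the centraliser are inner. -/
theorem comm_mem₀ {x y : G} (hx : x ∈ CC O.z) (hy : y ∈ CC O.z) : x * y * x⁻¹ * y⁻¹ ∈ O.H₀ :=
  (O.par_eq_one (mul_mem (mul_mem (mul_mem hx hy) (inv_mem hx)) (inv_mem hy))).1 (by
    rw [O.par_mul (mul_mem (mul_mem hx hy) (inv_mem hx)) (inv_mem hy), O.par_conj hx hy, O.par_inv hy, two_sq])

variable [Finite G]

theorem V_sq (x : G) : O.V x * O.V x = 1 := two_sq _

theorem V_conj (k x : G) : O.V (k * x * k⁻¹) = O.V x := by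
  rw [map_mul, map_mul, map_inv, mul_comm (O.V k), mul_inv_cancel_right]

theorem V_comm (x y : G) : O.V (x * y * x⁻¹ * y⁻¹) = 1 := by
  rw [map_mul, O.V_conj, map_inv, mul_inv_cancel]

/-- The transfer kills a lift of an element of odd order when it kills the extraspecial group. -/
theorem V_lift_odd (hJ : ∀ x ∈ O.J, O.V x = 1) {m : ↥O.H₀} {w : List ℕ} {n : ℕ} (hn : Odd n)
    (hm : O.π m = el w) (hw : el w ^ n = 1) : O.V (m : G) = 1 := by
  have h : ((m ^ n : ↥O.H₀) : G) ∈ O.J := (O.ker _).1 (by rw [map_pow, hm, hw])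
  have h1 := hJ _ h
  rwa [Subgroup.coe_pow, map_pow, two_odd_pow _ hn] at h1

/-- The transfer kills the subgroup of index two when it kills the extraspecial group. -/
theorem V_inner (hJ : ∀ x ∈ O.J, O.V x = 1) {m : G} (hm : m ∈ O.H₀) : O.V m = 1 := by
  obtain ⟨h0, h1, h4, h23, h304⟩ := gen_orders
  have e3 : ∀ w : List ℕ, wd mn (w ++ w ++ w) = Cfsg.Agent.Invol.ExtraEight.idm → el w ^ 3 = 1 := fun w h => by
    rw [pow_succ, pow_two, ← el_append, ← el_append]
    exact el_eq_one_iff.2 h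
  have key : ∀ (w : List ℕ) (n : ℕ), Odd n → el w ^ n = 1 → ∀ k : ↥O.H₀, O.π k = el w → O.V (k : G) = 1 :=
    fun w n hn hw k hk => O.V_lift_odd hJ hn hk hw
  have k0 := key [0] 3 (by decide) (e3 [0] h0)
  have k1 := key [1] 3 (by decide) (e3 [1] h1)
  have k4 := key [4] 3 (by decide) (e3 [4] h4)
  have k23 := key [2, 3] 3 (by decide) (e3 [2, 3] h23)
  have k304 := key [3, 0, 4] 9 (by decide) (by
    rw [show (9 : ℕ) = 3 * 3 from rfl, pow_mul, pow_succ, pow_two, pow_succ, pow_two, ← el_append, ← el_append,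
      ← el_append, ← el_append]
    exact el_eq_one_iff.2 h304)
  have split : ∀ (a b : List ℕ), (∀ k : ↥O.H₀, O.π k = el (a ++ b) → O.V (k : G) = 1) →
      (∀ k : ↥O.H₀, O.π k = el b → O.V (k : G) = 1) → ∀ k : ↥O.H₀, O.π k = el a → O.V (k : G) = 1 := by
    intro a b hab hb k hk
    obtain ⟨l, hl⟩ := O.surj (el b)
    have h := hab (k * l) (by rw [map_mul, hk, hl, el_append])
    rwa [Subgroup.coe_mul, map_mul, hb l hl, mul_one] at h
  have join : ∀ (a b : List ℕ), (∀ k : ↥O.H₀, O.π k = el a → O.V (k : G) = 1) →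
      (∀ k : ↥O.H₀, O.π k = el b → O.V (k : G) = 1) → ∀ k : ↥O.H₀, O.π k = el (a ++ b) → O.V (k : G) = 1 := by
    intro a b ha hb k hk
    obtain ⟨l, hl⟩ := O.surj (el a)
    have h := hb (l⁻¹ * k) (by rw [map_mul, map_inv, hl, hk, el_append, inv_mul_cancel_left])
    rwa [Subgroup.coe_mul, map_mul, Subgroup.coe_inv, map_inv, ha l hl, inv_one, one_mul] at h
  have k3 := split [3] [0, 4] k304 (join [0] [4] k0 k4)
  have k2 := split [2] [3] k23 k3
  have all : ∀ w : List ℕ, ∀ k : ↥O.H₀, O.π k = el w → O.V (k : G) = 1 := by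
    intro w
    induction w with
    | nil => exact fun k hk => hJ _ ((O.ker k).1 (hk.trans el_nil))
    | cons i w ih =>
      refine join [i] w ?_ ih
      rcases (show i = 0 ∨ i = 1 ∨ i = 2 ∨ i = 3 ∨ i = 4 ∨ 5 ≤ i by omega) with rfl | rfl | rfl | rfl | rfl | hi
      iterate 5 assumption
      intro k hk
      refine hJ _ ((O.ker k).1 (hk.trans (el_eq_one_iff.2 ?_)))
      show Kind.nat.mat [i] = _
      rw [mat_cons, List.getD_eq_default _ _ (by show mn.length ≤ i; rw [show mn.length = 5 from rfl]; exact hi)]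
      rfl
  obtain ⟨w, hw⟩ := exists_word (O.π ⟨m, hm⟩)
  exact all w ⟨m, hm⟩ hw.symm

/-- An element of the centraliser outside the subgroup of index two that the transfer moves. -/
def Odd₁ : Prop := ∃ u ∈ CC O.z, u ∉ O.H₀ ∧ O.V u ≠ 1

/-- The kernel of the transfer has index two. -/
theorem index_ker (h : O.Odd₁) : O.V.ker.index = 2 := by
  obtain ⟨u, -, -, hu⟩ := h
  have hs : Function.Surjective O.V := fun a => by
    by_cases ha : a = 1
    · exact ⟨1, by rw [map_one, ha]⟩
    · have : ∀ a b : Multiplicative (ZMod 2), a ≠ 1 → b ≠ 1 → a = b := by decide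
      exact ⟨u, this _ _ hu ha⟩
  rw [Subgroup.index_ker, MonoidHom.range_eq_top.2 hs, Subgroup.card_top, Nat.card_eq_fintype_card]
  rfl

/-- The kernel meets the centraliser in the subgroup of index two. -/
theorem ker_iff (h : O.Odd₁) (hJ : ∀ x ∈ O.J, O.V x = 1) {x : G} (hx : x ∈ CC O.z) :
    x ∈ O.V.ker ↔ x ∈ O.H₀ := by
  obtain ⟨u, hu, huo, hVu⟩ := h
  rw [MonoidHom.mem_ker]
  refine ⟨fun e => ?_, O.V_inner hJ⟩
  rcases O.mem_or hu huo hx with h' | ⟨m, hm, rfl⟩
  · exact h'
  · rw [map_mul, O.V_inner hJ hm, one_mul] at e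
    exact absurd e hVu

end Outer

end Cfsg.Agent.Fus.U62Red
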