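import Cfsg.Agent.Lib.Fus.U62Red.AutParity
import Cfsg.Agent.Lib.Fus.U62Red.AutOnly
import Cfsg.Agent.Lib.Fus.U62Red.AutFive

/-!
Recognition of `U₆(2)`, the reduction for a centraliser with a larger quotient: an outer element of the
reducible modules acting as a reflection, with square in the centre and a commuting element of order five.
-/

set_option autoImplicit false
set_option linter.unusedSectionVars false

namespace Cfsg.Agent.Fus.U62Red

open Cfsg.Agent.Fus.U62Rec (Q4 CC)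
open Cfsg.Agent.Invol.ExtraEight (app idm app_lt app_xor app_zero app_idm)

variable {G : Type*} [Group G] [Finite G]

/-- The reflection extended by given images of the plane. -/
def planeMap (a b : ℕ) : List ℕ := [1, 2, 4, 8, 16, 32, a, b]

theorem planeMap_six : ∀ a ∈ [64, 128, 192], ∀ b ∈ [64, 128, 192], a ≠ b → ∀ p ∈ [0, 64, 128, 192],
    app (planeMap a b) p ∈ [0, 64, 128, 192] ∧
    app (planeMap a b) (app (planeMap a b) (app (planeMap a b) (app (planeMap a b) (app (planeMap a b)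
      (app (planeMap a b) p))))) = p := by decide +kernel

theorem planeMap_fix : ∀ a ∈ [64, 128, 192], ∀ b ∈ [64, 128, 192], a ≠ b → ¬ (a = 64 ∧ b = 128) →
    (∀ p ∈ [0, 64, 128, 192], app (planeMap a b) (app (planeMap a b) p) = p) → ∀ p ∈ [0, 64, 128, 192],
      app (planeMap a b) p = p → ∃ y ∈ [0, 64, 128, 192], y ^^^ app (planeMap a b) y = p := by decide +kernel

theorem plane_mem {v : ℕ} (hv : v < 256) (h : v % 64 = 0) : v ∈ [0, 64, 128, 192] := by
  simp only [List.mem_cons, List.not_mem_nil, or_false]; omega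

theorem mem_plane' {v : ℕ} (h : v ∈ [0, 64, 128, 192]) : v < 256 ∧ v % 64 = 0 := by
  simp only [List.mem_cons, List.not_mem_nil, or_false] at h
  rcases h with rfl | rfl | rfl | rfl <;> norm_num

theorem xor_mod (a b : ℕ) : (a ^^^ b) % 64 = a % 64 ^^^ b % 64 := Nat.xor_mod_two_pow (n := 6)

namespace Outer.Chart

variable {O : Outer G} {K : Kind} (C : O.Chart K)

/-- The extraspecial group acts trivially on the coordinates. -/
theorem act_J {y : G} (hy : y ∈ O.J) {n : ℕ} (hn : n < 256) : C.act y n = n := by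
  rw [C.act_mem (w := []) (O.J_le hy) (by rw [el_nil]; exact (O.ker _).2 hy) hn, app_mat_nil _ hn]

/-- An element fixed by the element of order five modulo the centre commutes with it. -/
theorem fixed_comm {v : ↥O.H₀} {w : List ℕ} (hw : O.π v = el w) (h5 : (v : G) ^ 5 = 1) {y : G} (hy : y ∈ O.J)
    (hf : app (K.mat w) (C.cv y) = C.cv y) : (v : G) * y = y * v := by
  have hvC := O.H₀_le v.2
  rcases (C.cv_eq_iff (O.norm hvC hy) hy).1 (by rw [C.act_spec hvC hy, C.act_mem v.2 hw (C.lt y), hf]) with e | e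
  · exact mul_inv_eq_iff_eq_mul.1 e
  · exfalso
    have hc := O.comm_z hvC
    have hzv : ∀ n : ℕ, (v : G) ^ n * y * ((v : G) ^ n)⁻¹ = y * O.z ^ n := by
      intro n
      induction n with
      | zero => simp
      | succ n ih =>
        rw [pow_succ', show (v : G) * (v : G) ^ n * y * ((v : G) * (v : G) ^ n)⁻¹ =
          (v : G) * ((v : G) ^ n * y * ((v : G) ^ n)⁻¹) * (v : G)⁻¹ by group, ih,
          show (v : G) * (y * O.z ^ n) * (v : G)⁻¹ =
            (v : G) * y * (v : G)⁻¹ * ((v : G) * O.z ^ n * (v : G)⁻¹) by group, e,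
          (show Commute (v : G) (O.z ^ n) from (show Commute (v : G) O.z from hc).pow_right n).eq,
          mul_inv_cancel_right, pow_succ', mul_assoc]
    have h := hzv 5
    rw [h5, one_mul, inv_one, mul_one, show O.z ^ 5 = O.z by simp [pow_succ, O.ext.zz]] at h
    exact O.ext.ne (mul_eq_left.1 h.symm)

end Outer.Chart

namespace Outer

/-- An outer element acting as the reflection, with a commuting element of order five. -/
structure Refl (O : Outer G) (K : Kind) where
  C : O.Chart K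
  red : K.IsRed
  u : G
  v : G
  u_mem : u ∈ CC O.z
  u_out : u ∉ O.H₀
  v_mem : v ∈ O.H₀
  v_π : O.π ⟨v, v_mem⟩ = el fiveR
  v_five : v ^ 5 = 1
  comm : u * v = v * u
  act_u : ∀ n < 64, C.act u n = app sigR n
  act_uu : ∀ n < 256, C.act u (C.act u n) = n

namespace Refl

variable {O : Outer G} {K : Kind} (S : O.Refl K)

theorem v_CC : S.v ∈ CC O.z := O.H₀_le S.v_mem

theorem act_v {n : ℕ} (hn : n < 256) : S.C.act S.v n = app (K.mat fiveR) n := S.C.act_mem S.v_mem S.v_π hn

theorem comm_of_fixed {y : G} (hy : y ∈ O.J) (hf : app (K.mat fiveR) (S.C.cv y) = S.C.cv y) :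
    S.v * y = y * S.v :=
  S.C.fixed_comm (v := ⟨S.v, S.v_mem⟩) S.v_π S.v_five hy hf

theorem uu_mem : S.u * S.u ∈ O.J ∧ app (K.mat fiveR) (S.C.cv (S.u * S.u)) = S.C.cv (S.u * S.u) ∧
    S.C.act S.u (S.C.cv (S.u * S.u)) = S.C.cv (S.u * S.u) := by
  have hC := mul_mem S.u_mem S.u_mem
  have hJ : S.u * S.u ∈ O.J := O.mem_of_trivial fun x hx => (S.C.cv_eq_iff (O.norm hC hx) hx).1 (by
    rw [S.C.act_spec hC hx, S.C.act_mul S.u_mem S.u_mem (S.C.lt x), S.act_uu _ (S.C.lt x)])
  refine ⟨hJ, ?_, ?_⟩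
  · rw [← S.act_v (S.C.lt _), ← S.C.act_spec S.v_CC hJ]
    congr 1
    calc S.v * (S.u * S.u) * S.v⁻¹ = S.v * S.u * S.u * S.v⁻¹ := by group
      _ = S.u * S.v * S.u * S.v⁻¹ := by rw [← S.comm]
      _ = S.u * (S.v * S.u) * S.v⁻¹ := by group
      _ = S.u * S.u := by rw [← S.comm]; group
  · rw [← S.C.act_spec S.u_mem hJ]
    congr 1
    group

/-- The outer element moved by a fixed element of the extraspecial group. -/
def adj (y : G) (hy : y ∈ O.J) (hf : app (K.mat fiveR) (S.C.cv y) = S.C.cv y) : O.Refl K where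
  C := S.C
  red := S.red
  u := y * S.u
  v := S.v
  u_mem := mul_mem (O.J_le_CC hy) S.u_mem
  u_out e := S.u_out (by simpa using O.H₀.mul_mem (inv_mem (O.J_le hy)) e)
  v_mem := S.v_mem
  v_π := S.v_π
  v_five := S.v_five
  comm := by rw [mul_assoc, S.comm, ← mul_assoc, ← S.comm_of_fixed hy hf, mul_assoc]
  act_u n hn := by
    rw [S.C.act_mul (O.J_le_CC hy) S.u_mem (by omega : n < 256), S.C.act_J hy (S.C.act_lt _ _)]
    exact S.act_u n hn
  act_uu n hn := by
    rw [S.C.act_mul (O.J_le_CC hy) S.u_mem hn, S.C.act_J hy (S.C.act_lt _ _),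
      S.C.act_mul (O.J_le_CC hy) S.u_mem (S.C.act_lt _ _), S.C.act_J hy (S.C.act_lt _ _)]
    exact S.act_uu n hn

/-- Values on the plane. -/
theorem _root_.Cfsg.Agent.Fus.U62Red.Outer.Chart.act_planeMap (C : O.Chart K) (hK : K.IsRed) {h : G}
    (hh : h ∈ CC O.z) : C.act h 64 ∈ [64, 128, 192] ∧ C.act h 128 ∈ [64, 128, 192] ∧ C.act h 64 ≠ C.act h 128 ∧
      ∀ p ∈ [0, 64, 128, 192], C.act h p = app (planeMap (C.act h 64) (C.act h 128)) p := by
  have mem : ∀ p : ℕ, p < 256 → p % 64 = 0 → p ≠ 0 → C.act h p ∈ [64, 128, 192] := fun p hp h0 hne => by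
    have h1 := C.act_lt h p
    have h2 := C.act_plane' hK hh hp h0
    have h3 : C.act h p ≠ 0 := fun e => hne (C.act_inj hh hp e)
    simp only [List.mem_cons, List.not_mem_nil, or_false]; omega
  have hmap : ∀ a ∈ [64, 128, 192], ∀ b ∈ [64, 128, 192], app (planeMap a b) 0 = 0 ∧
      app (planeMap a b) 64 = a ∧ app (planeMap a b) 128 = b ∧ app (planeMap a b) 192 = a ^^^ b := by decide +kernel
  have ha := mem 64 (by norm_num) rfl (by norm_num)
  have hb := mem 128 (by norm_num) rfl (by norm_num)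
  have hadd := C.act_add hh (a := 64) (b := 128) (by norm_num) (by norm_num)
  obtain ⟨e0, e1, e2, e3⟩ := hmap _ ha _ hb
  refine ⟨ha, hb, fun e => ?_, fun p hp => ?_⟩
  · rw [e, Nat.xor_self] at hadd
    exact absurd (C.act_inj hh (show (64 : ℕ) ^^^ 128 < 256 by decide) hadd) (by decide)
  · simp only [List.mem_cons, List.not_mem_nil, or_false] at hp
    rcases hp with rfl | rfl | rfl | rfl
    · rw [C.act_zero hh, e0]
    · exact e1.symm
    · exact e2.symm
    · rw [e3]; exact hadd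

/-- The action on a vector through its two parts. -/
theorem act_parts {n : ℕ} (hn : n < 256) :
    S.C.act S.u n = app sigR (n % 64) ^^^ S.C.act S.u (n - n % 64) := by
  obtain ⟨h1, h2, h3, h4⟩ := split_six n hn
  conv_lhs => rw [← h2]
  rw [S.C.act_add S.u_mem (by omega) h4, S.act_u _ h1]

/-- The square is cleared by an element solving the equation for the coordinates. -/
theorem sq_of {y0 : ℕ} (hlt : y0 < 256) (hf : app (K.mat fiveR) y0 = y0)
    (he : y0 ^^^ S.C.act S.u y0 = S.C.cv (S.u * S.u)) :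
    ∃ T : O.Refl K, T.u * T.u = 1 ∨ T.u * T.u = O.z := by
  obtain ⟨hy, hye⟩ := S.C.pre_spec hlt
  refine ⟨S.adj (S.C.pre y0) hy (by rw [hye]; exact hf), ?_⟩
  show S.C.pre y0 * S.u * (S.C.pre y0 * S.u) = 1 ∨ S.C.pre y0 * S.u * (S.C.pre y0 * S.u) = O.z
  rw [show S.C.pre y0 * S.u * (S.C.pre y0 * S.u) =
    S.C.pre y0 * (S.u * S.C.pre y0 * S.u⁻¹) * (S.u * S.u) by group]
  have hn := O.norm S.u_mem hy
  refine (S.C.zero_iff _ (mul_mem (mul_mem hy hn) S.uu_mem.1)).1 ?_
  rw [S.C.cv_mul _ (mul_mem hy hn) _ S.uu_mem.1, S.C.cv_mul _ hy _ hn, S.C.act_spec S.u_mem hy, hye, he,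
    Nat.xor_self]

/-- With a fixed plane the element can be moved to centralise it. -/
theorem exists_central_plane (h1 : S.C.act S.u 64 = 64) (h2 : S.C.act S.u 128 = 128) :
    ∃ T : O.Refl K, (T.C.act T.u 64 = 64 ∧ T.C.act T.u 128 = 128) ∧ T.C.cv (T.u * T.u) < 64 := by
  have hK := S.red.mem
  obtain ⟨ha, hae⟩ := S.C.pre_spec (show 64 < 256 by norm_num)
  obtain ⟨hb, hbe⟩ := S.C.pre_spec (show 128 < 256 by norm_num)
  set a := S.C.pre 64
  set b := S.C.pre 128
  have hab : a * b ≠ b * a := (S.C.bq_iff ha hb).1 (by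
    rw [hae, hbe]; rcases S.red with rfl | rfl <;> decide +kernel)
  have hua : S.u * a * S.u⁻¹ = a ∨ S.u * a * S.u⁻¹ = a * O.z := (S.C.cv_eq_iff (O.norm S.u_mem ha) ha).1 (by
    rw [S.C.act_spec S.u_mem ha, hae, h1])
  have hub : S.u * b * S.u⁻¹ = b ∨ S.u * b * S.u⁻¹ = b * O.z := (S.C.cv_eq_iff (O.norm S.u_mem hb) hb).1 (by
    rw [S.C.act_spec S.u_mem hb, hbe, h2])
  have hab' : a * b * a⁻¹ = b * O.z := ((O.ext.conj_cases hb ha).resolve_left hab).2
  have hba' : b * a * b⁻¹ = a * O.z := ((O.ext.conj_cases ha hb).resolve_left (Ne.symm hab)).2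
  have hcz : ∀ x ∈ O.J, ∀ p : G, x * (p * O.z) * x⁻¹ = x * p * x⁻¹ * O.z := fun x hx p => by
    rw [show x * (p * O.z) * x⁻¹ = x * p * (O.z * x⁻¹) by group, ← O.ext.central _ (inv_mem hx), ← mul_assoc]
  obtain ⟨y, hy, hyf, hya, hyb⟩ : ∃ y ∈ O.J, app (K.mat fiveR) (S.C.cv y) = S.C.cv y ∧
      y * (S.u * a * S.u⁻¹) * y⁻¹ = a ∧ y * (S.u * b * S.u⁻¹) * y⁻¹ = b := by
    have hfa : app (K.mat fiveR) (S.C.cv a) = S.C.cv a := by
      rw [hae]; exact ((plane_iff K hK 64 (by norm_num)).2.2 rfl)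
    have hfb : app (K.mat fiveR) (S.C.cv b) = S.C.cv b := by
      rw [hbe]; exact ((plane_iff K hK 128 (by norm_num)).2.2 rfl)
    rcases hua with ea | ea <;> rcases hub with eb | eb <;> rw [ea, eb]
    · exact ⟨1, one_mem _, by rw [S.C.cv_one, app_zero], by group, by group⟩
    · exact ⟨a, ha, hfa, by group, by rw [hcz a ha, hab', O.mul_z_z]⟩
    · exact ⟨b, hb, hfb, by rw [hcz b hb, hba', O.mul_z_z], by group⟩
    · refine ⟨a * b, mul_mem ha hb, by rw [S.C.cv_mul _ ha _ hb, app_xor, hfa, hfb], ?_, ?_⟩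
      · rw [hcz _ (mul_mem ha hb), show a * b * a * (a * b)⁻¹ = a * (b * a * b⁻¹) * a⁻¹ by group, hba',
          hcz a ha, mul_inv_cancel_right, O.mul_z_z]
      · rw [hcz _ (mul_mem ha hb), show a * b * b * (a * b)⁻¹ = a * b * a⁻¹ by group, hab', O.mul_z_z]
  set T := S.adj y hy hyf
  have hT : ∀ n < 256, T.C.act T.u n = S.C.act S.u n := fun n hn => by
    show S.C.act (y * S.u) n = _
    rw [S.C.act_mul (O.J_le_CC hy) S.u_mem hn, S.C.act_J hy (S.C.act_lt _ _)]
  refine ⟨T, ⟨(hT 64 (by norm_num)).trans h1, (hT 128 (by norm_num)).trans h2⟩, ?_⟩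
  have hTa : T.u * a = a * T.u := mul_inv_eq_iff_eq_mul.1 (by
    show y * S.u * a * (y * S.u)⁻¹ = a
    rw [show y * S.u * a * (y * S.u)⁻¹ = y * (S.u * a * S.u⁻¹) * y⁻¹ by group, hya])
  have hTb : T.u * b = b * T.u := mul_inv_eq_iff_eq_mul.1 (by
    show y * S.u * b * (y * S.u)⁻¹ = b
    rw [show y * S.u * b * (y * S.u)⁻¹ = y * (S.u * b * S.u⁻¹) * y⁻¹ by group, hyb])
  refine (plane_iff K hK _ (T.C.lt _)).2.1.2 ⟨?_, ?_⟩
  · rw [← hae]
    exact (T.C.bq_false_iff T.uu_mem.1 ha).2 (by rw [mul_assoc, hTa, ← mul_assoc, hTa, mul_assoc])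
  · rw [← hbe]
    exact (T.C.bq_false_iff T.uu_mem.1 hb).2 (by rw [mul_assoc, hTb, ← mul_assoc, hTb, mul_assoc])

include S in
/-- The square can be made central. -/
theorem exists_sq : ∃ T : O.Refl K, T.u * T.u = 1 ∨ T.u * T.u = O.z := by
  obtain ⟨e0, e16, e35, -⟩ := fxR_sig
  -- the six-dimensional part of the square
  have six : ∀ T : O.Refl K, ∃ a, a < 64 ∧ app (K.mat fiveR) a = a ∧
      a ^^^ app sigR a = T.C.cv (T.u * T.u) % 64 ∧ T.C.act T.u (T.C.cv (T.u * T.u) - T.C.cv (T.u * T.u) % 64) =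
        T.C.cv (T.u * T.u) - T.C.cv (T.u * T.u) % 64 := by
    intro T
    obtain ⟨-, hfix, hact⟩ := T.uu_mem
    set j := T.C.cv (T.u * T.u)
    have hj : j < 256 := T.C.lt _
    obtain ⟨h1, h2, h3, h4⟩ := split_six j hj
    rw [T.act_parts hj] at hact
    have hp := T.C.act_plane' T.red T.u_mem h4 h3
    have hs := (sigR_facts.2 _ h1).1
    have hσ : app sigR (j % 64) = j % 64 := by
      have e := congrArg (· % 64) hact
      simp only [xor_mod, hp, Nat.xor_zero, Nat.mod_eq_of_lt hs] at e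
      exact e
    have hrest : T.C.act T.u (j - j % 64) = j - j % 64 := by
      conv_rhs at hact => rw [← h2]
      rw [hσ] at hact
      exact Nat.xor_right_inj.1 hact
    have h35 : app (K.mat fiveR) 35 = 35 ∧ 35 ^^^ app sigR 35 = 16 := by
      rcases T.red with rfl | rfl <;> decide +kernel
    rcases ((five_fix_split K T.red.mem j hj hfix).2 hσ) with e | e
    · exact ⟨0, by norm_num, app_zero _, by rw [e0, e]; rfl, hrest⟩
    · exact ⟨35, by norm_num, h35.1, by rw [e]; exact h35.2, hrest⟩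
  have hK := S.red.mem
  by_cases htriv : S.C.act S.u 64 = 64 ∧ S.C.act S.u 128 = 128
  · obtain ⟨T, -, hlt⟩ := S.exists_central_plane htriv.1 htriv.2
    obtain ⟨a, ha, haf, hae, -⟩ := six T
    rw [Nat.mod_eq_of_lt hlt] at hae
    exact T.sq_of (by omega) haf (by rw [T.act_u a ha]; exact hae)
  · obtain ⟨a, ha, haf, hae, hrest⟩ := six S
    obtain ⟨h1, h2, h3, h4⟩ := split_six _ (S.C.lt (S.u * S.u))
    obtain ⟨hA, hB, hne, hval⟩ := S.C.act_planeMap S.red S.u_mem
    have hinv : ∀ p ∈ [0, 64, 128, 192], app (planeMap (S.C.act S.u 64) (S.C.act S.u 128))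
        (app (planeMap (S.C.act S.u 64) (S.C.act S.u 128)) p) = p := fun p hp => by
      have hlt := (mem_plane' hp).1
      rw [← hval p hp, ← hval _ (plane_mem (S.C.act_lt _ _) (S.C.act_plane' S.red S.u_mem hlt (mem_plane' hp).2))]
      exact S.act_uu p hlt
    obtain ⟨y, hy, hye⟩ := planeMap_fix _ hA _ hB hne htriv hinv _ (plane_mem h4 h3)
      ((hval _ (plane_mem h4 h3)).symm.trans hrest)
    obtain ⟨hylt, hy0⟩ := mem_plane' hy
    refine S.sq_of (y0 := a ^^^ y) (Nat.xor_lt_two_pow (n := 8) (by omega) hylt) ?_ ?_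
    · rw [app_xor, haf, (plane_iff K hK y hylt).2.2 hy0]
    · rw [S.C.act_add S.u_mem (by omega) hylt, S.act_u a ha, hval y hy,
        show a ^^^ y ^^^ (app sigR a ^^^ app (planeMap (S.C.act S.u 64) (S.C.act S.u 128)) y) =
          (a ^^^ app sigR a) ^^^ (y ^^^ app (planeMap (S.C.act S.u 64) (S.C.act S.u 128)) y) by ac_rfl,
        hae, hye, h2]

end Refl

/-- In a reducible module there is a reflection with central square. -/
theorem exists_refl {O : Outer G} {K : Kind} (C : O.Chart K) (hK : K.IsRed) :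
    ∃ S : O.Refl K, S.u * S.u = 1 ∨ S.u * S.u = O.z := by
  obtain ⟨h, hh, ho, hact⟩ := C.exists_sigma_red hK
  have hh2 := mul_mem hh hh
  have hh3 := mul_mem hh2 hh
  have ho3 : h * h * h ∉ O.H₀ := fun e => ho (by
    simpa [mul_assoc] using O.H₀.mul_mem (inv_mem (O.sq_mem₀ hh)) e)
  have h6 : ∀ n < 64, C.act (h * h * h) n = app sigR n := fun n hn => by
    obtain ⟨h1, h2⟩ := sigR_facts.2 n hn
    rw [C.act_mul hh2 hh (by omega : n < 256), C.act_mul hh hh (C.act_lt _ _), hact n hn, hact _ h1, h2,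
      hact n hn]
  obtain ⟨hA, hB, hne, hval⟩ := C.act_planeMap hK hh
  have hmem : ∀ p ∈ [0, 64, 128, 192], C.act h p ∈ [0, 64, 128, 192] := fun p hp =>
    plane_mem (C.act_lt _ _) (C.act_plane' hK hh (mem_plane' hp).1 (mem_plane' hp).2)
  have h36 : ∀ p ∈ [0, 64, 128, 192], C.act (h * h * h) (C.act (h * h * h) p) = p := fun p hp => by
    have e : ∀ q ∈ [0, 64, 128, 192], C.act (h * h * h) q = C.act h (C.act h (C.act h q)) := fun q hq => by
      rw [C.act_mul hh2 hh (mem_plane' hq).1, C.act_mul hh hh (C.act_lt _ _)]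
    have m1 := hmem p hp
    have m2 := hmem _ m1
    have m3 := hmem _ m2
    have m4 := hmem _ m3
    have m5 := hmem _ m4
    rw [e p hp, e _ m3, hval _ m5, hval _ m4, hval _ m3, hval _ m2, hval _ m1, hval p hp]
    exact (planeMap_six _ hA _ hB hne p hp).2
  have hall : ∀ n < 256, C.act (h * h * h) (C.act (h * h * h) n) = n := fun n hn => by
    obtain ⟨h1, h2, h3, h4⟩ := split_six n hn
    have hs := sigR_facts.2 _ h1
    conv_lhs => rw [← h2]
    rw [C.act_add hh3 (by omega) h4, C.act_add hh3 (C.act_lt _ _) (C.act_lt _ _), h6 _ h1, h6 _ hs.1, hs.2,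
      h36 _ (plane_mem h4 h3), h2]
  obtain ⟨v, hv, hv5, u, hu, huo, huv, hua⟩ := C.exists_commuting (five := fiveR)
    (el_eq_one_iff.2 five_facts.2.2.1) hh3 ho3 (fun n hn => by
      obtain ⟨h1, h2, h3, h4⟩ := split_six n hn
      have h1' : n % 64 < 256 := by omega
      have hp := C.act_plane' hK hh3 h4 h3
      have hs := (sigR_facts.2 _ h1).1
      rw [← h2, app_xor, (plane_iff K hK.mem _ h4).2.2 h3, C.act_add hh3 (app_mat_lt _ _ _) h4,
        C.act_add hh3 h1' h4, app_xor, (plane_iff K hK.mem _ (C.act_lt _ _)).2.2 hp,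
        h6 _ (red_mat_six hK.mem _ h1), h6 _ h1, sigR_five K hK.mem _ h1])
  let S : O.Refl K :=
    { C := C, red := hK, u := u, v := v, u_mem := hu, u_out := huo, v_mem := v.2, v_π := hv
      v_five := by rw [← Subgroup.coe_pow, hv5]; rfl
      comm := huv
      act_u := fun n hn => (hua n (by omega)).trans (h6 n hn)
      act_uu := fun n hn => by rw [hua n hn, hua _ (C.act_lt _ _), hall n hn] }
  exact S.exists_sq

end Outer

end Cfsg.Agent.Fus.U62Red
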