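import Cfsg.Agent.Lib.Fus.U62Red.ChartLemmas

/-!
Recognition of `U₆(2)`, the reduction for a centraliser with a larger quotient: the frame, its inner frame and
the action of the whole centraliser on the coordinates.
-/

set_option autoImplicit false
set_option linter.unusedSectionVars false

namespace Cfsg.Agent.Fus.U62Red

open Cfsg.Agent.Fus.U62Rec (Q4 CC)
open Cfsg.Agent.Spor.ExtraPair (Ext)
open Cfsg.Agent.Invol.ExtraEight (app app_lt app_xor app_zero)

variable {G : Type*} [Group G]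

/-- A centraliser with a distinguished subgroup of index two mapping onto `U₄(2)`. -/
structure Outer (G : Type*) [Group G] where
  z : G
  J : Subgroup G
  ext : Ext z J
  card_J : Nat.card ↥J = 512
  H₀ : Subgroup G
  H₀_le : H₀ ≤ CC z
  J_le : J ≤ H₀
  norm₀ : ∀ h ∈ CC z, ∀ m ∈ H₀, h * m * h⁻¹ ∈ H₀
  two : ∀ a ∈ CC z, a ∉ H₀ → ∀ b ∈ CC z, b ∉ H₀ → a * b ∈ H₀
  exists_out : ∃ h ∈ CC z, h ∉ H₀
  π : ↥H₀ →* Q4
  surj : Function.Surjective π
  ker : ∀ m : ↥H₀, π m = 1 ↔ (m : G) ∈ J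
  outer : ∀ h, ∀ hh : h ∈ CC z, h ∉ H₀ → ∀ k : ↥H₀, ∃ m : ↥H₀,
    π ⟨h * m * h⁻¹, norm₀ h hh m m.2⟩ ≠ π (k * m * k⁻¹)

namespace Outer

variable (O : Outer G)

theorem comm_z {m : G} (hm : m ∈ CC O.z) : m * O.z = O.z * m := Subgroup.mem_centralizer_singleton_iff.1 hm

theorem J_le_CC : O.J ≤ CC O.z := O.J_le.trans O.H₀_le

theorem z_mem₀ : O.z ∈ O.H₀ := O.J_le O.ext.mem

theorem norm {m : G} (hm : m ∈ CC O.z) {x : G} (hx : x ∈ O.J) : m * x * m⁻¹ ∈ O.J :=
  O.ext.norm m (O.comm_z hm) x hx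

theorem mul_z_z (x : G) : x * O.z * O.z = x := by rw [mul_assoc, O.ext.zz, mul_one]

theorem mem_or {a b : G} (ha : a ∈ CC O.z) (ha' : a ∉ O.H₀) (hb : b ∈ CC O.z) :
    b ∈ O.H₀ ∨ ∃ m ∈ O.H₀, b = m * a := by
  by_cases h : b ∈ O.H₀
  · exact Or.inl h
  · exact Or.inr ⟨b * a⁻¹, O.two b hb h a⁻¹ (inv_mem ha) (fun e => ha' (by simpa using inv_mem e)), by group⟩

/-- The frame inside the subgroup of index two. -/
def inner : Frame ↥O.H₀ where
  z := ⟨O.z, O.z_mem₀⟩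
  J := O.J.subgroupOf O.H₀
  ext :=
    { mem := O.ext.mem
      ne := fun e => O.ext.ne (congrArg Subtype.val e)
      zz := Subtype.ext O.ext.zz
      central := fun q hq => Subtype.ext (O.ext.central _ hq)
      comm := fun x hx y hy => (O.ext.comm _ hx _ hy).imp (fun e => Subtype.ext (by
          rw [commutatorElement_def] at e ⊢; push_cast; exact e)) (fun e => Subtype.ext (by
          rw [commutatorElement_def] at e ⊢; push_cast; exact e))
      sq := fun x hx => (O.ext.sq _ hx).imp (fun e => Subtype.ext e) (fun e => Subtype.ext e)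
      cen := fun x hx hc => (O.ext.cen _ hx fun q hq =>
          congrArg Subtype.val (hc ⟨q, O.J_le hq⟩ hq)).imp (fun e => Subtype.ext e) (fun e => Subtype.ext e)
      self := fun c hc => O.ext.self _ fun q hq => congrArg Subtype.val (hc ⟨q, O.J_le hq⟩ hq)
      norm := fun c _ q hq => O.norm (O.H₀_le c.2) hq }
  card_J := by rw [Nat.card_congr (Subgroup.subgroupOfEquivOfLe O.J_le).toEquiv, O.card_J]
  π := O.π.comp (Subgroup.subtype _)
  surj q := by
    obtain ⟨m, rfl⟩ := O.surj q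
    exact ⟨⟨m, Subgroup.mem_centralizer_singleton_iff.2 (Subtype.ext (O.comm_z (O.H₀_le m.2)))⟩, rfl⟩
  ker u := O.ker u.1

theorem mem_inner_CC (m : ↥O.H₀) : m ∈ CC O.inner.z :=
  Subgroup.mem_centralizer_singleton_iff.2 (Subtype.ext (O.comm_z (O.H₀_le m.2)))

/-- An element acting trivially modulo the centre lies in the extraspecial group. -/
theorem mem_of_trivial [Finite G] {c : G} (hc : ∀ x ∈ O.J, c * x * c⁻¹ = x ∨ c * x * c⁻¹ = x * O.z) :
    c ∈ O.J :=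
  O.ext.mem_of_trivial hc

/-- Coordinates. -/
structure Chart (O : Outer G) (K : Kind) where
  cv : G → ℕ
  lt : ∀ x, cv x < 256
  cv_mul : ∀ x ∈ O.J, ∀ y ∈ O.J, cv (x * y) = cv x ^^^ cv y
  zero_iff : ∀ x ∈ O.J, cv x = 0 ↔ x = 1 ∨ x = O.z
  surj : ∀ n < 256, ∃ x ∈ O.J, cv x = n
  q : ∀ x ∈ O.J, K.q (cv x) = true ↔ x * x = O.z
  conj : ∀ w : List ℕ, ∀ m : ↥O.H₀, O.π m = el w → ∀ x ∈ O.J,
    cv (m * x * (m : G)⁻¹) = app (K.mat w) (cv x)

theorem exists_chart [Finite G] : ∃ K : Kind, Nonempty (O.Chart K) := by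
  classical
  obtain ⟨K, ⟨C⟩⟩ := O.inner.exists_chart
  refine ⟨K, ⟨⟨fun x => if h : x ∈ O.H₀ then C.cv ⟨x, h⟩ else 0, fun x => ?_, fun x hx y hy => ?_,
    fun x hx => ?_, fun n hn => ?_, fun x hx => ?_, fun w m hm x hx => ?_⟩⟩⟩
  · split
    · exact C.lt _
    · norm_num
  · simp only [dif_pos (O.J_le hx), dif_pos (O.J_le hy), dif_pos (O.J_le (mul_mem hx hy))]
    exact C.cv_mul ⟨x, O.J_le hx⟩ hx ⟨y, O.J_le hy⟩ hy
  · simp only [dif_pos (O.J_le hx)]
    rw [C.zero_iff ⟨x, O.J_le hx⟩ hx]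
    exact ⟨fun h => h.imp (congrArg Subtype.val) (congrArg Subtype.val),
      fun h => h.imp (fun e => Subtype.ext e) (fun e => Subtype.ext e)⟩
  · obtain ⟨x, hx, e⟩ := C.surj n hn
    refine ⟨x, hx, ?_⟩
    simp only [dif_pos x.2]
    exact e
  · simp only [dif_pos (O.J_le hx)]
    rw [C.q ⟨x, O.J_le hx⟩ hx]
    exact ⟨fun h => congrArg Subtype.val h, fun h => Subtype.ext h⟩
  · simp only [dif_pos (O.J_le hx), dif_pos (O.J_le (O.norm (O.H₀_le m.2) hx))]
    exact C.conj w ⟨m, O.mem_inner_CC m⟩ hm ⟨x, O.J_le hx⟩ hx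

namespace Chart

variable {O} {K : Kind} (C : O.Chart K)

/-- The coordinates inside the subgroup of index two. -/
def inner : O.inner.Chart K where
  cv x := C.cv x
  lt x := C.lt _
  cv_mul x hx y hy := C.cv_mul _ hx _ hy
  zero_iff x hx := (C.zero_iff _ hx).trans
    ⟨fun h => h.imp (fun e => Subtype.ext e) (fun e => Subtype.ext e),
      fun h => h.imp (congrArg Subtype.val) (congrArg Subtype.val)⟩
  surj n hn := by
    obtain ⟨x, hx, e⟩ := C.surj n hn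
    exact ⟨⟨x, O.J_le hx⟩, hx, e⟩
  q x hx := (C.q _ hx).trans ⟨fun h => Subtype.ext h, fun h => congrArg Subtype.val h⟩
  conj w u hu x hx := C.conj w u.1 hu _ hx

theorem cv_one : C.cv 1 = 0 := (C.zero_iff 1 (one_mem _)).2 (Or.inl rfl)

theorem cv_z : C.cv O.z = 0 := (C.zero_iff _ O.ext.mem).2 (Or.inr rfl)

theorem cv_inv {x : G} (hx : x ∈ O.J) : C.cv x⁻¹ = C.cv x := C.inner.cv_inv (x := ⟨x, O.J_le hx⟩) hx

theorem cv_mul_z {x : G} (hx : x ∈ O.J) : C.cv (x * O.z) = C.cv x := C.inner.cv_mul_z (x := ⟨x, O.J_le hx⟩) hx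

theorem cv_eq_iff {x y : G} (hx : x ∈ O.J) (hy : y ∈ O.J) : C.cv x = C.cv y ↔ x = y ∨ x = y * O.z := by
  refine (C.inner.cv_eq_iff (x := ⟨x, O.J_le hx⟩) (y := ⟨y, O.J_le hy⟩) hx hy).trans
    ⟨fun h => h.imp (congrArg Subtype.val) (congrArg Subtype.val),
      fun h => h.imp (fun e => Subtype.ext e) (fun e => Subtype.ext e)⟩

theorem sq_one {x : G} (hx : x ∈ O.J) (h : K.q (C.cv x) = false) : x * x = 1 :=
  (O.ext.sq x hx).resolve_right fun e => by rw [(C.q x hx).2 e] at h; exact Bool.noConfusion h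

theorem q_false {x : G} (hx : x ∈ O.J) (h : x * x = 1) : K.q (C.cv x) = false :=
  Bool.eq_false_iff.2 fun e => O.ext.ne (by rw [← (C.q x hx).1 e, h])

theorem bq_iff {x y : G} (hx : x ∈ O.J) (hy : y ∈ O.J) : K.bq (C.cv x) (C.cv y) = true ↔ x * y ≠ y * x :=
  (C.inner.bq_iff (x := ⟨x, O.J_le hx⟩) (y := ⟨y, O.J_le hy⟩) hx hy).trans
    (not_congr ⟨fun h => congrArg Subtype.val h, fun h => Subtype.ext h⟩)

theorem bq_false_iff {x y : G} (hx : x ∈ O.J) (hy : y ∈ O.J) : K.bq (C.cv x) (C.cv y) = false ↔ x * y = y * x := by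
  rw [← not_iff_not, Bool.not_eq_false]; exact C.bq_iff hx hy

include C in
theorem bq_add {a b c : ℕ} (ha : a < 256) (hb : b < 256) (hc : c < 256) :
    K.bq (a ^^^ b) c = (K.bq a c ^^ K.bq b c) :=
  C.inner.bq_add ha hb hc

/-- A preimage of a vector. -/
noncomputable def pre (n : ℕ) : G := if h : n < 256 then (C.surj n h).choose else 1

theorem pre_spec {n : ℕ} (h : n < 256) : C.pre n ∈ O.J ∧ C.cv (C.pre n) = n := by
  rw [pre, dif_pos h]; exact (C.surj n h).choose_spec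

/-- The action of an element of the centraliser on the coordinates. -/
noncomputable def act (h : G) (n : ℕ) : ℕ := C.cv (h * C.pre n * h⁻¹)

theorem act_spec {h : G} (hh : h ∈ CC O.z) {x : G} (hx : x ∈ O.J) :
    C.cv (h * x * h⁻¹) = C.act h (C.cv x) := by
  obtain ⟨hp, hpe⟩ := C.pre_spec (C.lt x)
  rw [act]
  rcases (C.cv_eq_iff hp hx).1 hpe with e | e <;> rw [e]
  rw [show h * (x * O.z) * h⁻¹ = h * x * (O.z * h⁻¹) by group,
    show O.z * h⁻¹ = h⁻¹ * O.z from (O.comm_z (inv_mem hh)).symm, ← mul_assoc, C.cv_mul_z (O.norm hh hx)]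

theorem act_mem {m : G} (hm : m ∈ O.H₀) {w : List ℕ} (hw : O.π ⟨m, hm⟩ = el w) {n : ℕ} (hn : n < 256) :
    C.act m n = app (K.mat w) n := by
  obtain ⟨hp, hpe⟩ := C.pre_spec hn
  rw [act]
  exact (C.conj w ⟨m, hm⟩ hw _ hp).trans (by rw [hpe])

theorem act_lt (h : G) (n : ℕ) : C.act h n < 256 := C.lt _

theorem act_mul {h k : G} (hh : h ∈ CC O.z) (hk : k ∈ CC O.z) {n : ℕ} (hn : n < 256) :
    C.act (h * k) n = C.act h (C.act k n) := by
  obtain ⟨hp, -⟩ := C.pre_spec hn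
  rw [← (show C.cv (k * C.pre n * k⁻¹) = C.act k n from rfl), ← C.act_spec hh (O.norm hk hp), act]
  congr 1; group

theorem act_one {n : ℕ} (hn : n < 256) : C.act 1 n = n := by
  rw [act, one_mul, inv_one, mul_one]; exact (C.pre_spec hn).2

theorem act_inv_act {h : G} (hh : h ∈ CC O.z) {n : ℕ} (hn : n < 256) : C.act h⁻¹ (C.act h n) = n := by
  rw [← C.act_mul (inv_mem hh) hh hn, inv_mul_cancel, C.act_one hn]

theorem act_act_inv {h : G} (hh : h ∈ CC O.z) {n : ℕ} (hn : n < 256) : C.act h (C.act h⁻¹ n) = n := by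
  rw [← C.act_mul hh (inv_mem hh) hn, mul_inv_cancel, C.act_one hn]

theorem act_add {h : G} (hh : h ∈ CC O.z) {a b : ℕ} (ha : a < 256) (hb : b < 256) :
    C.act h (a ^^^ b) = C.act h a ^^^ C.act h b := by
  obtain ⟨hp, hpe⟩ := C.pre_spec ha
  obtain ⟨hq, hqe⟩ := C.pre_spec hb
  have e : C.cv (C.pre a * C.pre b) = a ^^^ b := by rw [C.cv_mul _ hp _ hq, hpe, hqe]
  conv_lhs => rw [← e, ← C.act_spec hh (mul_mem hp hq)]
  rw [act, act, ← C.cv_mul _ (O.norm hh hp) _ (O.norm hh hq)]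
  congr 1; group

theorem act_zero {h : G} (hh : h ∈ CC O.z) : C.act h 0 = 0 := by
  have e := C.act_add hh (a := 0) (b := 0) (by norm_num) (by norm_num)
  rw [Nat.xor_self, Nat.xor_self] at e
  exact e

theorem act_inj {h : G} (hh : h ∈ CC O.z) {n : ℕ} (hn : n < 256) (e : C.act h n = 0) : n = 0 := by
  rw [← C.act_inv_act hh hn, e, C.act_zero (inv_mem hh)]

theorem act_q {h : G} (hh : h ∈ CC O.z) {n : ℕ} (hn : n < 256) : K.q (C.act h n) = K.q n := by
  obtain ⟨hp, hpe⟩ := C.pre_spec hn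
  rw [Bool.eq_iff_iff, act, C.q _ (O.norm hh hp)]
  conv_rhs => rw [← hpe, C.q _ hp]
  constructor <;> intro e
  · calc C.pre n * C.pre n = h⁻¹ * (h * C.pre n * h⁻¹ * (h * C.pre n * h⁻¹)) * h := by group
      _ = h⁻¹ * O.z * h := by rw [e]
      _ = O.z := by rw [mul_assoc, ← O.comm_z hh]; group
  · calc h * C.pre n * h⁻¹ * (h * C.pre n * h⁻¹) = h * (C.pre n * C.pre n) * h⁻¹ := by group
      _ = O.z := by rw [e, O.comm_z hh, mul_inv_cancel_right]

theorem act_bq {h : G} (hh : h ∈ CC O.z) {a b : ℕ} (ha : a < 256) (hb : b < 256) :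
    K.bq (C.act h a) (C.act h b) = K.bq a b := by
  rw [Kind.bq, Kind.bq, ← C.act_add hh ha hb, C.act_q hh (Nat.xor_lt_two_pow (n := 8) ha hb), C.act_q hh ha,
    C.act_q hh hb]

include C in
/-- Words acting alike on the coordinates are equal. -/
theorem el_eq_of_app [Finite G] {w w' : List ℕ} (e : ∀ n < 256, app (K.mat w) n = app (K.mat w') n) :
    el w = el w' := by
  obtain ⟨m, hm⟩ := O.surj (el w)
  obtain ⟨m', hm'⟩ := O.surj (el w')
  have hmem : ((m'⁻¹ * m : ↥O.H₀) : G) ∈ O.J := by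
    refine O.mem_of_trivial fun x hx => ?_
    have hC := O.H₀_le (m'⁻¹ * m).2
    refine (C.cv_eq_iff (O.norm hC hx) hx).1 ?_
    rw [C.act_spec hC hx, Subgroup.coe_mul, Subgroup.coe_inv,
      C.act_mul (inv_mem (O.H₀_le m'.2)) (O.H₀_le m.2) (C.lt x),
      C.act_mem m.2 hm (C.lt x), e _ (C.lt x), ← C.act_mem m'.2 hm' (C.lt x), C.act_inv_act (O.H₀_le m'.2) (C.lt x)]
  have := (O.ker _).2 hmem
  rw [map_mul, map_inv, inv_mul_eq_one, hm, hm'] at this
  exact this.symm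

include C in
/-- Equal elements have words acting alike. -/
theorem app_of_el_eq {w w' : List ℕ} (e : el w = el w') {n : ℕ} (hn : n < 256) :
    app (K.mat w) n = app (K.mat w') n := by
  obtain ⟨m, hm⟩ := O.surj (el w)
  rw [← C.act_mem m.2 hm hn, C.act_mem m.2 (hm.trans e) hn]

include C in
theorem mat_inj (w : List ℕ) {n : ℕ} (hn : n < 256) (e : app (K.mat w) n = 0) : n = 0 := by
  obtain ⟨m, hm⟩ := O.surj (el w)
  rw [← C.act_mem m.2 hm hn] at e
  exact C.act_inj (O.H₀_le m.2) hn e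

/-- Conjugation by the centraliser permutes the words. -/
theorem act_conj {h : G} (hh : h ∈ CC O.z) {m : ↥O.H₀} {w w' : List ℕ} (hw : O.π m = el w)
    (hw' : O.π ⟨h * m * h⁻¹, O.norm₀ h hh m m.2⟩ = el w') {n : ℕ} (hn : n < 256) :
    C.act h (app (K.mat w) n) = app (K.mat w') (C.act h n) := by
  have hm := O.H₀_le m.2
  rw [← C.act_mem m.2 hw hn, ← C.act_mem _ hw' (C.act_lt h n), ← C.act_mul hh hm hn,
    ← C.act_mul (mul_mem (mul_mem hh hm) (inv_mem hh)) hh hn]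
  congr 1; group

include C in
/-- An outer element does not act as an inner one. -/
theorem not_inner [Finite G] {h : G} (hh : h ∈ CC O.z) (ho : h ∉ O.H₀) (w : List ℕ) :
    ∃ n < 256, C.act h n ≠ app (K.mat w) n := by
  obtain ⟨k, hk⟩ := O.surj (el w)
  obtain ⟨m, hm⟩ := O.outer h hh ho k
  obtain ⟨u, hu⟩ := exists_word (O.π m)
  by_contra hcon
  simp only [not_exists, not_and, not_not] at hcon
  obtain ⟨u', hu'⟩ := exists_word (O.π ⟨h * m * h⁻¹, O.norm₀ h hh m m.2⟩)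
  have key : el (u' ++ w) = el (w ++ u) := C.el_eq_of_app fun n hn => by
    rw [app_mat_append _ _ _ hn, app_mat_append _ _ _ hn, ← hcon n hn, ← C.act_conj hh hu.symm hu'.symm hn,
      hcon _ (app_mat_lt _ _ _)]
  rw [el_append, el_append] at key
  refine hm ?_
  rw [← hu', map_mul, map_mul, map_inv, hk, ← hu, ← key, mul_inv_cancel_right]

end Chart

/-- The conjugate centraliser. -/
def conj (g : G) : Outer G where
  z := g * O.z * g⁻¹
  J := O.J.map (MulAut.conj g).toMonoidHom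
  ext := O.ext.map_conj g
  card_J := by rw [Subgroup.card_map_of_injective (MulAut.conj g).injective, O.card_J]
  H₀ := O.H₀.comap (MulAut.conj g⁻¹).toMonoidHom
  H₀_le x hx := by
    have h : g⁻¹ * x * g⁻¹⁻¹ ∈ CC O.z := O.H₀_le hx
    have := O.comm_z h
    refine Subgroup.mem_centralizer_singleton_iff.2 ?_
    calc x * (g * O.z * g⁻¹) = g * (g⁻¹ * x * g⁻¹⁻¹ * O.z) * g⁻¹ := by group
      _ = _ := by rw [this]; group
  J_le := by
    rintro _ ⟨x, hx, rfl⟩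
    show g⁻¹ * (g * x * g⁻¹) * g⁻¹⁻¹ ∈ O.H₀
    simpa [mul_assoc] using O.J_le hx
  norm₀ h hh m hm := by
    have hh' : g⁻¹ * h * g ∈ CC O.z := Subgroup.mem_centralizer_singleton_iff.2 (by
      have := Subgroup.mem_centralizer_singleton_iff.1 hh
      calc g⁻¹ * h * g * O.z = g⁻¹ * (h * (g * O.z * g⁻¹)) * g := by group
        _ = _ := by rw [this]; group)
    have := O.norm₀ _ hh' _ hm
    show g⁻¹ * (h * m * h⁻¹) * g⁻¹⁻¹ ∈ O.H₀
    simpa [mul_assoc] using this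
  two a ha ha' b hb hb' := by
    have hc : ∀ h ∈ CC (g * O.z * g⁻¹), g⁻¹ * h * g⁻¹⁻¹ ∈ CC O.z := fun h hh => by
      refine Subgroup.mem_centralizer_singleton_iff.2 ?_
      have := Subgroup.mem_centralizer_singleton_iff.1 hh
      calc g⁻¹ * h * g⁻¹⁻¹ * O.z = g⁻¹ * (h * (g * O.z * g⁻¹)) * g := by group
        _ = _ := by rw [this]; group
    have := O.two _ (hc a ha) ha' _ (hc b hb) hb'
    show g⁻¹ * (a * b) * g⁻¹⁻¹ ∈ O.H₀
    simpa [mul_assoc] using this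
  exists_out := by
    obtain ⟨h, hh, ho⟩ := O.exists_out
    refine ⟨g * h * g⁻¹, Subgroup.mem_centralizer_singleton_iff.2 ?_, fun e => ho ?_⟩
    · calc g * h * g⁻¹ * (g * O.z * g⁻¹) = g * (h * O.z) * g⁻¹ := by group
        _ = _ := by rw [O.comm_z hh]; group
    · have e' : g⁻¹ * (g * h * g⁻¹) * g⁻¹⁻¹ ∈ O.H₀ := e
      simpa [mul_assoc] using e'
  π := MonoidHom.mk' (fun m => O.π ⟨g⁻¹ * m * g⁻¹⁻¹, m.2⟩) fun a b => by
    rw [← map_mul]; congr 1; ext; push_cast; group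
  surj q := by
    obtain ⟨m, hm⟩ := O.surj q
    refine ⟨⟨g * m * g⁻¹, ?_⟩, ?_⟩
    · show g⁻¹ * (g * m * g⁻¹) * g⁻¹⁻¹ ∈ O.H₀
      simp [mul_assoc]
    · rw [← hm]
      show O.π _ = _
      congr 1; ext; simp [mul_assoc]
  ker m := by
    show O.π _ = 1 ↔ _
    rw [O.ker]
    constructor
    · intro h
      exact ⟨_, h, by show g * (g⁻¹ * (m : G) * g⁻¹⁻¹) * g⁻¹ = _; group⟩
    · rintro ⟨x, hx, e⟩
      change g * x * g⁻¹ = _ at e
      show g⁻¹ * (m : G) * g⁻¹⁻¹ ∈ O.J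
      rw [← e]
      simpa [mul_assoc] using hx
  outer h hh ho k := by
    have hh' : g⁻¹ * h * g⁻¹⁻¹ ∈ CC O.z := Subgroup.mem_centralizer_singleton_iff.2 (by
      have := Subgroup.mem_centralizer_singleton_iff.1 hh
      calc g⁻¹ * h * g⁻¹⁻¹ * O.z = g⁻¹ * (h * (g * O.z * g⁻¹)) * g := by group
        _ = _ := by rw [this]; group)
    obtain ⟨m, hm⟩ := O.outer _ hh' ho ⟨g⁻¹ * k * g⁻¹⁻¹, k.2⟩
    refine ⟨⟨g * m * g⁻¹, by
      show g⁻¹ * (g * m * g⁻¹) * g⁻¹⁻¹ ∈ O.H₀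
      simp [mul_assoc]⟩, fun e => hm ?_⟩
    refine Eq.trans ?_ (Eq.trans (show O.π _ = O.π _ from e) ?_) <;>
      (congr 1; ext; push_cast; simp [mul_assoc])

theorem mem_conj_J {g x : G} : x ∈ (O.conj g).J ↔ g⁻¹ * x * g ∈ O.J := by
  constructor
  · rintro ⟨y, hy, rfl⟩
    show g⁻¹ * (g * y * g⁻¹) * g ∈ O.J
    simpa [mul_assoc] using hy
  · intro h
    exact ⟨_, h, by show g * (g⁻¹ * x * g) * g⁻¹ = x; group⟩

theorem mem_conj_H₀ {g x : G} : x ∈ (O.conj g).H₀ ↔ g⁻¹ * x * g ∈ O.H₀ := by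
  show g⁻¹ * x * g⁻¹⁻¹ ∈ O.H₀ ↔ _
  rw [inv_inv]

/-- The conjugate coordinates. -/
def Chart.conjChart {O : Outer G} {K : Kind} (C : O.Chart K) (g : G) : (O.conj g).Chart K where
  cv x := C.cv (g⁻¹ * x * g)
  lt x := C.lt _
  cv_mul x hx y hy := by
    rw [← C.cv_mul _ (O.mem_conj_J.1 hx) _ (O.mem_conj_J.1 hy)]; congr 1; group
  zero_iff x hx := by
    rw [C.zero_iff _ (O.mem_conj_J.1 hx)]
    show _ ↔ _ ∨ x = g * O.z * g⁻¹
    constructor <;> rintro (h | h)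
    · left; rw [show x = g * (g⁻¹ * x * g) * g⁻¹ by group, h]; group
    · right; rw [← h]; group
    · left; rw [h]; group
    · right; rw [h]; group
  surj n hn := by
    obtain ⟨x, hx, e⟩ := C.surj n hn
    exact ⟨g * x * g⁻¹, O.mem_conj_J.2 (by simpa [mul_assoc] using hx), by rw [← e]; congr 1; group⟩
  q x hx := by
    rw [C.q _ (O.mem_conj_J.1 hx)]
    show _ ↔ x * x = g * O.z * g⁻¹
    constructor <;> intro h
    · rw [← h]; group
    · calc _ = g⁻¹ * (x * x) * g := by group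
        _ = _ := by rw [h]; group
  conj w m hm x hx := by
    rw [← C.conj w ⟨g⁻¹ * m * g⁻¹⁻¹, m.2⟩ hm _ (O.mem_conj_J.1 hx)]
    congr 1; group

end Outer

end Cfsg.Agent.Fus.U62Red
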