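import Cfsg.Agent.Lib.Fus.U62Red.AutSetup
import Cfsg.Agent.Lib.Fus.U62Red.AutFacts
import Mathlib.GroupTheory.Perm.Cycle.Type

/-!
Recognition of `U₆(2)`, the reduction for a centraliser with a larger quotient: an outer element in standard
form commuting with an element of order five.
-/

set_option autoImplicit false
set_option linter.unusedSectionVars false

namespace Cfsg.Agent.Fus.U62Red

open Cfsg.Agent.Fus.U62Rec (Q4 CC)
open Cfsg.Agent.Invol.ExtraEight (app idm app_lt app_xor app_zero app_idm)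

variable {G : Type*} [Group G] [Finite G]

namespace Outer

variable {O : Outer G}

namespace Chart

/-- Multiplication of the coordinates by a scalar. -/
def scale (C : O.Chart .nat) (j : ℕ) (hj : j < 3) : O.Chart .nat where
  cv x := omp j (C.cv x)
  lt x := omp_lt j (C.lt x)
  cv_mul x hx y hy := by rw [C.cv_mul x hx y hy, (isLin_omp j).add _ (C.lt x) _ (C.lt y)]
  zero_iff x hx := by
    rw [← C.zero_iff x hx]
    refine ⟨fun e => ?_, fun e => by rw [e]; exact (isLin_omp j).zero⟩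
    calc C.cv x = omp (3 - j + j) (C.cv x) := by rw [Nat.sub_add_cancel hj.le, omp_three (C.lt x)]
      _ = omp (3 - j) 0 := by rw [omp_add, e]
      _ = 0 := (isLin_omp _).zero
  surj n hn := by
    obtain ⟨x, hx, e⟩ := C.surj (omp (3 - j) n) (omp_lt _ hn)
    exact ⟨x, hx, by rw [e, ← omp_add, Nat.add_sub_cancel' hj.le, omp_three hn]⟩
  q x hx := by rw [omp_q j (C.lt x)]; exact C.q x hx
  conj w m hm x hx := by rw [C.conj w m hm x hx, mat_omp w j (C.lt x)]

/-- In the natural module some outer element acts as the field automorphism. -/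
theorem exists_sigma_nat (C : O.Chart .nat) :
    ∃ C' : O.Chart .nat, ∃ u ∈ CC O.z, u ∉ O.H₀ ∧ ∀ n < 256, C'.act u n = app sigN n := by
  obtain ⟨h, hh, ho⟩ := O.exists_out
  have hi := inv_mem hh
  -- conjugating the scalar gives a scalar
  let f : ℕ → ℕ := fun n => C.act h (app OM (C.act h⁻¹ n))
  have hlin : IsLin f := by
    refine ⟨fun v _ => C.act_lt _ _, fun a ha b hb => ?_⟩
    show C.act h (app OM _) = _
    rw [C.act_add hi ha hb, app_xor, C.act_add hh (app_lt OM_lt _) (app_lt OM_lt _)]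
  have hcomm : ∀ w : List ℕ, ∀ v < 256, f (app (Kind.nat.mat w) v) = app (Kind.nat.mat w) (f v) := by
    intro w v hv
    obtain ⟨m, hm⟩ := O.surj (el w)
    obtain ⟨w', hw'⟩ := exists_word (O.π ⟨h⁻¹ * m * h⁻¹⁻¹, O.norm₀ _ hi m m.2⟩)
    show C.act h (app OM (C.act h⁻¹ (app (Kind.nat.mat w) v))) = _
    rw [C.act_conj hi hm hw'.symm hv, ← app_mat_OM w' (C.act_lt _ _),
      C.act_conj hh (m := ⟨h⁻¹ * m * h⁻¹⁻¹, O.norm₀ _ hi m m.2⟩) hw'.symm (w' := w) ?_ (app_lt OM_lt _)]
    rw [← hm]; congr 1; ext; push_cast; group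
  have hf1 : f 1 ≠ 0 := fun e => by
    have h1 := C.act_inj hh (app_lt OM_lt _) e
    have hz : ∀ n < 256, app OM n = 0 → n = 0 := by decide +kernel
    have h2 := hz _ (C.act_lt _ _) h1
    exact absurd (C.act_inj hi (by norm_num) h2) (by norm_num)
  obtain ⟨k, hk, hfk⟩ := natural_commutant hlin hf1 hcomm
  have hswap : ∀ v < 256, C.act h (app OM v) = omp k (C.act h v) := fun v hv => by
    rw [← hfk _ (C.act_lt h v)]
    show _ = C.act h (app OM (C.act h⁻¹ (C.act h v)))
    rw [C.act_inv_act hh hv]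
  have hk2 : k = 2 := by
    rcases (show k = 0 ∨ k = 1 ∨ k = 2 by omega) with rfl | rfl | rfl
    · exfalso
      have e := hswap 1 (by norm_num)
      have e' := congrArg (C.act h⁻¹) e
      rw [C.act_inv_act hh (app_lt OM_lt 1), show omp 0 (C.act h 1) = C.act h 1 from rfl,
        C.act_inv_act hh (by norm_num : (1 : ℕ) < 256)] at e'
      exact absurd e' (by decide)
    · exfalso
      obtain ⟨w, j, hjlt, hw⟩ := natural_isometry (f := C.act h)
        ⟨⟨fun v _ => C.act_lt _ _, fun a ha b hb => C.act_add hh ha hb⟩, hswap, fun v hv => C.act_q hh hv⟩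
      obtain ⟨m, hm⟩ := O.surj (el w)
      obtain ⟨x, hx⟩ := O.outer h hh ho m
      obtain ⟨u, hu⟩ := exists_word (O.π x)
      obtain ⟨u', hu'⟩ := exists_word (O.π ⟨h * x * h⁻¹, O.norm₀ h hh x x.2⟩)
      have key : el (u' ++ w) = el (w ++ u) := C.el_eq_of_app fun n hn => by
        -- evaluate at the scalar multiple
        have hn' : omp j (omp (3 * j - j) n) = n := by
          rw [← omp_add, Nat.add_sub_cancel' (by omega)]
          rcases (show j = 0 ∨ j = 1 ∨ j = 2 by omega) with rfl | rfl | rfl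
          · rfl
          · exact omp_three hn
          · rw [show 3 * 2 = 3 + 3 from rfl, omp_add, omp_three hn, omp_three hn]
        have hm' : omp (3 * j - j) n < 256 := omp_lt _ hn
        have e1 := C.act_conj hh hu.symm hu'.symm hm'
        rw [hw _ (app_mat_lt _ _ _), hw _ hm', hn', ← mat_omp u j hm', hn'] at e1
        rw [app_mat_append _ _ _ hn, app_mat_append _ _ _ hn, e1]
      rw [el_append, el_append] at key
      refine hx ?_
      rw [← hu', map_mul, map_mul, map_inv, hm, ← hu, ← key, mul_inv_cancel_right]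
    · rfl
  subst hk2
  obtain ⟨hs, hsig⟩ := sigN_facts
  obtain ⟨w, j, hj, hw⟩ := natural_isometry (f := fun v => C.act h (app sigN v))
    ⟨⟨fun v _ => C.act_lt _ _, fun a ha b hb => by
        show C.act h (app sigN (a ^^^ b)) = _
        rw [app_xor, C.act_add hh (app_lt hs _) (app_lt hs _)]⟩,
      fun v hv => by
        show C.act h (app sigN (app OM v)) = app OM (C.act h (app sigN v))
        rw [(hsig v hv).2.1, show omp 2 (app sigN v) = app OM (app OM (app sigN v)) from rfl,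
          hswap _ (app_lt OM_lt _), hswap _ (app_lt hs _), ← omp_add, show 2 + 2 = 3 + 1 from rfl, omp_add,
          omp_three (omp_lt _ (C.act_lt _ _))]
        rfl,
      fun v hv => by
        show Kind.q .nat (C.act h (app sigN v)) = _
        rw [C.act_q hh (app_lt hs _), (hsig v hv).2.2.1]⟩
  obtain ⟨m, hm⟩ := O.surj (el w)
  have hm' := inv_mem (O.H₀_le m.2)
  have hu : (m : G)⁻¹ * h ∈ CC O.z := mul_mem hm' hh
  have hno : (m : G)⁻¹ * h ∉ O.H₀ := fun e => ho (by simpa using O.H₀.mul_mem m.2 e)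
  refine ⟨C.scale j hj, (m : G)⁻¹ * h, hu, hno, fun n hn => ?_⟩
  -- the action in the new coordinates
  have hold : ∀ v < 256, C.act ((m : G)⁻¹ * h) v = omp j (app sigN v) := by
    intro v hv
    have e := hw (app sigN v) (app_lt hs _)
    simp only [(hsig v hv).1] at e
    rw [C.act_mul hm' hh hv, e, ← C.act_mem m.2 hm (omp_lt _ (app_lt hs _)),
      C.act_inv_act (O.H₀_le m.2) (omp_lt _ (app_lt hs _))]
  obtain ⟨hp, hpe⟩ := (C.scale j hj).pre_spec hn
  set x := (C.scale j hj).pre n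
  rw [← hpe, ← (C.scale j hj).act_spec hu hp]
  show omp j (C.cv _) = app sigN (omp j (C.cv x))
  rw [C.act_spec hu hp, hold _ (C.lt x)]
  have hsw : ∀ j < 3, ∀ v < 256, omp j (omp j (app sigN v)) = app sigN (omp j v) := by decide +kernel
  exact hsw j hj _ (C.lt x)

/-- The plane is preserved by the whole centraliser. -/
theorem act_plane {K : Kind} (C : O.Chart K) (hK : K ∈ [Kind.redA, Kind.redH]) {h : G} (hh : h ∈ CC O.z)
    (hfix : ∀ (w : List ℕ) (u : ℕ), u < 256 → u % 64 = 0 → app (K.mat w) u = u) {p : ℕ} (hp : p < 256)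
    (hp0 : p % 64 = 0) : C.act h p % 64 = 0 := by
  refine (plane_iff K hK _ (C.act_lt h p)).1 fun i _ => ?_
  obtain ⟨m, hm⟩ := O.surj (el [i])
  have hi := inv_mem hh
  obtain ⟨w', hw'⟩ := exists_word (O.π ⟨h⁻¹ * m * h⁻¹⁻¹, O.norm₀ _ hi m m.2⟩)
  rw [← C.act_conj hh (m := ⟨h⁻¹ * m * h⁻¹⁻¹, O.norm₀ _ hi m m.2⟩) hw'.symm (w' := [i]) ?_ hp,
    hfix w' p hp hp0]
  rw [← hm]; congr 1; ext; push_cast; group

/-- An element of order five commuting with an outer element. -/
theorem exists_commuting {K : Kind} (C : O.Chart K) {five : List ℕ}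
    (h5 : el (five ++ five ++ five ++ five ++ five) = 1) {h : G} (hh : h ∈ CC O.z) (ho : h ∉ O.H₀)
    (hc : ∀ n < 256, C.act h (app (K.mat five) n) = app (K.mat five) (C.act h n)) :
    ∃ v : ↥O.H₀, O.π v = el five ∧ v ^ 5 = 1 ∧ ∃ u ∈ CC O.z, u ∉ O.H₀ ∧ u * v = (v : G) * u ∧
      ∀ n < 256, C.act u n = C.act h n := by
  obtain ⟨m, hm⟩ := O.surj (el five)
  have hm5 : O.π m ^ 5 = 1 := by
    rw [hm, pow_succ, pow_succ, pow_succ, pow_succ, pow_one, ← el_append, ← el_append, ← el_append, ← el_append]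
    exact h5
  have hJ5 : ((m ^ 5 : ↥O.H₀) : G) ∈ O.J := (O.ker _).1 (by rw [map_pow, hm5])
  have h512 : ((m ^ 5 : ↥O.H₀) : G) ^ 512 = 1 := by
    have := congrArg Subtype.val (pow_card_eq_one' (x := (⟨_, hJ5⟩ : ↥O.J)))
    rw [O.card_J] at this
    exact this
  have hv5 : (m ^ 1536) ^ 5 = 1 := by
    apply Subtype.ext
    rw [← pow_mul, show 1536 * 5 = 5 * 512 * 3 from rfl, pow_mul, pow_mul]
    push_cast
    rw [Subgroup.coe_pow] at h512
    rw [h512, one_pow]
  have hπv : O.π (m ^ 1536) = el five := by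
    rw [map_pow, show 1536 = 5 * 307 + 1 from rfl, pow_succ, pow_mul, hm5, one_pow, one_mul, hm]
  set v := m ^ 1536
  have hconj : O.π ⟨h * v * h⁻¹, O.norm₀ h hh v v.2⟩ = el five := by
    obtain ⟨w', hw'⟩ := exists_word (O.π ⟨h * v * h⁻¹, O.norm₀ h hh v v.2⟩)
    rw [← hw']
    refine C.el_eq_of_app fun n hn => ?_
    conv_lhs => rw [← C.act_act_inv hh hn]
    rw [← C.act_conj hh hπv hw'.symm (C.act_lt _ _), hc _ (C.act_lt _ _), C.act_act_inv hh hn]
  have hvh : (v : G) * h * (v : G)⁻¹ * h⁻¹ ∈ O.J := by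
    have := (O.ker (v * (⟨h * v * h⁻¹, O.norm₀ h hh v v.2⟩ : ↥O.H₀)⁻¹)).1 (by
      rw [map_mul, map_inv, hconj, hπv, mul_inv_cancel])
    simpa [mul_assoc] using this
  have hvC := O.H₀_le v.2
  let X := {y : G // y * h⁻¹ ∈ O.J}
  haveI : Fintype X := Fintype.ofFinite X
  have hmv : ∀ y : X, (v : G) * y.1 * (v : G)⁻¹ * h⁻¹ ∈ O.J := fun y => by
    rw [show (v : G) * y.1 * (v : G)⁻¹ * h⁻¹ =
      ((v : G) * (y.1 * h⁻¹) * (v : G)⁻¹) * ((v : G) * h * (v : G)⁻¹ * h⁻¹) by group]
    exact mul_mem (O.norm hvC y.2) hvh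
  let f : X → X := fun y => ⟨(v : G) * y.1 * (v : G)⁻¹, hmv y⟩
  have hiter : ∀ (n : ℕ) (y : X), ((f^[n]) y).1 = (v : G) ^ n * y.1 * ((v : G) ^ n)⁻¹ := by
    intro n
    induction n with
    | zero => intro y; simp
    | succ n ih =>
      intro y
      rw [Function.iterate_succ', Function.comp_apply]
      show (v : G) * _ * (v : G)⁻¹ = _
      rw [ih, pow_succ']; group
  have hf5 : f^[5] = id := by
    funext y
    refine Subtype.ext ?_
    rw [hiter, show (v : G) ^ 5 = 1 from (by rw [← Subgroup.coe_pow, hv5]; rfl)]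
    simp
  let σ : Equiv.Perm X := ⟨f, f^[4], fun y => by
      rw [← Function.iterate_succ_apply, hf5]; rfl, fun y => by
      rw [← Function.iterate_succ_apply' f 4 y, hf5]; rfl⟩
  haveI : Fact (Nat.Prime 5) := ⟨by norm_num⟩
  have hcard : Fintype.card X = 512 := by
    rw [← O.card_J, ← Nat.card_eq_fintype_card]
    exact Nat.card_congr
      { toFun := fun y => ⟨y.1 * h⁻¹, y.2⟩
        invFun := fun x => ⟨x.1 * h, by simp [x.2]⟩
        left_inv := fun y => Subtype.ext (by simp)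
        right_inv := fun x => Subtype.ext (by simp) }
  obtain ⟨y, hy⟩ := Equiv.Perm.exists_fixed_point_of_prime (p := 5) (n := 1) (σ := σ) (by rw [hcard]; norm_num)
    (Equiv.ext fun y => by
      rw [pow_one, Equiv.Perm.coe_pow]
      exact congrFun hf5 y)
  have hyC : y.1 ∈ CC O.z := by
    have := mul_mem (O.J_le_CC y.2) hh
    simpa using this
  refine ⟨v, hπv, hv5, y.1, hyC, fun e => ho ?_, ?_, fun n hn => ?_⟩
  · have := O.H₀.mul_mem (inv_mem (O.J_le y.2)) e
    simpa [mul_assoc] using this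
  · have e : (v : G) * y.1 * (v : G)⁻¹ = y.1 := congrArg Subtype.val hy
    exact (mul_inv_eq_iff_eq_mul.1 e).symm
  · rw [show y.1 = y.1 * h⁻¹ * h by group, C.act_mul (O.J_le_CC y.2) hh hn,
      C.act_mem (w := []) (O.J_le y.2) (by rw [el_nil]; exact (O.ker _).2 y.2) (C.act_lt _ _),
      app_mat_nil _ (C.act_lt _ _)]

end Chart

end Outer

end Cfsg.Agent.Fus.U62Red
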