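import Cfsg.Agent.Lib.Fus.U62Red.AutSetup
import Mathlib.GroupTheory.Transfer
import Mathlib.GroupTheory.PGroup

/-!
Recognition of `U₆(2)`, the reduction for a centraliser with a larger quotient: the transfer of the parity of
an element of the centraliser of an involution, computed with a two-group commuting with it.
-/

set_option autoImplicit false
set_option linter.unusedSectionVars false

namespace Cfsg.Agent.Fus.U62Red

open Cfsg.Agent.Fus.U62Rec (CC)
open MulAction

variable {G : Type*} [Group G]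

/-- A product of elements of a group of order two. -/
theorem prod_two {ι : Type*} [Fintype ι] (f : ι → Multiplicative (ZMod 2))
    [DecidablePred fun o => f o ≠ 1] :
    ∏ o, f o = Multiplicative.ofAdd (((Finset.univ.filter fun o => f o ≠ 1).card : ℕ) : ZMod 2) := by
  have hgen : ∀ a : Multiplicative (ZMod 2), a ≠ 1 → a = Multiplicative.ofAdd 1 := by decide
  rw [← Finset.prod_filter_ne_one, Finset.prod_congr rfl fun o ho => hgen (f o) (Finset.mem_filter.1 ho).2,
    Finset.prod_const, ← ofAdd_nsmul, nsmul_eq_mul, mul_one]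

/-- An orbit of a cyclic group seen from representatives. -/
theorem quot_mk_eq_iff (y : G) {H : Subgroup G} (a b : G) :
    (Quotient.mk (orbitRel (Subgroup.zpowers y) (G ⧸ H)) (a : G ⧸ H)) =
      Quotient.mk _ (b : G ⧸ H) ↔ ∃ i : ℤ, b⁻¹ * y ^ i * a ∈ H := by
  rw [Quotient.eq, orbitRel_apply]
  constructor
  · rintro ⟨⟨_, i, rfl⟩, h⟩
    refine ⟨-i, ?_⟩
    have h' : ((y ^ i * b : G) : G ⧸ H) = (a : G ⧸ H) := h
    have h'' := inv_mem (QuotientGroup.eq.1 h'.symm)
    rw [show b⁻¹ * y ^ (-i) * a = (a⁻¹ * (y ^ i * b))⁻¹ by group]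
    exact h''
  · rintro ⟨i, h⟩
    refine ⟨⟨y ^ (-i), Subgroup.zpow_mem_zpowers y (-i)⟩, ?_⟩
    show ((y ^ (-i) * b : G) : G ⧸ H) = (a : G ⧸ H)
    rw [QuotientGroup.eq, show (y ^ (-i) * b)⁻¹ * a = b⁻¹ * y ^ i * a by group]
    exact h

namespace Outer

variable (O : Outer G)

open _root_.Classical in
/-- The parity of an element of the centraliser. -/
noncomputable def chi : ↥(CC O.z) →* Multiplicative (ZMod 2) :=
  MonoidHom.mk' (fun h => Multiplicative.ofAdd (if (h : G) ∈ O.H₀ then 0 else 1)) fun a b => by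
    rw [← ofAdd_add]
    congr 1
    rw [Subgroup.coe_mul]
    by_cases ha : (a : G) ∈ O.H₀
    · by_cases hb : (b : G) ∈ O.H₀
      · rw [if_pos (mul_mem ha hb), if_pos ha, if_pos hb, add_zero]
      · have hab : (a : G) * b ∉ O.H₀ := fun e => hb (by simpa using O.H₀.mul_mem (inv_mem ha) e)
        rw [if_neg hab, if_pos ha, if_neg hb, zero_add]
    · by_cases hb : (b : G) ∈ O.H₀
      · have hab : (a : G) * b ∉ O.H₀ := fun e => ha (by simpa using O.H₀.mul_mem e (inv_mem hb))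
        rw [if_neg hab, if_neg ha, if_pos hb, add_zero]
      · rw [if_pos (O.two _ a.2 ha _ b.2 hb), if_neg ha, if_neg hb]
        decide

theorem chi_eq_one {h : G} (hh : h ∈ CC O.z) : O.chi ⟨h, hh⟩ = 1 ↔ h ∈ O.H₀ := by
  classical
  by_cases hm : h ∈ O.H₀
  · simp [chi, hm]
  · have h10 : Multiplicative.ofAdd (1 : ZMod 2) ≠ 1 := by decide
    simp [chi, hm, h10]

theorem chi_out {h : G} (hh : h ∈ CC O.z) (hm : h ∉ O.H₀) : O.chi ⟨h, hh⟩ = Multiplicative.ofAdd 1 := by
  classical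
  simp [chi, hm]

/-- The transfer of the parity. -/
noncomputable def V [Finite G] : G →* Multiplicative (ZMod 2) := O.chi.transfer

/-- A representative whose term in the transfer is not trivial. -/
def Bad (y g : G) : Prop :=
  (g⁻¹ * y * g ∈ CC O.z ∧ g⁻¹ * y * g ∉ O.H₀) ∨
    (g⁻¹ * y * g ∉ CC O.z ∧ g⁻¹ * (y * y) * g ∈ CC O.z ∧ g⁻¹ * (y * y) * g ∉ O.H₀)

theorem mem_CC_conj {h x : G} (hh : h ∈ CC O.z) : h⁻¹ * x * h ∈ CC O.z ↔ x ∈ CC O.z := by
  constructor
  · intro e
    have := mul_mem (mul_mem hh e) (inv_mem hh)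
    rwa [show h * (h⁻¹ * x * h) * h⁻¹ = x by group] at this
  · exact fun e => mul_mem (mul_mem (inv_mem hh) e) hh

theorem mem_H₀_conj {h x : G} (hh : h ∈ CC O.z) : h⁻¹ * x * h ∈ O.H₀ ↔ x ∈ O.H₀ := by
  constructor
  · intro e
    have := O.norm₀ h hh _ e
    rwa [show h * (h⁻¹ * x * h) * h⁻¹ = x by group] at this
  · intro e
    have := O.norm₀ h⁻¹ (inv_mem hh) _ e
    rwa [inv_inv] at this

theorem bad_congr {y c g g' : G} (hc : c * y = y * c) (h : g'⁻¹ * c * g ∈ CC O.z) :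
    O.Bad y g' ↔ O.Bad y g := by
  have hc2 : c * (y * y) = y * y * c := by rw [← mul_assoc, hc, mul_assoc, hc, mul_assoc]
  have e : ∀ x : G, c * x = x * c →
      g⁻¹ * x * g = (g'⁻¹ * c * g)⁻¹ * (g'⁻¹ * x * g') * (g'⁻¹ * c * g) := by
    intro x hx
    calc g⁻¹ * x * g = g⁻¹ * (c⁻¹ * (c * x)) * g := by group
      _ = g⁻¹ * (c⁻¹ * (x * c)) * g := by rw [hx]
      _ = _ := by group
  rw [Bad, Bad, e y hc, e _ hc2, O.mem_CC_conj h, O.mem_CC_conj h, O.mem_H₀_conj h, O.mem_H₀_conj h]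

variable [Finite G]

/-- The transfer of an element with a commuting two-group whose fixed orbits contribute nothing. -/
theorem V_eq {y : G} (hy : y ∈ CC O.z) (hy2 : y * y = 1 ∨ y * y = O.z)
    (P : Subgroup G) (hP : IsPGroup 2 ↥P) (hPle : P ≤ CC O.z) (hPy : ∀ p ∈ P, p * y = y * p)
    (hfix : ∀ g : G, g * O.z * g⁻¹ ≠ O.z → g⁻¹ * y * g ∈ CC O.z → (∀ p ∈ P, g⁻¹ * p * g ∈ CC O.z) →
      g⁻¹ * y * g ∈ O.H₀)
    (hpair : y * y = O.z → ∀ g : G, g⁻¹ * O.z * g ∈ CC O.z → g⁻¹ * y * g ∉ CC O.z →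
      (∀ p ∈ P, g⁻¹ * p * g ∈ CC O.z ∨ g⁻¹ * (y⁻¹ * p) * g ∈ CC O.z) → g⁻¹ * O.z * g ∈ O.H₀) :
    O.V y = O.chi ⟨y, hy⟩ := by
  classical
  have hzz := O.ext.zz
  have hy4 : y * y * (y * y) = 1 := by rcases hy2 with e | e <;> rw [e] <;> simp [hzz]
  have hyn : y * y = y ^ 2 := (pow_two y).symm
  haveI : Fintype (Quotient (orbitRel (Subgroup.zpowers y) (G ⧸ CC O.z))) := Fintype.ofFinite _
  rw [V, MonoidHom.transfer_eq_prod_quotient_orbitRel_zpowers_quot, prod_two]
  -- the terms which are not trivial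
  have hterm : ∀ q : G ⧸ CC O.z, ∀ h : q.out⁻¹ * y ^ Function.minimalPeriod (y • ·) q * q.out ∈ CC O.z,
      O.chi ⟨_, h⟩ ≠ 1 ↔ O.Bad y q.out := by
    intro q h
    have hiff : ∀ x : G, x • q = q ↔ q.out⁻¹ * x * q.out ∈ CC O.z := fun x => by
      conv_lhs => rw [← QuotientGroup.out_eq' q]
      rw [MulAction.Quotient.smul_mk, QuotientGroup.eq, smul_eq_mul]
      constructor <;> intro h' <;> have := inv_mem h'
      · rwa [show (q.out⁻¹ * x * q.out) = ((x * q.out)⁻¹ * q.out)⁻¹ by group]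
      · rwa [show (x * q.out)⁻¹ * q.out = (q.out⁻¹ * x * q.out)⁻¹ by group]
    have hit : ∀ n : ℕ, Function.IsPeriodicPt (y • ·) n q ↔ q.out⁻¹ * y ^ n * q.out ∈ CC O.z := fun n => by
      rw [← hiff (y ^ n)]
      show (y • ·)^[n] q = q ↔ _
      rw [smul_iterate]
    rw [ne_eq, O.chi_eq_one h, Bad, hyn]
    set m := Function.minimalPeriod (y • ·) q with hm
    have h4 : m ∣ 4 := ((hit 4).2 (by
      rw [show y ^ 4 = y * y * (y * y) by simp [pow_succ, mul_assoc], hy4]
      simp)).minimalPeriod_dvd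
    have hmle : m ≤ 4 := Nat.le_of_dvd (by norm_num) h4
    have h1 : q.out⁻¹ * y * q.out ∈ CC O.z ↔ m = 1 := by
      have e := hit 1
      rw [pow_one] at e
      rw [← e, hm, Function.minimalPeriod_eq_one_iff_isFixedPt]
      exact Iff.rfl
    have h2 : q.out⁻¹ * y ^ 2 * q.out ∈ CC O.z ↔ m ∣ 2 := by
      rw [← hit 2, Function.isPeriodicPt_iff_minimalPeriod_dvd]
    rcases (show m = 1 ∨ m = 2 ∨ m = 4 by interval_cases m <;> omega) with e | e | e
    · rw [h1, h2]
      simp [e, pow_one]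
    · rw [h1, h2]
      simp [e]
    · rw [h1, h2]
      have h41 : q.out⁻¹ * y ^ m * q.out ∈ O.H₀ := by
        rw [e, show y ^ 4 = y * y * (y * y) by simp [pow_succ, mul_assoc], hy4]
        simp
      simp [e] at h41 ⊢
      exact h41
  -- the two-group acts on the orbits
  set S := {o : Quotient (orbitRel (Subgroup.zpowers y) (G ⧸ CC O.z)) // O.Bad y o.out.out} with hS
  have hcard : (Finset.univ.filter fun o : Quotient (orbitRel (Subgroup.zpowers y) (G ⧸ CC O.z)) =>
      O.chi ⟨o.out.out⁻¹ * y ^ Function.minimalPeriod (y • ·) o.out * o.out.out,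
        QuotientGroup.out_conj_pow_minimalPeriod_mem (CC O.z) y o.out⟩ ≠ 1).card = Nat.card S := by
    rw [Nat.card_eq_fintype_card, Fintype.card_subtype]
    congr 1
    exact Finset.filter_congr fun o _ => hterm _ _
  rw [hcard]
  have hcomm : ∀ p : ↥P, ∀ i : ℤ, y ^ i * (p : G) = (p : G) * y ^ i := fun p i =>
    (Commute.zpow_left (show Commute y (p : G) from (hPy p p.2).symm) i).eq
  let act : ↥P → Quotient (orbitRel (Subgroup.zpowers y) (G ⧸ CC O.z)) →
      Quotient (orbitRel (Subgroup.zpowers y) (G ⧸ CC O.z)) := fun p =>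
    Quotient.map' (fun q => (p : G) • q) fun a b hab => by
      obtain ⟨⟨_, i, rfl⟩, e⟩ := orbitRel_apply.1 hab
      refine orbitRel_apply.2 ⟨⟨y ^ i, Subgroup.zpow_mem_zpowers y i⟩, ?_⟩
      change y ^ i • b = a at e
      show y ^ i • ((p : G) • b) = (p : G) • a
      rw [← e, smul_smul, smul_smul, hcomm p i]
  have hact : ∀ (p : ↥P) (g : G), act p (Quotient.mk _ (g : G ⧸ CC O.z)) =
      Quotient.mk _ (((p : G) * g : G) : G ⧸ CC O.z) := fun p g => rfl
  have hbad : ∀ g : G, O.Bad y (Quotient.mk (orbitRel (Subgroup.zpowers y) (G ⧸ CC O.z))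
      (g : G ⧸ CC O.z)).out.out ↔ O.Bad y g := fun g => by
    set g' := (Quotient.mk (orbitRel (Subgroup.zpowers y) (G ⧸ CC O.z)) (g : G ⧸ CC O.z)).out.out with hg'
    have e : Quotient.mk (orbitRel (Subgroup.zpowers y) (G ⧸ CC O.z)) (g : G ⧸ CC O.z) =
        Quotient.mk _ (g' : G ⧸ CC O.z) := by
      rw [hg', QuotientGroup.out_eq', Quotient.out_eq]
    obtain ⟨i, hi⟩ := (quot_mk_eq_iff y _ _).1 e
    exact O.bad_congr (Commute.zpow_self y i).eq hi
  have hrep : ∀ o : Quotient (orbitRel (Subgroup.zpowers y) (G ⧸ CC O.z)),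
      o = Quotient.mk _ ((o.out.out : G) : G ⧸ CC O.z) := fun o => by
    rw [QuotientGroup.out_eq', Quotient.out_eq]
  have hkeep : ∀ (p : ↥P) (g : G), O.Bad y ((p : G) * g) ↔ O.Bad y g := fun p g =>
    O.bad_congr (hPy p p.2) (by
      rw [show ((p : G) * g)⁻¹ * (p : G) * g = 1 by group]; exact one_mem _)
  letI : MulAction ↥P S :=
    { smul := fun p o => ⟨act p o.1, by
        obtain ⟨o, ho⟩ := o
        have e : act p o = Quotient.mk _ (((p : G) * o.out.out : G) : G ⧸ CC O.z) :=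
          (congrArg (act p) (hrep o)).trans (hact p _)
        show O.Bad y (act p o).out.out
        rw [e, hbad, hkeep]
        exact ho⟩
      one_smul := fun ⟨o, _⟩ => by
        refine Subtype.ext ?_
        show act 1 o = o
        rw [hrep o, hact, Subgroup.coe_one, one_mul]
      mul_smul := fun a b ⟨o, _⟩ => by
        refine Subtype.ext ?_
        show act (a * b) o = act a (act b o)
        rw [hrep o, hact, hact, hact, Subgroup.coe_mul, mul_assoc] }
  haveI : Fact (Nat.Prime 2) := ⟨Nat.prime_two⟩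
  have hmod := hP.card_modEq_card_fixedPoints (α := S)
  -- only the base orbit is fixed
  have honly : ∀ o ∈ fixedPoints ↥P S, o.1 = Quotient.mk _ ((1 : G) : G ⧸ CC O.z) := by
    rintro ⟨o, ho⟩ hfo
    show o = _
    set g := o.out.out with hg
    have hstab : ∀ p ∈ P, ∃ i : ℤ, g⁻¹ * y ^ i * (p * g) ∈ CC O.z := fun p hp => by
      have e : act ⟨p, hp⟩ o = o := congrArg Subtype.val (hfo ⟨p, hp⟩)
      rw [hrep o, hact] at e
      exact (quot_mk_eq_iff y _ _).1 e
    have hcz : ∀ (x : G) (i : ℤ), (g⁻¹ * x * g) ^ i = g⁻¹ * x ^ i * g := fun x i => by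
      have := conj_zpow (i := i) (a := g⁻¹) (b := x)
      rwa [inv_inv] at this
    have hbase : g * O.z * g⁻¹ = O.z → o = Quotient.mk _ ((1 : G) : G ⧸ CC O.z) := fun e => by
      rw [hrep o]
      exact (quot_mk_eq_iff y _ _).2 ⟨0, by
        simpa using Subgroup.mem_centralizer_singleton_iff.2 (mul_inv_eq_iff_eq_mul.1 e)⟩
    rcases ho with ⟨hb1, hb2⟩ | ⟨hb1, hb2, hb3⟩
    · by_contra hne
      refine hb2 (hfix g (fun e => hne (hbase e)) hb1 fun p hp => ?_)
      obtain ⟨i, hi⟩ := hstab p hp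
      have hyi : g⁻¹ * y ^ i * g ∈ CC O.z := by
        have := Subgroup.zpow_mem _ hb1 i
        rwa [hcz] at this
      have := mul_mem (inv_mem hyi) hi
      rwa [show (g⁻¹ * y ^ i * g)⁻¹ * (g⁻¹ * y ^ i * (p * g)) = g⁻¹ * p * g by group] at this
    · rcases hy2 with e | e
      · exact absurd (by rw [e]; simp) hb3
      rw [e] at hb2 hb3
      refine absurd (hpair e g hb2 hb1 fun p hp => ?_) hb3
      obtain ⟨i, hi⟩ := hstab p hp
      obtain ⟨k, hk⟩ := Int.even_or_odd' i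
      have hzk : g⁻¹ * y ^ (2 * k) * g ∈ CC O.z := by
        have := Subgroup.zpow_mem _ hb2 k
        rw [hcz] at this
        rwa [zpow_mul, zpow_two, e]
      rcases hk with rfl | rfl
      · left
        have := mul_mem (inv_mem hzk) hi
        rwa [show (g⁻¹ * y ^ (2 * k) * g)⁻¹ * (g⁻¹ * y ^ (2 * k) * (p * g)) = g⁻¹ * p * g by group] at this
      · right
        have := mul_mem (inv_mem hzk) hi
        rw [show (g⁻¹ * y ^ (2 * k) * g)⁻¹ * (g⁻¹ * y ^ (2 * k + 1) * (p * g)) = g⁻¹ * (y * p) * g by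
          group] at this
        have := mul_mem (inv_mem hb2) this
        rwa [show (g⁻¹ * O.z * g)⁻¹ * (g⁻¹ * (y * p) * g) = g⁻¹ * (y⁻¹ * p) * g by
          rw [← e]; group] at this
  by_cases hyH : y ∈ O.H₀
  · rw [(O.chi_eq_one hy).2 hyH]
    have h0 : Nat.card (fixedPoints ↥P S) = 0 := by
      haveI : IsEmpty ↥(fixedPoints ↥P S) := ⟨fun ⟨o, ho⟩ => by
        have hb := o.2
        rw [honly o ho, hbad] at hb
        rcases hb with ⟨-, h⟩ | ⟨h, -⟩
        · exact h (by simpa using hyH)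
        · exact h (by simpa using hy)⟩
      exact Nat.card_of_isEmpty
    rw [h0] at hmod
    rw [(ZMod.natCast_eq_natCast_iff' _ _ _).2 hmod, Nat.cast_zero, ofAdd_zero]
  · rw [O.chi_out hy hyH]
    have hb1 : O.Bad y (Quotient.mk (orbitRel (Subgroup.zpowers y) (G ⧸ CC O.z))
        ((1 : G) : G ⧸ CC O.z)).out.out := (hbad 1).2 (Or.inl ⟨by simpa using hy, by simpa using hyH⟩)
    have hfb : (⟨_, hb1⟩ : S) ∈ fixedPoints ↥P S := fun p => Subtype.ext (by
      show act p (Quotient.mk _ ((1 : G) : G ⧸ CC O.z)) = _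
      rw [hact]
      exact (quot_mk_eq_iff y _ _).2 ⟨0, by simpa using hPle p.2⟩)
    have h1 : Nat.card (fixedPoints ↥P S) = 1 := by
      rw [Nat.card_eq_one_iff_unique]
      exact ⟨⟨fun a b => Subtype.ext (Subtype.ext ((honly a.1 a.2).trans (honly b.1 b.2).symm))⟩, ⟨⟨_, hfb⟩⟩⟩
    rw [h1] at hmod
    rw [(ZMod.natCast_eq_natCast_iff' _ _ _).2 hmod, Nat.cast_one]

end Outer

end Cfsg.Agent.Fus.U62Red
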