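import Cfsg.Agent.Lib.Fus.U62Red.Frame
import Cfsg.Agent.Lib.Fus.U62Red.FactsAct

/-!
Recognition of `U₆(2)`, the reduction: calculating with coordinates.
-/

set_option autoImplicit false

namespace Cfsg.Agent.Fus.U62Red

open Cfsg.Agent.Fus.U62Rec (Q4 CC)
open Cfsg.Agent.Invol.ExtraEight (app app_lt)

variable {G : Type*} [Group G]

namespace Frame

variable {F : Frame G}

/-- A lift can be corrected by the extraspecial group to centralise an element it fixes modulo the centre. -/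
theorem exists_comm_lift (F : Frame G) {x : G} (hx : x ∈ F.J) {u : ↥(CC F.z)}
    (h : (u : G) * x * (u : G)⁻¹ = x ∨ (u : G) * x * (u : G)⁻¹ = x * F.z) (hx1 : x ≠ 1) (hxz : x ≠ F.z) :
    ∃ u' : ↥(CC F.z), F.π u' = F.π u ∧ (u' : G) * x = x * u' := by
  rcases h with h | h
  · exact ⟨u, rfl, mul_inv_eq_iff_eq_mul.1 h⟩
  obtain ⟨j, hj, hjx⟩ : ∃ j ∈ F.J, j * x ≠ x * j := by
    by_contra hcon
    simp only [not_exists, not_and, not_not] at hcon
    exact (F.ext.cen x hx hcon).elim hx1 hxz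
  have hc := ((F.ext.conj_cases hx hj).resolve_left hjx).2
  refine ⟨⟨j, F.J_le hj⟩ * u, by rw [map_mul, (F.ker ⟨j, F.J_le hj⟩).2 hj, one_mul], mul_inv_eq_iff_eq_mul.1 ?_⟩
  show j * (u : G) * x * (j * (u : G))⁻¹ = x
  calc j * (u : G) * x * (j * (u : G))⁻¹ = j * ((u : G) * x * (u : G)⁻¹) * j⁻¹ := by group
    _ = j * x * (F.z * j⁻¹) := by rw [h]; group
    _ = j * x * j⁻¹ * F.z := by rw [← F.ext.central j⁻¹ (inv_mem hj)]; group
    _ = x := by rw [hc, F.mul_z_z]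

/-- A power of odd order with the same image. -/
theorem exists_odd (F : Frame G) [Finite G] {u : ↥(CC F.z)} {n : ℕ} (hn : Odd n) (h : F.π u ^ n = 1) :
    ∃ i : ℕ, Odd (orderOf ((u ^ i : ↥(CC F.z)) : G)) ∧ F.π (u ^ i) = F.π u := by
  have ho : orderOf u ≠ 0 := (orderOf_pos u).ne'
  obtain ⟨e, m, hm, he⟩ := Nat.exists_eq_two_pow_mul_odd ho
  have hco : (2 ^ e).Coprime (orderOf (F.π u)) := by
    refine Nat.Coprime.pow_left _ (Nat.coprime_two_left.2 ?_)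
    exact hn.of_dvd_nat (orderOf_dvd_of_pow_eq_one h)
  obtain ⟨i, hi⟩ := exists_pow_eq_self_of_coprime (n := 2 ^ e) (x := F.π u) hco
  refine ⟨2 ^ e * i, ?_, by rw [map_pow, pow_mul]; exact hi⟩
  rw [Subgroup.orderOf_coe, pow_mul]
  have h1 : orderOf (u ^ 2 ^ e) = m := by
    rw [orderOf_pow, he, Nat.gcd_mul_right_left, Nat.mul_div_cancel_left _ (Nat.two_pow_pos e)]
  exact (h1 ▸ hm).of_dvd_nat (orderOf_pow_dvd i)

namespace Chart

variable {K : Kind} (C : F.Chart K)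

theorem cv_one : C.cv 1 = 0 := (C.zero_iff 1 (one_mem _)).2 (Or.inl rfl)

theorem cv_z : C.cv F.z = 0 := (C.zero_iff _ F.ext.mem).2 (Or.inr rfl)

theorem cv_inv {x : G} (hx : x ∈ F.J) : C.cv x⁻¹ = C.cv x := by
  have h := C.cv_mul x⁻¹ (inv_mem hx) x hx
  rw [inv_mul_cancel, C.cv_one] at h
  exact Nat.xor_eq_zero_iff.1 h.symm

theorem cv_mul_z {x : G} (hx : x ∈ F.J) : C.cv (x * F.z) = C.cv x := by
  rw [C.cv_mul x hx _ F.ext.mem, C.cv_z, Nat.xor_zero]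

theorem cv_eq_iff {x y : G} (hx : x ∈ F.J) (hy : y ∈ F.J) : C.cv x = C.cv y ↔ x = y ∨ x = y * F.z := by
  constructor
  · intro h
    have h0 : C.cv (y⁻¹ * x) = 0 := by rw [C.cv_mul _ (inv_mem hy) x hx, C.cv_inv hy, h, Nat.xor_self]
    rcases (C.zero_iff _ (mul_mem (inv_mem hy) hx)).1 h0 with e | e
    · exact Or.inl (inv_mul_eq_one.1 e).symm
    · exact Or.inr (by rw [← e]; group)
  · rintro (rfl | rfl)
    · rfl
    · exact C.cv_mul_z hy

theorem sq_one {x : G} (hx : x ∈ F.J) (h : K.q (C.cv x) = false) : x * x = 1 :=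
  (F.ext.sq x hx).resolve_right fun e => by rw [(C.q x hx).2 e] at h; exact Bool.noConfusion h

theorem q_false {x : G} (hx : x ∈ F.J) (h : x * x = 1) : K.q (C.cv x) = false :=
  Bool.eq_false_iff.2 fun e => F.ext.ne (by rw [← (C.q x hx).1 e, h])

theorem bq_iff {x y : G} (hx : x ∈ F.J) (hy : y ∈ F.J) : K.bq (C.cv x) (C.cv y) = true ↔ x * y ≠ y * x := by
  rw [← F.polar_cls hx hy]
  have key : ∀ w ∈ F.J, K.q (C.cv w) = F.qv (F.cls w) := fun w hw => by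
    rw [Bool.eq_iff_iff, C.q w hw, F.qv_cls hw]
  rw [Kind.bq, ← C.cv_mul x hx y hy, key _ (mul_mem hx hy), key x hx, key y hy, polar, ← F.cls_mul hx hy]

theorem bq_false_iff {x y : G} (hx : x ∈ F.J) (hy : y ∈ F.J) : K.bq (C.cv x) (C.cv y) = false ↔ x * y = y * x := by
  rw [← not_iff_not, Bool.not_eq_false]; exact C.bq_iff hx hy

theorem bq_comm {a b : ℕ} : K.bq a b = K.bq b a := by
  rw [Kind.bq, Kind.bq, Nat.xor_comm a b]
  cases K.q (b ^^^ a) <;> cases K.q a <;> cases K.q b <;> rfl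

include C in
theorem bq_add {a b c : ℕ} (ha : a < 256) (hb : b < 256) (hc : c < 256) :
    K.bq (a ^^^ b) c = (K.bq a c ^^ K.bq b c) := by
  obtain ⟨x, hx, rfl⟩ := C.surj a ha
  obtain ⟨y, hy, rfl⟩ := C.surj b hb
  obtain ⟨w, hw, rfl⟩ := C.surj c hc
  have key : ∀ u ∈ F.J, ∀ v ∈ F.J, K.bq (C.cv u) (C.cv v) = polar F.qv (F.cls u) (F.cls v) := fun u hu v hv => by
    rw [Bool.eq_iff_iff, C.bq_iff hu hv, F.polar_cls hu hv]
  rw [← C.cv_mul x hx y hy, key _ (mul_mem hx hy) _ hw, key x hx w hw, key y hy w hw, F.cls_mul hx hy, F.polar_add]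

include C in
theorem bq_mat (w : List ℕ) {a b : ℕ} (ha : a < 256) (hb : b < 256) :
    K.bq (app (K.mat w) a) (app (K.mat w) b) = K.bq a b := by
  rw [Kind.bq, Kind.bq, ← Cfsg.Agent.Invol.ExtraEight.app_xor, mat_q K w ha, mat_q K w hb,
    mat_q K w (Nat.xor_lt_two_pow (n := 8) ha hb)]

theorem one_ne_of_cv {x : G} (hx : x ∈ F.J) (h : C.cv x ≠ 0) : x ≠ 1 ∧ x ≠ F.z :=
  ⟨fun e => h ((C.zero_iff x hx).2 (Or.inl e)), fun e => h ((C.zero_iff x hx).2 (Or.inr e))⟩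

/-- A fixed class has a centralising lift. -/
theorem exists_fix_lift {x : G} (hx : x ∈ F.J) (hx1 : x ≠ 1) (hxz : x ≠ F.z) {w : List ℕ}
    (h : app (K.mat w) (C.cv x) = C.cv x) :
    ∃ u : ↥(CC F.z), F.π u = el w ∧ (u : G) * x = x * u := by
  obtain ⟨u, hu⟩ := F.surj (el w)
  have hc := C.conj w u hu x hx
  rw [h] at hc
  obtain ⟨u', hu', hc'⟩ := F.exists_comm_lift hx ((C.cv_eq_iff (F.norm u.2 hx) hx).1 hc) hx1 hxz
  exact ⟨u', hu'.trans hu, hc'⟩

end Chart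

end Frame

end Cfsg.Agent.Fus.U62Red
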