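import Cfsg.Agent.Lib.Fus.U62Red.Outside

/-!
Recognition of `U₆(2)`, the reduction: which lifts of the two involutions are conjugate to `z`.
-/

set_option autoImplicit false
set_option linter.unusedSectionVars false

namespace Cfsg.Agent.Fus.U62Red

open Cfsg.Agent.Fus.U62Rec (Q4 CC)
open Cfsg.Agent.Invol.ExtraEight (app app_lt app_xor)

theorem kind_mem (K : Kind) : K ∈ [Kind.nat, Kind.redA, Kind.redH] := by cases K <;> simp

theorem el_commute_of_wd {a b : List ℕ} (h : wd mn (a ++ b) = wd mn (b ++ a)) : el a * el b = el b * el a := by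
  rw [← el_append, ← el_append]; exact el_eq_iff.2 h

variable {G : Type*} [Group G] [Finite G]

namespace Frame

namespace Out

variable {F : Frame G} {K : Kind} (o : F.Out K)

/-- All of the fixed space commutes with the conjugate. -/
def AllComm : Prop := ∀ x ∈ F.J, app (K.mat o.wt) (o.C.cv x) = o.C.cv x → x * o.s = o.s * x

theorem exists_noncomm (h : ¬ o.AllComm) :
    ∃ x ∈ F.J, app (K.mat o.wt) (o.C.cv x) = o.C.cv x ∧ x * o.s ≠ o.s * x := by
  simpa [AllComm] using h

theorem I_im_of_all (h : o.AllComm) {x : G} (hx : x ∈ o.toPair.I) : o.C.cv x ∈ imL K o.wt := by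
  by_contra hu
  refine hu (o.perp_of (o.I_fixL hx) fun c hc => ?_)
  obtain ⟨hc256, hcf⟩ := o.mem_fixL.1 hc
  obtain ⟨y, hy, rfl⟩ := o.C.surj c hc256
  exact (o.fun_eq hx hu hy hcf).1 (h y hy hcf)

theorem I_ne_bot (h : o.AllComm) (h64 : (fixL K o.wt).length = 64) : ∃ x ∈ o.toPair.I, x ≠ 1 := by
  by_contra hcon
  simp only [not_exists, not_and, not_not] at hcon
  have hI : o.toPair.I = ⊥ := (Subgroup.eq_bot_iff_forall _).2 hcon
  refine o.toPair.no_sylow ?_ hI
  have := o.card_CJ_ge.2 h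
  omega

theorem outT (hw : o.wt = wT) : (o.AllComm ∧ ¬ IsConj F.z (o.s * F.z)) ∨
    (K = .redH ∧ ∃ x ∈ o.toPair.I, o.C.cv x = 64 ∨ o.C.cv x = 128) := by
  have h64 : (fixL K o.wt).length = 64 := by rw [hw]; exact (fix_cards K (kind_mem K)).1
  by_cases hall : o.AllComm
  · left
    refine ⟨hall, fun hc => ?_⟩
    obtain ⟨x, hx, hx1⟩ := o.I_ne_bot hall h64
    exact hx1 (o.I_avoids hc hx (o.I_im_of_all hall hx))
  right
  have hex := o.exists_noncomm hall
  have hc := o.closed hex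
  by_cases hI : o.toPair.I = ⊥
  · exfalso
    refine o.toPair.no_sylow ?_ hI
    have := o.card_CJ_ge.1
    omega
  obtain ⟨x, hx, hx1⟩ : ∃ x ∈ o.toPair.I, x ≠ 1 := by
    by_contra hcon
    simp only [not_exists, not_and, not_not] at hcon
    exact hI ((Subgroup.eq_bot_iff_forall _).2 hcon)
  have hu : o.C.cv x ∉ imL K o.wt := fun h => hx1 (o.I_avoids hc hx h)
  have hchk := List.all_eq_true.1 (moveT_check K (kind_mem K)) (o.C.cv x) (by rw [← hw]; exact o.I_fixL hx)
  simp only [Bool.or_eq_true, List.contains_iff_mem, List.any_eq_true, Bool.and_eq_true, beq_iff_eq,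
    bne_iff_ne, Bool.not_eq_true'] at hchk
  rcases hchk with ((h | h) | h) | ⟨w, hwm, hne, him⟩
  · exact absurd (hw ▸ h) hu
  · rw [o.C.q_false hx.1 (o.toPair.I_sq hx)] at h; exact Bool.noConfusion h
  · refine ⟨?_, x, hx, h.2⟩
    cases K
    · exact absurd h.1.1 (by decide)
    · exact absurd h.1.2 (by decide +kernel)
    · rfl
  exfalso
  rw [← hw] at him
  have hcomm : el w * el o.wt = el o.wt * el w := by
    rw [hw]; exact el_commute_of_wd (moveT_comm w hwm)
  -- the word fixes the function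
  obtain ⟨u, hu', huc⟩ := o.exists_lift hcomm (fun y hy y' hy' hf he => by
    have hfix' : app (K.mat o.wt) (o.C.cv y') = o.C.cv y' := by
      obtain ⟨v, hv⟩ := F.surj (el (o.wt ++ w))
      rw [he, ← app_mat_append K o.wt w (o.C.lt y), ← o.C.conj _ v hv y hy,
        o.C.conj (w ++ o.wt) v (by rw [hv, el_append, el_append, hcomm]) y hy, app_mat_append K w o.wt (o.C.lt y), hf]
    rw [o.fun_eq hx hu hy' hfix', o.fun_eq hx hu hy hf, he]
    have e : K.bq (app (K.mat w) (o.C.cv x)) (app (K.mat w) (o.C.cv y)) = K.bq (o.C.cv x) (o.C.cv y) :=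
      o.C.bq_mat w (o.C.lt x) (o.C.lt y)
    have e2 := o.C.bq_add (app_mat_lt K w (o.C.cv x)) (o.C.lt x) (app_mat_lt K w (o.C.cv y))
    rw [e] at e2
    have e3 : K.bq (app (K.mat w) (o.C.cv x) ^^^ o.C.cv x) (app (K.mat w) (o.C.cv y)) = false :=
      o.im_perp him (o.mem_fixL.2 ⟨app_mat_lt K w _, by rw [← he]; exact hfix'⟩)
    rw [e3] at e2
    revert e2
    cases K.bq (o.C.cv x) (o.C.cv y) <;> cases K.bq (o.C.cv x) (app (K.mat w) (o.C.cv y)) <;> simp) (Or.inl hex)
  have hconj := o.toPair.conj_I u.2 huc hx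
  have hd : (u : G) * x * (u : G)⁻¹ * x ∈ o.toPair.I := mul_mem hconj hx
  have hcv : o.C.cv ((u : G) * x * (u : G)⁻¹ * x) = app (K.mat w) (o.C.cv x) ^^^ o.C.cv x := by
    rw [o.C.cv_mul _ hconj.1 x hx.1, o.C.conj w u hu' x hx.1]
  have h1 := o.I_avoids hc hd (hcv ▸ him)
  rw [h1, o.C.cv_one] at hcv
  exact hne (Nat.xor_eq_zero_iff.1 hcv.symm)

theorem cv_prod {x y : G} (hx : x ∈ F.J) (hy : y ∈ F.J) : o.C.cv (x * y) = o.C.cv x ^^^ o.C.cv y :=
  o.C.cv_mul x hx y hy

/-- Two elements of the common part over commutator vectors that are orthogonal in the twisted sense. -/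
theorem no_orth_pair {x y : G} (hx : x ∈ o.toPair.I) (hy : y ∈ o.toPair.I) (hx1 : x ≠ 1) (hy1 : y ≠ 1)
    (hne : x ≠ y) {j k : G} (hj : j ∈ F.J) (hk : k ∈ F.J) (ex : x = o.cm j ∨ x = o.cm j * F.z)
    (ey : y = o.cm k ∨ y = o.cm k * F.z) (horth : j * o.cm k = o.cm k * j) : False := by
  rcases ex with ex | ex
  · exact hx1 (o.key hx (by rw [ex, o.s_mul_cm]; exact o.isConj_conj j))
  rcases ey with ey | ey
  · exact hy1 (o.key hy (by rw [ey, o.s_mul_cm]; exact o.isConj_conj k))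
  have hxy : x * y = o.cm (j * k) := by
    have hzk : F.z * o.cm k = o.cm k * F.z := (F.ext.central _ (o.cm_mem hk)).symm
    calc x * y = o.cm j * (F.z * o.cm k) * F.z := by rw [ex, ey]; group
      _ = o.cm j * o.cm k * F.z * F.z := by rw [hzk]; group
      _ = o.cm j * o.cm k := F.mul_z_z _
      _ = o.s * j * o.s * j⁻¹ * (j * o.cm k * j⁻¹) := by rw [horth, mul_inv_cancel_right]; rfl
      _ = o.cm (j * k) := by
        show o.s * j * o.s * j⁻¹ * (j * (o.s * k * o.s * k⁻¹) * j⁻¹) = o.s * (j * k) * o.s * (j * k)⁻¹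
        calc o.s * j * o.s * j⁻¹ * (j * (o.s * k * o.s * k⁻¹) * j⁻¹)
            = o.s * j * (o.s * o.s) * (k * o.s * k⁻¹ * j⁻¹) := by group
          _ = _ := by rw [o.toPair.s_sq]; group
  have h := o.key (mul_mem hx hy) (by rw [hxy, o.s_mul_cm]; exact o.isConj_conj _)
  refine hne ?_
  calc x = x * (y * y) := by rw [o.toPair.I_sq hy, mul_one]
    _ = y := by rw [← mul_assoc, h, one_mul]

theorem outP_red (hK : K = .redA ∨ K = .redH) (hw : o.wt = wP) : False := by
  have hKm : K ∈ [Kind.redA, Kind.redH] := by rcases hK with rfl | rfl <;> simp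
  obtain ⟨i, hi, hq⟩ := List.any_eq_true.1 (redP_nonsingular K hKm)
  rw [← hw] at hi
  obtain ⟨hi256, hif⟩ := o.mem_fixL.1 (o.im_fixed hi)
  obtain ⟨v, hv, rfl⟩ := o.C.surj i hi256
  have hvn : v * o.s ≠ o.s * v := by
    intro h
    obtain ⟨j, hj, e⟩ := o.exists_cm hv hi
    have hc : o.cm j * o.s = o.s * o.cm j := by
      rcases e with e | e
      · rwa [e] at h
      · rw [e] at h
        refine mul_right_cancel (b := F.z) ?_
        calc o.cm j * o.s * F.z = o.cm j * (o.s * F.z) := mul_assoc ..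
          _ = o.cm j * F.z * o.s := by rw [o.sz_comm, ← mul_assoc]
          _ = o.s * o.cm j * F.z := by rw [h, mul_assoc]
    have hsq : o.cm j * o.cm j = 1 := by
      calc o.cm j * o.cm j = o.cm j * o.s * (o.s * o.cm j) := by
            rw [mul_assoc (o.cm j), ← mul_assoc o.s, o.toPair.s_sq, one_mul]
        _ = o.s * o.cm j * (o.s * o.cm j) := by rw [hc]
        _ = j * (o.s * o.s) * j⁻¹ := by rw [o.s_mul_cm]; group
        _ = 1 := by rw [o.toPair.s_sq]; group
    have hcv : o.C.cv v = o.C.cv (o.cm j) := (o.C.cv_eq_iff hv (o.cm_mem hj)).2 e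
    rw [hcv, o.C.q_false (o.cm_mem hj) hsq] at hq
    exact Bool.noConfusion hq
  have hc := o.closed ⟨v, hv, hif, hvn⟩
  refine o.toPair.no_sylow ?_ ((Subgroup.eq_bot_iff_forall _).2 fun x hx => ?_)
  · have h := (fix_cards K (kind_mem K)).2
    rw [← hw] at h
    have h' := o.card_CJ_ge.1
    rcases hK with rfl | rfl <;> rw [if_neg (by decide)] at h <;> omega
  · by_contra hx1
    have hu : o.C.cv x ∉ imL K o.wt := fun h => hx1 (o.I_avoids hc hx h)
    have h1 : K.bq (o.C.cv x) (o.C.cv v) = false := by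
      rw [Chart.bq_comm]; exact o.im_perp hi (o.I_fixL hx)
    exact hvn ((o.fun_eq hx hu hv hif).2 h1)

theorem outP_nat {o : F.Out .nat} (hw : o.wt = wP) : False := by
  have h16 : (fixL .nat o.wt).length = 16 := by
    rw [hw]; exact ((fix_cards .nat (kind_mem _)).2).trans (if_pos rfl)
  have hsing : ∀ x ∈ F.J, app (Kind.nat.mat o.wt) (o.C.cv x) = o.C.cv x → x * x = 1 := fun x hx h => by
    have h' := List.all_eq_true.1 natP_singular _ (hw ▸ o.mem_fixL.2 ⟨o.C.lt x, h⟩)
    rw [Bool.not_eq_true'] at h'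
    exact o.C.sq_one hx h'
  have himall : ∀ x ∈ F.J, x * o.s = o.s * x → o.C.cv x ∈ imL .nat o.wt := fun x hx h => by
    refine o.perp_of (o.cv_fixL hx h) fun c hc => ?_
    obtain ⟨hc256, hcf⟩ := o.mem_fixL.1 hc
    obtain ⟨y, hy, rfl⟩ := o.C.surj c hc256
    refine (o.C.bq_false_iff hx hy).2 ?_
    have hxy : app (Kind.nat.mat o.wt) (o.C.cv (x * y)) = o.C.cv (x * y) := by
      rw [o.C.cv_mul x hx y hy, app_xor, o.fixed_of_comm hx h, hcf]
    have e1 := hsing x hx (o.fixed_of_comm hx h)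
    have e2 := hsing y hy hcf
    have e3 := hsing _ (mul_mem hx hy) hxy
    calc x * y = (x * y)⁻¹ := (inv_eq_of_mul_eq_one_right e3).symm
      _ = y * x := by rw [mul_inv_rev, inv_eq_of_mul_eq_one_right e1, inv_eq_of_mul_eq_one_right e2]
  have hall : o.AllComm := by
    intro x hx hf
    obtain ⟨j, hj, e⟩ := o.exists_cm hx (o.perp_of (o.mem_fixL.2 ⟨o.C.lt x, hf⟩) fun c hc => by
      obtain ⟨hc256, hcf⟩ := o.mem_fixL.1 hc
      obtain ⟨y, hy, rfl⟩ := o.C.surj c hc256
      have hxy : app (Kind.nat.mat o.wt) (o.C.cv (x * y)) = o.C.cv (x * y) := by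
        rw [o.C.cv_mul x hx y hy, app_xor, hf, hcf]
      refine (o.C.bq_false_iff hx hy).2 ?_
      calc x * y = (x * y)⁻¹ := (inv_eq_of_mul_eq_one_right (hsing _ (mul_mem hx hy) hxy)).symm
        _ = y * x := by
          rw [mul_inv_rev, inv_eq_of_mul_eq_one_right (hsing x hx hf), inv_eq_of_mul_eq_one_right (hsing y hy hcf)])
    have hxx := hsing x hx hf
    have hc : o.cm j * o.cm j = 1 := by
      rcases e with rfl | rfl
      · exact hxx
      · rwa [F.sq_mul_z (o.cm_mem hj)] at hxx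
    have hcs : o.cm j * o.s = o.s * o.cm j := by
      have h1 : (o.s * o.cm j) * (o.s * o.cm j) = 1 := by
        rw [o.s_mul_cm]
        calc j * o.s * j⁻¹ * (j * o.s * j⁻¹) = j * (o.s * o.s) * j⁻¹ := by group
          _ = 1 := by rw [o.toPair.s_sq]; group
      calc o.cm j * o.s = (o.cm j)⁻¹ * o.s⁻¹ := by rw [inv_eq_of_mul_eq_one_right hc, o.toPair.s_inv]
        _ = (o.s * o.cm j)⁻¹ := (mul_inv_rev _ _).symm
        _ = o.s * o.cm j := inv_eq_of_mul_eq_one_right h1
    rcases e with rfl | rfl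
    · exact hcs
    · rw [mul_assoc, ← o.sz_comm, ← mul_assoc, hcs, mul_assoc]
  obtain ⟨x, hx, hx1⟩ : ∃ x ∈ o.toPair.I, x ≠ 1 := by
    by_contra hcon
    simp only [not_exists, not_and, not_not] at hcon
    have hI : o.toPair.I = ⊥ := (Subgroup.eq_bot_iff_forall _).2 hcon
    have h32 : 32 ≤ Nat.card ↥o.toPair.CJ := by have := o.card_CJ_ge.2 hall; omega
    obtain ⟨n, hn, e⟩ := o.toPair.range_dvd
    have hcard := o.toPair.card_CJ
    rw [hI, Subgroup.card_bot, mul_one] at hcard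
    have helem : ∀ a ∈ o.toPair.ψ.range, a * a = 1 := by
      rintro _ ⟨a, rfl⟩
      obtain ⟨ha, has⟩ := o.toPair.mem_CJ.1 a.2
      rw [← map_mul, show a * a = (1 : ↥o.toPair.CJ) from
        Subtype.ext (hsing _ ha (o.fixed_of_comm ha has)), map_one]
    have hn5 : n = 5 ∨ n = 6 := by
      have : 2 ^ 5 ≤ 2 ^ n := by norm_num; omega
      have := (Nat.pow_le_pow_iff_right (by norm_num : 1 < 2)).1 this
      omega
    rcases hn5 with rfl | rfl
    · exact no_elem32 (by rw [e]; norm_num) helem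
    · refine sylow_derived (P := o.toPair.ψ.range) (c := 1) (by rw [e]; norm_num) fun a ha b hb => Or.inl ?_
      have h' := helem _ (mul_mem ha hb)
      rw [inv_eq_of_mul_eq_one_right (helem a ha), inv_eq_of_mul_eq_one_right (helem b hb), mul_assoc]
      exact h'
  have him := himall x hx.1 (o.toPair.F'.ext.central x hx.2)
  have hnc : ¬ IsConj F.z (o.s * F.z) := fun hc => hx1 (o.I_avoids hc hx him)
  have hchk := List.all_eq_true.1 orthP_check (o.C.cv x) (hw ▸ him)
  simp only [Bool.or_eq_true, List.any_eq_true, Bool.and_eq_true, beq_iff_eq, bne_iff_ne, Bool.not_eq_true',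
    List.mem_range] at hchk
  rcases hchk with h | ⟨w, hwm, hne, n, hn, hnx, hnb⟩
  · exact o.I_cv_ne hx hx1 h
  have hcomm : el w * el o.wt = el o.wt * el w := by rw [hw]; exact el_commute_of_wd (orthP_comm w hwm)
  obtain ⟨u, hu, huc⟩ := o.exists_lift hcomm (fun y hy y' hy' hf he => by
    refine iff_of_true (hall y' hy' ?_) (hall y hy hf)
    obtain ⟨v, hv⟩ := F.surj (el (o.wt ++ w))
    rw [he, ← app_mat_append _ o.wt w (o.C.lt y), ← o.C.conj _ v hv y hy,
      o.C.conj (w ++ o.wt) v (by rw [hv, el_append, el_append, hcomm]) y hy, app_mat_append _ w o.wt (o.C.lt y), hf])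
    (Or.inr hnc)
  have hy := o.toPair.conj_I u.2 huc hx
  obtain ⟨j, hj, rfl⟩ := o.C.surj n hn
  rw [← hw, ← o.cv_cm hj] at hnx
  have hex : x = o.cm j ∨ x = o.cm j * F.z := (o.C.cv_eq_iff hx.1 (o.cm_mem hj)).1 hnx.symm
  obtain ⟨k, hk, hey⟩ := o.exists_cm hy.1 (himall _ hy.1 (o.toPair.F'.ext.central _ hy.2))
  have hcvy : o.C.cv (o.cm k) = app (Kind.nat.mat w) (o.C.cv x) := by
    rw [← o.C.conj w u hu x hx.1]; exact ((o.C.cv_eq_iff hy.1 (o.cm_mem hk)).2 hey).symm
  refine o.no_orth_pair hx hy hx1 (fun e => hx1 (conj_eq_one_iff.1 e)) (fun e => hne ?_) hj hk hex hey ?_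
  · rw [← o.C.conj w u hu x hx.1, ← e]
  · refine (o.C.bq_false_iff hj (o.cm_mem hk)).1 ?_
    rw [hcvy]; exact hnb

end Out

end Frame

end Cfsg.Agent.Fus.U62Red
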