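import Cfsg.Agent.Lib.Invol.ExtraEight.Linear

/-!
Recognition of `U₆(2)`, the reduction: the two modules of `U₄(2)` of dimension eight.

A vector is a number below 256, read as four digits over the field of four elements (2 stands for the cube
root of unity). The five generators are the diagonal elements of `(1, 2, 0, 0)` and `(0, 1, 2, 0)`, the
exchange of the first two coordinates, the coordinate shift, and an element of order three of `GU₃(2)`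
commuting with the exchanges of the first three coordinates. In the reducible module the first three digits
belong to the three partitions of the coordinates into pairs and the last one to the fixed plane.
-/

set_option autoImplicit false
set_option linter.style.longLine false

namespace Cfsg.Agent.Fus.U62Red

open Cfsg.Agent.Invol.ExtraEight (app idm mu)

/-- The generators on the natural module. -/
def mn : List (List ℕ) :=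
  [[2, 3, 12, 4, 16, 32, 64, 128], [1, 2, 8, 12, 48, 16, 64, 128], [4, 8, 1, 2, 16, 32, 64, 128],
    [4, 8, 16, 32, 64, 128, 1, 2], [41, 62, 38, 59, 26, 47, 192, 64]]

/-- The generators on the reducible module. -/
def mr : List (List ℕ) :=
  [[1, 2, 8, 12, 48, 16, 64, 128], [2, 3, 12, 4, 16, 32, 64, 128], [1, 2, 16, 32, 4, 8, 64, 128],
    [16, 32, 4, 12, 1, 3, 64, 128], [22, 43, 25, 46, 37, 58, 64, 128]]

/-- The matrix of a word. -/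
def wd (g : List (List ℕ)) : List ℕ → List ℕ
  | [] => idm
  | i :: w => mu (g.getD i idm) (wd g w)

/-- A digit is nonzero. -/
def nz (i v : ℕ) : Bool := !(v / 4 ^ i % 4 == 0)

/-- The three quadratic spaces: the natural one, and the reducible ones with anisotropic, resp. hyperbolic,
fixed plane. -/
inductive Kind
  | nat
  | redA
  | redH

/-- The generators of a kind. -/
def Kind.gens : Kind → List (List ℕ)
  | .nat => mn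
  | _ => mr

/-- The form of a kind. -/
def Kind.q : Kind → ℕ → Bool
  | .redH, v => (nz 0 v ^^ nz 1 v) ^^ (nz 2 v ^^ (v / 64 % 4 == 3))
  | _, v => (nz 0 v ^^ nz 1 v) ^^ (nz 2 v ^^ nz 3 v)

/-- The polar form of a kind. -/
def Kind.bq (K : Kind) (u v : ℕ) : Bool := K.q (u ^^^ v) ^^ K.q u ^^ K.q v

/-- The matrix of a word in a kind. -/
def Kind.mat (K : Kind) (w : List ℕ) : List ℕ := wd K.gens w

/-- One number for a matrix. -/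
def code (g : List ℕ) : ℕ := g.foldr (fun x r => x + 256 * r) 0

/-- The scalar cube root of unity. -/
def OM : List ℕ := [2, 3, 8, 12, 32, 48, 128, 192]

/-- The transvection. -/
def wT : List ℕ := [2]

/-- The other involution. -/
def wP : List ℕ := [2, 3, 3, 2, 3, 3]

/-- The exchange of the second and third coordinate. -/
def wX : List ℕ := [3, 2, 3, 3, 3]

/-- The diagonal element of `(0, 0, 1, 2)`. -/
def wE3 : List ℕ := [3, 1, 3, 3, 3]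

/-- The diagonal element of `(1, 1, 1, 0)`. -/
def wE : List ℕ := [0, 1, 1]

/-- The word of a vector of exponents on the three diagonal generators. -/
def ew (a b c : ℕ) : List ℕ :=
  List.replicate a 0 ++ List.replicate b 1 ++ (List.replicate c wE3).flatten

/-- Generators of a Sylow 2-subgroup centralising the transvection. -/
def sylGens : List (List ℕ) :=
  [[2], [0, 4, 2, 3, 0], [1, 4, 4, 3, 1, 1], [3, 3, 0, 2, 3, 3]]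

/-- The elements of this Sylow 2-subgroup. -/
def sylWords : List (List ℕ) :=
  [[], [2], [0, 0, 4, 3, 0], [0, 4, 2, 3, 0], [0, 4, 2, 0, 3, 4], [1, 1, 4, 3, 0, 4],
    [1, 4, 4, 3, 1, 1], [3, 3, 0, 2, 3, 3], [0, 0, 4, 3, 4, 3, 0], [0, 4, 2, 3, 4, 3, 0], [0, 4, 4, 3, 1, 1, 4], [1, 0, 4, 3, 0, 4, 4],
    [1, 1, 4, 3, 4, 3, 1], [1, 4, 3, 3, 1, 2, 3], [1, 4, 3, 3, 4, 1, 4], [2, 1, 4, 4, 3, 1, 1], [3, 0, 2, 3, 1, 4, 0], [4, 1, 4, 4, 3, 2, 1],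
    [0, 0, 4, 3, 4, 0, 3, 4], [0, 3, 2, 0, 3, 4, 2, 3], [0, 4, 2, 3, 4, 0, 3, 4], [0, 4, 4, 3, 1, 1, 4, 2], [1, 1, 4, 3, 4, 1, 4, 3], [1, 4, 3, 3, 0, 2, 3, 4],
    [1, 4, 4, 3, 0, 4, 0, 3], [1, 4, 4, 3, 4, 2, 0, 3], [2, 1, 1, 4, 3, 4, 3, 1], [2, 3, 0, 2, 3, 1, 4, 0], [3, 0, 0, 3, 3, 1, 4, 3], [3, 3, 1, 2, 3, 4, 1, 0],
    [3, 3, 1, 2, 3, 4, 2, 1], [3, 3, 3, 4, 0, 4, 0, 0], [3, 3, 3, 4, 0, 4, 2, 0], [3, 3, 3, 4, 3, 1, 1, 0], [3, 3, 3, 4, 3, 1, 2, 1], [4, 1, 4, 3, 3, 4, 0, 4],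
    [4, 3, 3, 3, 0, 3, 2, 0], [0, 3, 4, 1, 2, 3, 4, 3, 3], [0, 4, 4, 3, 4, 4, 3, 0, 0], [0, 4, 4, 3, 4, 4, 3, 2, 0], [1, 0, 4, 3, 4, 3, 4, 0, 3], [1, 1, 4, 3, 4, 0, 4, 3, 4],
    [1, 4, 2, 3, 4, 3, 2, 1, 1], [1, 4, 2, 3, 4, 3, 4, 0, 3], [1, 4, 4, 3, 4, 4, 3, 1, 1], [3, 0, 2, 3, 4, 3, 2, 1, 4], [3, 3, 2, 0, 3, 4, 4, 3, 4], [4, 0, 4, 4, 3, 1, 4, 3, 1],
    [4, 1, 4, 3, 3, 4, 0, 4, 2], [4, 3, 2, 3, 0, 3, 3, 4, 1], [4, 4, 3, 3, 0, 2, 3, 4, 3], [0, 3, 4, 1, 2, 3, 4, 3, 3, 2], [0, 3, 4, 4, 3, 4, 2, 3, 3, 0], [1, 1, 4, 3, 4, 0, 4, 3, 4, 2],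
    [3, 0, 4, 4, 3, 0, 4, 3, 4, 1], [3, 3, 0, 3, 4, 4, 0, 3, 1, 1], [3, 3, 1, 2, 3, 4, 1, 4, 3, 0], [3, 3, 2, 0, 3, 4, 4, 3, 4, 2], [3, 3, 3, 4, 3, 0, 4, 2, 0, 3], [3, 3, 3, 4, 3, 1, 1, 4, 3, 0],
    [3, 4, 3, 0, 3, 4, 4, 3, 4, 1], [3, 4, 3, 1, 2, 3, 4, 4, 3, 3], [3, 4, 3, 4, 0, 3, 0, 4, 0, 0], [3, 4, 3, 4, 0, 3, 0, 4, 2, 0]]

/-- Each involution of the Sylow subgroup, a word moving it to one of the two representatives, and which. -/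
def invWords : List (List ℕ × List ℕ × Bool) :=
  [([2], [], false), ([3, 3, 0, 2, 3, 3], [0, 3, 3], false),
    ([0, 0, 4, 3, 4, 3, 0], [4, 0, 3, 0, 3, 4], true), ([0, 4, 2, 3, 4, 3, 0], [4, 0, 3, 3, 0], true),
    ([0, 4, 4, 3, 1, 1, 4], [3, 4, 0, 0], false), ([1, 0, 4, 3, 0, 4, 4], [3, 4, 3], false),
    ([1, 1, 4, 3, 4, 3, 1], [0, 4, 3, 4, 0], true), ([1, 4, 3, 3, 4, 1, 4], [4, 4], true),
    ([4, 1, 4, 4, 3, 2, 1], [0, 3, 3], true), ([0, 0, 4, 3, 4, 0, 3, 4], [4, 3, 1, 4, 4, 3], true),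
    ([0, 4, 2, 3, 4, 0, 3, 4], [4, 0, 3, 0, 3], true), ([0, 4, 4, 3, 1, 1, 4, 2], [4, 1, 1, 0], true),
    ([1, 1, 4, 3, 4, 1, 4, 3], [0, 3, 3, 4, 3, 3], true), ([1, 4, 4, 3, 0, 4, 0, 3], [1, 4, 3, 0, 4, 0], true),
    ([1, 4, 4, 3, 4, 2, 0, 3], [4, 3, 4, 4, 1], true), ([2, 1, 1, 4, 3, 4, 3, 1], [4, 0, 3, 3, 1], true),
    ([0, 4, 4, 3, 4, 4, 3, 0, 0], [4, 3, 0, 4, 3], true), ([0, 4, 4, 3, 4, 4, 3, 2, 0], [1, 4, 3, 1, 4, 1], true),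
    ([1, 1, 4, 3, 4, 0, 4, 3, 4], [4, 3, 3, 1], true), ([1, 4, 2, 3, 4, 3, 2, 1, 1], [0, 4, 3, 4, 1], true),
    ([1, 4, 4, 3, 4, 4, 3, 1, 1], [0, 4, 3, 4, 0, 4], true), ([3, 0, 2, 3, 4, 3, 2, 1, 4], [4, 3, 0, 3], true),
    ([0, 3, 4, 4, 3, 4, 2, 3, 3, 0], [4, 3, 0, 3, 4], true), ([1, 1, 4, 3, 4, 0, 4, 3, 4, 2], [4, 3, 1, 4, 3], true),
    ([3, 0, 4, 4, 3, 0, 4, 3, 4, 1], [0, 3, 4, 3, 4], false), ([3, 4, 3, 0, 3, 4, 4, 3, 4, 1], [4, 3, 3, 0], true),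
    ([3, 4, 3, 1, 2, 3, 4, 4, 3, 3], [0, 3, 4, 3, 4], true)]

/-- A Sylow 3-subgroup. -/
def threeWords : List (List ℕ) :=
  [[], [3, 3, 2, 3], [4, 4, 1, 4, 1, 0], [3, 3, 0, 3, 3], [3, 3, 0, 2, 3], [3, 4, 0, 4, 4, 3],
    [3, 3, 0, 0, 3, 3], [3, 3, 2, 0, 3], [3, 4, 1, 4, 4, 3, 0], [1], [4, 0, 4, 4], [4, 4, 1, 4, 1, 0, 0],
    [3, 3, 0, 3, 3, 1], [3, 0, 3, 0, 2, 3], [3, 4, 0, 4, 4, 3, 0], [3, 3, 0, 0, 3, 3, 1], [3, 0, 3, 2, 0, 3], [3, 4, 1, 4, 4, 3, 0, 0],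
    [1, 1], [4, 1, 4, 4, 1], [4, 4, 1, 4, 1], [3, 3, 0, 3, 3, 1, 1], [3, 3, 0, 2, 3, 1, 0], [3, 4, 0, 4, 4, 3, 0, 0],
    [3, 3, 3, 0, 3, 0], [3, 3, 1, 2, 3, 1], [3, 4, 1, 4, 4, 3], [0], [3, 3, 2, 3, 1], [4, 4, 1, 4],
    [3, 3, 0, 3, 3, 0], [3, 3, 0, 2, 3, 1], [0, 3, 4, 0, 4, 4, 3], [3, 3, 0, 0, 3, 3, 0], [3, 3, 2, 0, 3, 1], [0, 3, 4, 1, 4, 4, 3, 0],
    [1, 0], [4, 1, 4, 4, 0], [4, 4, 1, 4, 0], [3, 3, 3, 0, 0, 3], [3, 3, 1, 1, 2, 3], [3, 3, 3, 2, 0, 3, 3],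
    [3, 3, 0, 3, 0, 0, 3], [3, 3, 1, 2, 3, 0], [3, 3, 3, 0, 2, 3, 3, 1], [1, 1, 0], [4, 0, 4, 4, 0, 0], [4, 4, 1, 4, 0, 0],
    [3, 3, 3, 0, 0, 3, 1], [3, 0, 3, 1, 1, 2, 3], [3, 3, 3, 2, 0, 3, 3, 0], [3, 3, 3, 0, 3, 0, 0], [3, 0, 3, 1, 2, 3, 0], [0, 3, 4, 1, 4, 4, 3],
    [0, 0], [4, 0, 4, 4, 0], [4, 4, 0, 4, 0], [3, 3, 0, 3, 3, 0, 0], [3, 0, 3, 0, 2, 3, 0], [3, 4, 0, 4, 4, 3, 1, 0],
    [3, 3, 3, 0, 3, 1], [3, 0, 3, 1, 2, 3], [3, 3, 3, 0, 2, 3, 3, 0], [1, 0, 0], [4, 1, 4, 4, 1, 0], [4, 4, 0, 4, 0, 0],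
    [3, 3, 3, 0, 0, 3, 0], [3, 3, 1, 1, 2, 3, 1], [3, 3, 3, 0, 2, 3, 0, 3], [3, 3, 3, 0, 3, 1, 1], [3, 3, 1, 2, 3, 1, 0], [3, 4, 1, 4, 4, 3, 1],
    [1, 1, 0, 0], [4, 1, 4, 4], [4, 4, 0, 4], [3, 3, 0, 0, 3, 0, 3], [3, 3, 0, 2, 3, 0], [3, 4, 0, 4, 4, 3, 1],
    [3, 3, 3, 0, 3], [3, 3, 1, 2, 3], [3, 3, 3, 0, 2, 3, 3]]

/-- Two different commutators in the Sylow subgroup. -/
def commPairs : List (List ℕ × List ℕ × List ℕ × List ℕ) :=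
  [([0, 0, 4, 3, 0], [0, 4, 2, 0, 3, 4], [3, 3, 3, 4, 0, 4, 0, 0], [4, 1, 4, 3, 3, 4, 0, 4]),
    ([0, 0, 4, 3, 0], [1, 4, 4, 3, 1, 1], [3, 3, 3, 4, 0, 4, 0, 0], [3, 0, 2, 3, 1, 4, 0])]

/-- Words moving the singular vectors of the natural module to representatives. -/
def orbN : List (List ℕ) :=
  [[], [0], [1], [3], [4], [0, 0],
    [0, 3], [0, 4], [1, 0], [1, 1], [1, 4], [3, 0],
    [3, 2], [3, 3], [3, 4], [4, 1], [4, 3], [4, 4],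
    [0, 0, 3], [0, 0, 4], [0, 3, 0], [0, 3, 2], [0, 3, 3], [0, 3, 4],
    [0, 4, 0], [0, 4, 3], [0, 4, 4], [1, 0, 4], [1, 1, 4], [1, 4, 0],
    [1, 4, 1], [1, 4, 3], [1, 4, 4], [3, 0, 0], [3, 0, 2], [3, 0, 3],
    [3, 0, 4], [3, 2, 0], [3, 2, 3], [3, 3, 1], [3, 3, 3], [3, 3, 4],
    [3, 4, 0], [3, 4, 1], [3, 4, 3], [3, 4, 4], [4, 1, 4], [4, 3, 0],
    [4, 3, 2], [4, 3, 3], [4, 3, 4], [4, 4, 3], [0, 0, 3, 3], [0, 0, 3, 4],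
    [0, 0, 4, 0], [0, 3, 0, 3], [0, 3, 0, 4], [0, 3, 2, 0], [0, 3, 3, 1], [0, 3, 3, 4],
    [0, 3, 4, 0], [0, 3, 4, 1], [0, 3, 4, 3], [0, 3, 4, 4], [0, 4, 0, 0], [0, 4, 3, 0],
    [0, 4, 3, 4], [1, 1, 4, 0], [1, 4, 0, 2], [1, 4, 1, 0], [1, 4, 3, 4], [3, 0, 0, 4],
    [3, 0, 3, 4], [3, 0, 4, 0], [3, 0, 4, 3], [3, 0, 4, 4], [3, 3, 1, 4], [3, 3, 4, 3],
    [3, 3, 4, 4], [3, 4, 0, 0], [3, 4, 0, 3], [3, 4, 0, 4], [3, 4, 1, 4], [3, 4, 3, 0],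
    [3, 4, 3, 1], [3, 4, 3, 3], [3, 4, 4, 0], [3, 4, 4, 1], [3, 4, 4, 3], [4, 3, 0, 4],
    [4, 3, 3, 4], [4, 3, 4, 0], [4, 3, 4, 3], [4, 3, 4, 4], [4, 4, 3, 3], [4, 4, 3, 4],
    [0, 0, 3, 3, 4], [0, 0, 3, 4, 1], [0, 0, 3, 4, 4], [0, 3, 0, 4, 4], [0, 3, 3, 1, 4], [0, 3, 3, 4, 4],
    [0, 3, 4, 0, 4], [0, 3, 4, 1, 4], [0, 3, 4, 3, 0], [0, 3, 4, 3, 1], [0, 3, 4, 3, 4], [0, 3, 4, 4, 1],
    [0, 3, 4, 4, 3], [0, 4, 3, 4, 4], [1, 4, 3, 4, 3], [1, 4, 3, 4, 4], [3, 0, 4, 3, 1], [3, 0, 4, 3, 4],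
    [3, 3, 1, 4, 3], [3, 3, 4, 0, 4], [3, 3, 4, 3, 1], [3, 3, 4, 3, 3], [3, 3, 4, 3, 4], [3, 3, 4, 4, 3],
    [3, 4, 0, 3, 4], [3, 4, 0, 4, 3], [3, 4, 3, 3, 0], [3, 4, 3, 3, 4], [3, 4, 4, 3, 3], [4, 3, 0, 4, 3],
    [4, 3, 4, 4, 1], [4, 4, 3, 4, 4], [0, 3, 4, 1, 4, 3], [0, 3, 4, 3, 1, 0], [0, 3, 4, 3, 4, 4], [3, 0, 4, 3, 1, 4],
    [3, 0, 4, 3, 4, 4], [3, 3, 4, 0, 4, 3], [3, 3, 4, 3, 4, 3]]

/-- Words moving the singular vectors of the reducible modules to representatives. -/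
def orbR : List (List ℕ) :=
  [[], [0], [1], [2], [3], [4],
    [0, 0], [0, 2], [0, 3], [0, 4], [1, 0], [1, 1],
    [1, 2], [1, 4], [2, 0], [2, 1], [3, 0], [3, 2],
    [3, 4], [4, 0], [4, 1], [4, 2], [4, 3], [4, 4],
    [0, 0, 3], [0, 3, 0], [0, 4, 0], [1, 1, 2], [1, 1, 4], [1, 2, 0],
    [1, 4, 3], [1, 4, 4], [3, 0, 0], [3, 0, 2], [3, 2, 0], [3, 4, 0],
    [4, 0, 3], [4, 0, 4], [4, 1, 0], [4, 1, 4], [4, 3, 1], [4, 3, 2],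
    [4, 4, 0], [1, 1, 4, 3], [1, 4, 3, 4], [1, 4, 4, 3], [4, 0, 3, 0], [4, 0, 3, 1],
    [4, 0, 3, 4], [4, 1, 4, 3], [1, 1, 4, 3, 3], [1, 1, 4, 3, 4]]

/-- The matrices of the Sylow 2-subgroup. -/
def sylMats : List (List ℕ) :=
  [[1, 2, 4, 8, 16, 32, 64, 128], [4, 8, 1, 2, 16, 32, 64, 128], [62, 23, 59, 29, 192, 64, 47, 53],
    [59, 29, 62, 23, 192, 64, 47, 53], [116, 152, 113, 146, 207, 69, 47, 53], [113, 146, 116, 152, 207, 69, 47, 53],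
    [43, 61, 46, 55, 192, 64, 37, 58], [1, 2, 4, 8, 192, 64, 32, 48], [177, 210, 180, 216, 26, 47, 79, 133],
    [180, 216, 177, 210, 26, 47, 79, 133], [100, 184, 97, 178, 207, 69, 37, 58], [180, 216, 177, 210, 202, 79, 47, 53],
    [113, 146, 116, 152, 26, 47, 69, 138], [62, 23, 59, 29, 26, 47, 64, 128], [177, 210, 180, 216, 202, 79, 47, 53],
    [46, 55, 43, 61, 192, 64, 37, 58], [78, 135, 75, 141, 207, 69, 32, 48], [4, 8, 1, 2, 192, 64, 32, 48],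
    [145, 226, 148, 232, 21, 42, 79, 133], [139, 205, 142, 199, 16, 32, 79, 133], [148, 232, 145, 226, 21, 42, 79, 133],
    [97, 178, 100, 184, 207, 69, 37, 58], [244, 88, 241, 82, 26, 47, 74, 143], [30, 39, 27, 45, 21, 42, 64, 128],
    [164, 248, 161, 242, 31, 37, 79, 133], [161, 242, 164, 248, 31, 37, 79, 133], [116, 152, 113, 146, 26, 47, 69, 138],
    [75, 141, 78, 135, 207, 69, 32, 48], [142, 199, 139, 205, 16, 32, 79, 133], [46, 55, 43, 61, 31, 37, 64, 128],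
    [43, 61, 46, 55, 31, 37, 64, 128], [139, 205, 142, 199, 202, 79, 32, 48], [142, 199, 139, 205, 202, 79, 32, 48],
    [206, 71, 203, 77, 16, 32, 74, 143], [203, 77, 206, 71, 16, 32, 74, 143], [164, 248, 161, 242, 202, 79, 37, 58],
    [59, 29, 62, 23, 26, 47, 64, 128], [145, 226, 148, 232, 202, 79, 42, 63], [225, 114, 228, 120, 31, 37, 74, 143],
    [228, 120, 225, 114, 31, 37, 74, 143], [203, 77, 206, 71, 197, 74, 32, 48], [212, 104, 209, 98, 21, 42, 74, 143],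
    [241, 82, 244, 88, 26, 47, 74, 143], [206, 71, 203, 77, 197, 74, 32, 48], [97, 178, 100, 184, 31, 37, 69, 138],
    [100, 184, 97, 178, 31, 37, 69, 138], [84, 168, 81, 162, 207, 69, 42, 63], [78, 135, 75, 141, 16, 32, 69, 138],
    [161, 242, 164, 248, 202, 79, 37, 58], [27, 45, 30, 39, 21, 42, 64, 128], [30, 39, 27, 45, 192, 64, 42, 63],
    [148, 232, 145, 226, 202, 79, 42, 63], [81, 162, 84, 168, 21, 42, 69, 138], [209, 98, 212, 104, 21, 42, 74, 143],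
    [212, 104, 209, 98, 197, 74, 42, 63], [75, 141, 78, 135, 16, 32, 69, 138], [27, 45, 30, 39, 192, 64, 42, 63],
    [81, 162, 84, 168, 207, 69, 42, 63], [244, 88, 241, 82, 197, 74, 47, 53], [241, 82, 244, 88, 197, 74, 47, 53],
    [84, 168, 81, 162, 21, 42, 69, 138], [209, 98, 212, 104, 197, 74, 42, 63], [225, 114, 228, 120, 197, 74, 37, 58],
    [228, 120, 225, 114, 197, 74, 37, 58]]

/-- The matrices of the Sylow 3-subgroup. -/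
def threeMats : List (List ℕ) :=
  [[1, 2, 4, 8, 16, 32, 64, 128], [16, 32, 1, 2, 4, 8, 64, 128], [4, 8, 16, 32, 1, 2, 64, 128],
    [1, 2, 4, 8, 32, 48, 192, 64], [32, 48, 1, 2, 4, 8, 192, 64], [4, 8, 32, 48, 1, 2, 192, 64],
    [1, 2, 4, 8, 48, 16, 128, 192], [48, 16, 1, 2, 4, 8, 128, 192], [4, 8, 48, 16, 1, 2, 128, 192],
    [1, 2, 8, 12, 48, 16, 64, 128], [48, 16, 1, 2, 8, 12, 64, 128], [8, 12, 48, 16, 1, 2, 64, 128],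
    [1, 2, 8, 12, 16, 32, 192, 64], [16, 32, 1, 2, 8, 12, 192, 64], [8, 12, 16, 32, 1, 2, 192, 64],
    [1, 2, 8, 12, 32, 48, 128, 192], [32, 48, 1, 2, 8, 12, 128, 192], [8, 12, 32, 48, 1, 2, 128, 192],
    [1, 2, 12, 4, 32, 48, 64, 128], [32, 48, 1, 2, 12, 4, 64, 128], [12, 4, 32, 48, 1, 2, 64, 128],
    [1, 2, 12, 4, 48, 16, 192, 64], [48, 16, 1, 2, 12, 4, 192, 64], [12, 4, 48, 16, 1, 2, 192, 64],
    [1, 2, 12, 4, 16, 32, 128, 192], [16, 32, 1, 2, 12, 4, 128, 192], [12, 4, 16, 32, 1, 2, 128, 192],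
    [2, 3, 12, 4, 16, 32, 64, 128], [16, 32, 2, 3, 12, 4, 64, 128], [12, 4, 16, 32, 2, 3, 64, 128],
    [2, 3, 12, 4, 32, 48, 192, 64], [32, 48, 2, 3, 12, 4, 192, 64], [12, 4, 32, 48, 2, 3, 192, 64],
    [2, 3, 12, 4, 48, 16, 128, 192], [48, 16, 2, 3, 12, 4, 128, 192], [12, 4, 48, 16, 2, 3, 128, 192],
    [2, 3, 4, 8, 48, 16, 64, 128], [48, 16, 2, 3, 4, 8, 64, 128], [4, 8, 48, 16, 2, 3, 64, 128],
    [2, 3, 4, 8, 16, 32, 192, 64], [16, 32, 2, 3, 4, 8, 192, 64], [4, 8, 16, 32, 2, 3, 192, 64],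
    [2, 3, 4, 8, 32, 48, 128, 192], [32, 48, 2, 3, 4, 8, 128, 192], [4, 8, 32, 48, 2, 3, 128, 192],
    [2, 3, 8, 12, 32, 48, 64, 128], [32, 48, 2, 3, 8, 12, 64, 128], [8, 12, 32, 48, 2, 3, 64, 128],
    [2, 3, 8, 12, 48, 16, 192, 64], [48, 16, 2, 3, 8, 12, 192, 64], [8, 12, 48, 16, 2, 3, 192, 64],
    [2, 3, 8, 12, 16, 32, 128, 192], [16, 32, 2, 3, 8, 12, 128, 192], [8, 12, 16, 32, 2, 3, 128, 192],
    [3, 1, 8, 12, 16, 32, 64, 128], [16, 32, 3, 1, 8, 12, 64, 128], [8, 12, 16, 32, 3, 1, 64, 128],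
    [3, 1, 8, 12, 32, 48, 192, 64], [32, 48, 3, 1, 8, 12, 192, 64], [8, 12, 32, 48, 3, 1, 192, 64],
    [3, 1, 8, 12, 48, 16, 128, 192], [48, 16, 3, 1, 8, 12, 128, 192], [8, 12, 48, 16, 3, 1, 128, 192],
    [3, 1, 12, 4, 48, 16, 64, 128], [48, 16, 3, 1, 12, 4, 64, 128], [12, 4, 48, 16, 3, 1, 64, 128],
    [3, 1, 12, 4, 16, 32, 192, 64], [16, 32, 3, 1, 12, 4, 192, 64], [12, 4, 16, 32, 3, 1, 192, 64],
    [3, 1, 12, 4, 32, 48, 128, 192], [32, 48, 3, 1, 12, 4, 128, 192], [12, 4, 32, 48, 3, 1, 128, 192],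
    [3, 1, 4, 8, 32, 48, 64, 128], [32, 48, 3, 1, 4, 8, 64, 128], [4, 8, 32, 48, 3, 1, 64, 128],
    [3, 1, 4, 8, 48, 16, 192, 64], [48, 16, 3, 1, 4, 8, 192, 64], [4, 8, 48, 16, 3, 1, 192, 64],
    [3, 1, 4, 8, 16, 32, 128, 192], [16, 32, 3, 1, 4, 8, 128, 192], [4, 8, 16, 32, 3, 1, 128, 192]]

/-- Odd order words centralising the transvection with small common centraliser. -/
def oddT : List (List ℕ) := [[4], [1, 0, 0]]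

/-- Odd order words fixing the representative point of the reducible module. -/
def oddV : List (List ℕ) := [[3, 4, 3, 1], [4, 1, 0, 0]]

/-- The common centraliser of `oddV` is read off from the image of the first unit vector. -/
def oddVBasis : List (List ℕ) := [[], [0], [1], [0, 0], [1, 0], [0, 0, 0], [0, 1, 0], [0, 0, 1, 0]]

/-- The coordinates of the unit vectors in this basis. -/
def oddVBits : List ℕ := [1, 250, 138, 38, 117, 94, 158, 81]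

end Cfsg.Agent.Fus.U62Red
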