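import Cfsg.Agent.Lib.Fus.U62Red.Mod

/-!
Recognition of `U₆(2)`, the reduction: coordinates on the module from bases of the lines, and the identification
of the last generator.
-/

set_option autoImplicit false

namespace Cfsg.Agent.Fus.U62Red

open Cfsg.Agent.Fus.U62Rec (Q4)
open Cfsg.Agent.Invol.ExtraEight (app idm mu comb comb_xor comb_zero comb_map app_lt app_mu app_idm idm_lt)

theorem getD_lt {gs : List (List ℕ)} (h : ∀ g ∈ gs, ∀ x ∈ g, x < 256) (i : ℕ) :
    ∀ x ∈ gs.getD i idm, x < 256 := by
  rcases List.mem_cons.1 (getD_mem gs i) with e | e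
  · rw [e]; exact idm_lt
  · exact h _ e

theorem wd_lt {gs : List (List ℕ)} (h : ∀ g ∈ gs, ∀ x ∈ g, x < 256) : ∀ w : List ℕ, ∀ x ∈ wd gs w, x < 256
  | [] => idm_lt
  | i :: w => fun x hx => by
    obtain ⟨y, -, rfl⟩ := List.mem_map.1 hx
    exact app_lt (getD_lt h i) y

theorem wd_length (gs : List (List ℕ)) : ∀ w : List ℕ, (wd gs w).length = 8
  | [] => rfl
  | i :: w => by rw [wd, mu, List.length_map, wd_length gs w]

namespace Mod

variable {V : Type*} [AddCommGroup V] (M : Mod V)

theorem map_comb (f : V →+ V) : ∀ (B : List V) (n : ℕ), f (comb B n) = comb (B.map f) n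
  | [], _ => map_zero f
  | x :: B, n => by
    simp only [List.map_cons, comb, map_add, map_comb f B]
    cases n % 2 == 1 <;> simp

include M in
/-- An operator given on a basis by a matrix. -/
theorem gen_of_basis {B : List V} (f : V →+ V) {m : List ℕ} (hm : ∀ x ∈ m, x < 256)
    (h : B.map f = m.map (comb B)) (n : ℕ) : f (comb B n) = comb B (app m n) := by
  rw [map_comb, h, comb_map (comb B) (comb_zero B) (fun u _ v _ => comb_xor M.two B u v) hm]

theorem word_of_gens {B : List V} {gs : List (List ℕ)} (hg : ∀ g ∈ gs, ∀ x ∈ g, x < 256) {k : ℕ}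
    (h : ∀ i < k, ∀ n < 256, M.ρ (el [i]) (comb B n) = comb B (app (gs.getD i idm) n)) :
    ∀ w : List ℕ, (∀ i ∈ w, i < k) → ∀ n < 256, M.ρ (el w) (comb B n) = comb B (app (wd gs w) n)
  | [], _, n, hn => by
    rw [el_nil, M.one]; exact congrArg _ (app_idm n hn).symm
  | i :: w, hw, n, hn => by
    rw [show el (i :: w) = el [i] * el w from el_append [i] w, M.mul,
      word_of_gens hg h w (fun j hj => hw j (List.mem_cons_of_mem _ hj)) n hn,
      h i (hw i (List.mem_cons_self ..)) _ (app_lt (wd_lt hg w) n), wd, app_mu _ (wd_lt hg w)]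

theorem act_mem {l : Ev} {x : V} (hx : x ∈ M.U l) (g : Ev) : M.act g x ∈ M.U l :=
  M.mem_U.2 ⟨fun e he => by rw [← act_add, add_comm, act_add, hx.1 e he], by rw [M.S_act, hx.2]⟩

/-- The action of the diagonal subgroup on a line. -/
theorem act_line {l g : Ev} (hg : lv l g = 1) {w : V} (hw : w ∈ M.U l) (e : Ev) :
    M.act e w = if lv l e = 0 then w else if lv l e = 1 then M.act g w else w + M.act g w := by
  have hmul : ∀ n : ℕ, lv l (n • g) = n := by
    intro n
    induction n with
    | zero => simp [lv]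
    | succ n ih => rw [succ_nsmul, lv_add, ih, hg]; simp
  have hsame : ∀ e e' : Ev, lv l e = lv l e' → M.act e w = M.act e' w := fun e e' he => by
    have h : lv l (e - e') = 0 := by
      have h2 := lv_add l (e - e') e'
      rw [sub_add_cancel, he] at h2
      exact right_eq_add.1 h2
    rw [← sub_add_cancel e e', add_comm, act_add, hw.1 _ h]
  have hz : w + M.act g w + M.act (g + g) w = 0 := by
    refine M.fixed_line (add_mem (add_mem hw (M.act_mem hw g)) (M.act_mem hw (g + g))) hg ?_
    rw [map_add, map_add, ← act_add, ← act_add, hsame (g + (g + g)) 0 (by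
      rw [lv_add, lv_add, hg]
      have := hmul 0
      rw [zero_smul] at this
      rw [this]; decide), act_zero]
    abel
  have h3 : lv l e = 0 ∨ lv l e = 1 ∨ lv l e = 2 := by
    generalize lv l e = a; revert a; decide
  rcases h3 with h | h | h <;> rw [h]
  · rw [if_pos rfl]; exact hw.1 e h
  · rw [if_neg (by decide), if_pos rfl]; exact hsame e g (by rw [h, hg])
  · rw [if_neg (by decide), if_neg (by decide), hsame e (g + g) (by rw [h, lv_add, hg]; decide)]
    calc M.act (g + g) w = (w + M.act g w) + (w + M.act g w + M.act (g + g) w) := by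
          rw [← add_assoc, M.two, zero_add]
      _ = w + M.act g w := by rw [hz, add_zero]

/-- A conjugating word sends the basis of a line to that of the image line. -/
theorem move_act {w : List ℕ} (hw : ∀ i ∈ w, i ∈ [2, 3]) {k g' : Ev} (hg : lv k g' = 1) {x : V}
    (hk : M.ρ (el w) x ∈ M.U k) (g : Ev) :
    M.ρ (el w) (M.act g x) = if lv k (phiw w g) = 0 then M.ρ (el w) x else
      if lv k (phiw w g) = 1 then M.act g' (M.ρ (el w) x) else M.ρ (el w) x + M.act g' (M.ρ (el w) x) := by
  rw [← M.act_line hg hk, act, act, ← M.mul, conj_word w hw, M.mul]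

theorem U_elems {l g : Ev} (hg : lv l g = 1) (hc : Nat.card ↥(M.U l) = 4) {w : V} (hw : w ∈ M.U l)
    (h0 : w ≠ 0) {x : V} (hx : x ∈ M.U l) : x = 0 ∨ x = w ∨ x = M.act g w ∨ x = w + M.act g w := by
  classical
  haveI := M.finite
  have hne : M.act g w ≠ w := fun e => h0 (M.fixed_line hw hg e)
  have hg0 : M.act g w ≠ 0 := fun e => h0 (M.ρ_injective _ (e.trans (map_zero _).symm))
  have hs : w + M.act g w ≠ 0 := fun e => hne (by
    calc M.act g w = w + (w + M.act g w) := by rw [← add_assoc, M.two, zero_add]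
      _ = w := by rw [e, add_zero])
  have hsub : ({0, w, M.act g w, w + M.act g w} : Set V) ⊆ (M.U l : Set V) := by
    rintro y (rfl | rfl | rfl | rfl)
    exacts [zero_mem _, hw, M.act_mem hw g, add_mem hw (M.act_mem hw g)]
  have h4 : ({0, w, M.act g w, w + M.act g w} : Set V).ncard = 4 := by
    rw [Set.ncard_insert_of_notMem (by simp [Ne.symm h0, Ne.symm hg0, Ne.symm hs]) (Set.toFinite _),
      Set.ncard_insert_of_notMem (by simp [Ne.symm hne, hg0]) (Set.toFinite _),
      Set.ncard_insert_of_notMem (by simp [h0]) (Set.toFinite _), Set.ncard_singleton]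
  have he := Set.eq_of_subset_of_ncard_le hsub (by
    rw [h4, ← Nat.card_coe_set_eq]
    exact hc.le) (Set.toFinite _)
  have : x ∈ ({0, w, M.act g w, w + M.act g w} : Set V) := he ▸ hx
  simpa using this

theorem exists_ne_of_card {l : Ev} (hc : Nat.card ↥(M.U l) = 4) : ∃ w ∈ M.U l, w ≠ 0 := by
  haveI := M.finite
  haveI : Nontrivial ↥(M.U l) := Finite.one_lt_card_iff_nontrivial.1 (by rw [hc]; norm_num)
  obtain ⟨⟨w, hw⟩, h⟩ := exists_ne (0 : ↥(M.U l))
  exact ⟨w, hw, fun e => h (Subtype.ext e)⟩

/-- The action on a basis of a line, by the value of the line. -/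
theorem act_pair {l g : Ev} (hg : lv l g = 1) {w : V} (hw : w ∈ M.U l) (e : Ev) :
    (lv l e = 0 → M.act e w = w ∧ M.act e (M.act g w) = M.act g w) ∧
    (lv l e = 1 → M.act e w = M.act g w ∧ M.act e (M.act g w) = w + M.act g w) ∧
    (lv l e = 2 → M.act e w = w + M.act g w ∧ M.act e (M.act g w) = w) := by
  have h1 := M.act_line hg hw e
  have h2 := M.act_line hg hw (e + g)
  rw [lv_add, hg] at h2
  refine ⟨fun h => ?_, fun h => ?_, fun h => ?_⟩ <;> rw [h] at h1 h2 <;> rw [act_add] at h2 <;>
    simp (decide := true) at h1 h2 <;> exact ⟨h1, h2⟩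

/-- An involution centralising the action on a line of four elements fixes it. -/
theorem linear_involution {l g : Ev} (hg : lv l g = 1) (hc : Nat.card ↥(M.U l) = 4) {t : List ℕ}
    (ht : ∀ i ∈ t, i ∈ [2, 3]) (h2 : el t * el t = 1) (hl : ∀ e, lv l (phiw t e) = lv l e) {x : V}
    (hx : x ∈ M.U l) : M.ρ (el t) x = x := by
  by_cases h0 : x = 0
  · rw [h0, map_zero]
  have htx : M.ρ (el t) x ∈ M.U l := M.move_mem ht (fun e => by rw [hl]) hx
  have hc' : ∀ y ∈ M.U l, M.ρ (el t) (M.act g y) = M.act g (M.ρ (el t) y) := fun y hy => by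
    rw [M.move_act ht hg (M.move_mem ht (fun e => by rw [hl]) hy), hl, hg, if_neg (by decide), if_pos rfl]
  have hsq : M.ρ (el t) (M.ρ (el t) x) = x := by rw [← M.mul, h2, M.one]
  rcases M.U_elems hg hc hx h0 htx with e | e | e | e
  · exact absurd (M.ρ_injective _ (e.trans (map_zero _).symm)) h0
  · exact e
  · rw [e, hc' x hx, e, ← act_add] at hsq
    have h' : M.act g x = x := by
      have h3 : M.act g (M.act (g + g) x) = x := by
        rw [← act_add, M.act_line hg hx, lv_add, lv_add, hg, if_pos (by decide)]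
      rwa [hsq] at h3
    exact absurd (M.fixed_line hx hg h') h0
  · rw [e, map_add, hc' x hx, e, map_add] at hsq
    have h3 : M.act g (M.act g x) = x + M.act g x := by
      rw [← act_add, M.act_line hg hx, lv_add, hg, if_neg (by decide), if_neg (by decide)]
    rw [h3] at hsq
    have h' : M.act g x = x := by
      calc M.act g x = (x + x) + ((M.act g x + M.act g x) + M.act g x) := by
            rw [M.two, M.two, zero_add, zero_add]
        _ = x + M.act g x + (M.act g x + (x + M.act g x)) := by abel
        _ = x := hsq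
    exact absurd (M.fixed_line hx hg h') h0

end Mod

end Cfsg.Agent.Fus.U62Red
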