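import Cfsg.Agent.Lib.Fus.U62Red.Code

/-!
Recognition of `U₆(2)`, the reduction: computations in `U₄(2)`.
-/

set_option autoImplicit false

namespace Cfsg.Agent.Fus.U62Red

open Cfsg.Agent.Invol.ExtraEight (app idm mu)

theorem syl_words : sylWords.map (wd mn) = sylMats := by decide +kernel

theorem three_words : threeWords.map (wd mn) = threeMats := by decide +kernel

theorem syl_mul : (sylMats.all fun a => sylMats.all fun b =>
    (sylMats.map code).contains (code (mu a b))) = true := by decide +kernel

theorem three_mul : (threeMats.all fun a => threeMats.all fun b =>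
    (threeMats.map code).contains (code (mu a b))) = true := by decide +kernel

theorem syl_nodup : (sylMats.map code).Nodup := by decide +kernel

theorem three_nodup : (threeMats.map code).Nodup := by decide +kernel

theorem five_order : wd mn [4, 3, 1] ≠ idm ∧
    wd mn ([4, 3, 1] ++ [4, 3, 1] ++ [4, 3, 1] ++ [4, 3, 1] ++ [4, 3, 1]) = idm := by decide +kernel

/-- The Sylow subgroup centralises the transvection and contains it. -/
theorem syl_center : (sylMats.all fun a => mu a (wd mn wT) == mu (wd mn wT) a) = true ∧
    sylMats.contains (wd mn wT) = true ∧ sylMats.contains idm = true := by decide +kernel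

theorem inv_list : ((sylMats.filter fun a => !(a == idm) && (mu a a == idm)).all fun a =>
    (invWords.map fun x => wd mn x.1).contains a) = true := by decide +kernel

theorem inv_conj : ∀ x ∈ invWords, wd mn (x.2.1 ++ x.1) = wd mn ((cond x.2.2 wP wT) ++ x.2.1) ∧
    mu (wd mn x.1) (wd mn x.1) = idm := by decide +kernel

theorem few_involutions : (sylMats.filter fun a => mu a a == idm).length < 32 := by decide +kernel

theorem two_commutators : ∃ p ∈ commPairs, ∃ r ∈ commPairs,
    wd mn (p.1 ++ p.2.1 ++ p.2.2.1 ++ p.2.2.2) ≠ wd mn (r.1 ++ r.2.1 ++ r.2.2.1 ++ r.2.2.2) ∧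
    wd mn (p.1 ++ p.2.1 ++ p.2.2.1 ++ p.2.2.2) ≠ idm ∧ wd mn (r.1 ++ r.2.1 ++ r.2.2.1 ++ r.2.2.2) ≠ idm := by
  decide +kernel

theorem comm_inverse : ∀ p ∈ commPairs, wd mn (p.1 ++ p.2.2.1) = idm ∧ wd mn (p.2.1 ++ p.2.2.2) = idm ∧
    sylWords.contains p.1 = true ∧ sylWords.contains p.2.1 = true := by decide +kernel

/-- What centralises `oddT` in the Sylow subgroup is abelian. -/
theorem odd_centralizer : ((sylMats.filter fun a => oddT.all fun h => mu a (wd mn h) == mu (wd mn h) a).all
    fun a => (sylMats.filter fun a => oddT.all fun h => mu a (wd mn h) == mu (wd mn h) a).all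
      fun b => mu a b == mu b a) = true := by decide +kernel

theorem oddT_facts : ∀ h ∈ oddT, wd mn (h ++ wT) = wd mn (wT ++ h) ∧ wd mn (h ++ h ++ h) = idm := by
  decide +kernel

theorem oddV_facts : ∀ h ∈ oddV, wd mn (List.replicate 15 h).flatten = idm := by decide +kernel

/-- The candidate commuting with `oddV` with given image of the first unit vector. -/
def centCand (c : ℕ) : List ℕ :=
  oddVBits.map (app (oddVBasis.map fun bw => app (wd mn (bw.flatMap fun i => oddV.getD i [])) c))

theorem oddV_bits : oddVBits.map (app (oddVBasis.map fun bw =>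
    app (wd mn (bw.flatMap fun i => oddV.getD i [])) 1)) = idm := by decide +kernel

/-- Only the identity of `U₄(2)` centralises `oddV` among the elements of order dividing four. -/
theorem oddV_centralizer : ((List.range 256).all fun c =>
    centCand c == idm ||
    !(oddV.all (fun h => mu (centCand c) (wd mn h) == mu (wd mn h) (centCand c)) &&
      mu (centCand c) OM == mu OM (centCand c) &&
      mu (mu (centCand c) (centCand c)) (mu (centCand c) (centCand c)) == idm &&
      idm.all (fun u => Kind.q .nat (app (centCand c) u) == Kind.q .nat u))) = true := by decide +kernel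

theorem om_central : ∀ g ∈ mn, mu g OM = mu OM g := by decide +kernel

end Cfsg.Agent.Fus.U62Red
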