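import Cfsg.Agent.Lib.Fus.U62Red.Linear
import Mathlib.Data.ZMod.Basic

/-!
Recognition of `U₆(2)`, the reduction: computations for the classification of the modules.
-/

set_option autoImplicit false
set_option linter.style.longLine false

namespace Cfsg.Agent.Fus.U62Red

open Cfsg.Agent.Invol.ExtraEight (app idm mu)

/-- Exponent vectors of the diagonal subgroup of order 27, and linear functions on them. -/
abbrev Ev : Type := ZMod 3 × ZMod 3 × ZMod 3

/-- A linear function. -/
def lv (l e : Ev) : ZMod 3 := l.1 * e.1 + l.2.1 * e.2.1 + l.2.2 * e.2.2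

/-- The word of an exponent vector. -/
def evw (e : Ev) : List ℕ := ew e.1.val e.2.1.val e.2.2.val

/-- Conjugation of the diagonal subgroup by the exchange and by the shift. -/
def phi : ℕ → Ev → Ev
  | 2, e => (e.2.1 - e.1, e.2.1, e.2.2)
  | 3, e => (-e.2.2, e.1 - e.2.2, e.2.1 - e.2.2)
  | _, e => e

/-- Conjugation by a word. -/
def phiw : List ℕ → Ev → Ev
  | [] => fun e => e
  | i :: w => fun e => phi i (phiw w e)

/-- The four coordinate lines. -/
def natLines : List Ev := [(1, 0, 0), (2, 1, 0), (0, 2, 1), (0, 0, 2)]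

/-- The three pair lines. -/
def redLines : List Ev := [(0, 1, 0), (1, 2, 1), (2, 0, 1)]

/-- The six remaining lines. -/
def sixLines : List Ev := [(2, 2, 0), (1, 1, 2), (1, 0, 1), (2, 2, 2), (2, 1, 1), (0, 2, 2)]

/-- All thirteen lines. -/
def allLines : List Ev := natLines ++ redLines ++ sixLines

/-- The exchange of the last two coordinates. -/
def wY : List ℕ := [3, 3, 2, 3, 3]

theorem line_count : ∀ e : Ev, (allLines.countP fun l => lv l e == 0) % 2 = if e = 0 then 1 else 0 := by
  decide +kernel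

theorem line_zero : (allLines.Nodup) ∧ ∀ l ∈ allLines, ∃ g : Ev, lv l g = 1 := by decide +kernel

theorem line_indep : ∀ l ∈ allLines, ∀ k ∈ allLines, l ≠ k → ∃ e : Ev, lv l e = 0 ∧ lv k e = 1 := by
  decide +kernel

theorem diag_words : wd mn ([0] ++ [1]) = wd mn ([1] ++ [0]) ∧ wd mn ([0] ++ wE3) = wd mn (wE3 ++ [0]) ∧
    wd mn ([1] ++ wE3) = wd mn (wE3 ++ [1]) ∧ wd mn ([0] ++ [0] ++ [0]) = idm ∧
    wd mn ([1] ++ [1] ++ [1]) = idm ∧ wd mn (wE3 ++ wE3 ++ wE3) = idm := by decide +kernel

theorem phi_words : ∀ s ∈ [2, 3], ∀ e ∈ ([(1, 0, 0), (0, 1, 0), (0, 0, 1)] : List Ev),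
    wd mn (s :: evw e) = wd mn (evw (phi s e) ++ [s]) := by decide +kernel

theorem perm_words : wd mn [3, 3, 3, 2] = wd mn (wY ++ wX) ∧ wd mn [2, 3, 3] = wd mn ([3, 3] ++ wY) ∧
    wd mn [2, 3, 3, 3] = wd mn ([3, 3, 3] ++ wX) ∧ wd mn [3, 2, 3] = wd mn ([2, 3] ++ (wY ++ [3, 3])) ∧
    wd mn [3, 3, 3, 3] = idm ∧ wd mn [2, 2] = idm ∧ wd mn (wX ++ wX) = idm ∧ wd mn (wY ++ wY) = idm := by
  decide +kernel

theorem evw_E : evw (1, 2, 0) = wE := by decide +kernel

/-- Words with which the images of the six first unit vectors are reached, commuting with the last generator. -/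
def unitW : Bool → List (List ℕ)
  | false => [[], wE, [2], [2] ++ wE, wX ++ [2], wX ++ [2] ++ wE]
  | true => [[], wE ++ wE, wX, wX ++ (wE ++ wE), [2] ++ wX, [2] ++ wX ++ (wE ++ wE)]

theorem unitW_comm : ∀ b, ∀ w ∈ unitW b, wd mn ([4] ++ w) = wd mn (w ++ [4]) := by decide +kernel

theorem unitW_small : ∀ b, ∀ w ∈ unitW b, ∀ i ∈ w, i < 4 := by decide +kernel

/-- The relations used to pin down the last generator. -/
def rels : List (List ℕ × List ℕ) :=
  [([4, 4, 4], []), ([4, 2], [2, 4]), ([4] ++ wX, wX ++ [4]), ([4] ++ wE, wE ++ [4]),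
    ([4, 3, 1, 4, 3, 1, 4, 3, 1, 4, 3, 1, 4, 3, 1], []), ([1, 4, 0, 4, 0], [4, 4]),
    ([2, 2], []), ([3, 3, 3, 3], []), ([3, 2, 3, 2, 3, 2], [])]

theorem rels_true : ∀ r ∈ rels, wd mn r.1 = wd mn r.2 := by decide +kernel

/-- The generators with the last one replaced. -/
def withR (b : Bool) (g : List ℕ) : List (List ℕ) := (cond b mr mn).take 4 ++ [g]

/-- The last generator from the image of the first unit vector and of the last two. -/
def candR (b : Bool) (n k k' : ℕ) : List ℕ :=
  ((unitW b).map fun w => app (wd ((cond b mr mn).take 4) w) n) ++ [k, k']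

/-- The candidates are few and only the given generator satisfies the relations and keeps the form. -/
def checkR (K : Kind) (b : Bool) (n k k' : ℕ) : Bool :=
  let g := candR b n k k'
  g == K.gens.getD 4 idm ||
  !((idm.all fun u => K.q (app g u) == K.q u) &&
    (idm.all fun u => idm.all fun v => K.bq (app g u) (app g v) == K.bq u v) &&
    rels.all fun r => wd (withR b g) r.1 == wd (withR b g) r.2)

theorem R_unique_nat : ((List.range 64).all fun n => [64, 128, 192].all fun k => [64, 128, 192].all fun k' =>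
    checkR .nat false n k k') = true := by decide +kernel

theorem R_unique_redA : ((List.range 64).all fun n => checkR .redA true n 64 128) = true := by decide +kernel

theorem R_unique_redH : ((List.range 64).all fun n => checkR .redH true n 64 128) = true := by decide +kernel

theorem unit_images : ∀ b, (unitW b).map (fun w => app (wd ((cond b mr mn).take 4) w) 1) =
    [1, 2, 4, 8, 16, 32] := by decide +kernel

/-- The sum of the images of a vector under the subgroup generated by the diagonal element fixing the last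
coordinate. -/
theorem eigen_part : ∀ b, ∀ n < 256,
    (n ^^^ app (wd ((cond b mr mn).take 4) wE) n ^^^ app (wd ((cond b mr mn).take 4) (wE ++ wE)) n = 0 → n < 64) ∧
    (app (wd ((cond b mr mn).take 4) wE) n = n → n % 64 = 0) := by decide +kernel

theorem eigen_units : ∀ b, (app (wd ((cond b mr mn).take 4) wE) 64 = 64) ∧
    (app (wd ((cond b mr mn).take 4) wE) 128 = 128) ∧
    1 ^^^ app (wd ((cond b mr mn).take 4) wE) 1 ^^^ app (wd ((cond b mr mn).take 4) (wE ++ wE)) 1 = 0 := by
  decide +kernel

/-- The possible maps of a plane. -/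
def planeMaps : List (List ℕ) := [[1, 2], [1, 3], [2, 1], [2, 3], [3, 1], [3, 2]]

/-- Only the trivial action of the symmetric group and the element of order three on a plane obeys the
relations. -/
theorem plane_trivial : ∀ t ∈ planeMaps, ∀ s ∈ planeMaps, ∀ r ∈ planeMaps,
    mu t t = [1, 2] → mu s (mu s (mu s s)) = [1, 2] →
    mu (mu s t) (mu (mu s t) (mu s t)) = [1, 2] → mu r (mu r r) = [1, 2] → mu r t = mu t r →
    mu (mu r s) (mu (mu r s) (mu (mu r s) (mu (mu r s) (mu r s)))) = [1, 2] →
    t = [1, 2] ∧ s = [1, 2] ∧ r = [1, 2] := by decide +kernel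

end Cfsg.Agent.Fus.U62Red
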