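import Cfsg.Agent.Lib.Fus.U62Red.Coords

/-!
Recognition of `U₆(2)`, the reduction: once four generators are in standard form, so is the fifth.
-/

set_option autoImplicit false

namespace Cfsg.Agent.Fus.U62Red

open Cfsg.Agent.Fus.U62Rec (Q4)
open Cfsg.Agent.Invol.ExtraEight (app idm mu comb comb_xor comb_zero comb_map eq_comb app_lt app_mu app_idm app_zero
  idm_lt)

/-- The generators of the model of a side. -/
abbrev side (b : Bool) : List (List ℕ) := cond b mr mn

theorem side_lt (b : Bool) : ∀ g ∈ side b, ∀ x ∈ g, x < 256 := by cases b <;> decide +kernel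

namespace Mod

variable {V : Type*} [AddCommGroup V] (M : Mod V)

/-- Coordinates putting the module in standard form. -/
structure Coords (K : Kind) where
  B : List V
  surj : ∀ x : V, ∃ n < 256, comb B n = x
  inj : ∀ m < 256, ∀ n < 256, comb B m = comb B n → m = n
  gen : ∀ i, ∀ n < 256, M.ρ (el [i]) (comb B n) = comb B (app (K.gens.getD i idm) n)
  q : ∀ n < 256, M.q (comb B n) = K.q n

theorem el_big {i : ℕ} (hi : 5 ≤ i) : el [i] = 1 := by
  rw [el_eq_one_iff]
  have e : Kind.nat.gens.getD i idm = idm := by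
    rcases i with _ | _ | _ | _ | _ | i
    iterate 5 omega
    rfl
  rw [mat_cons, mat_nil, e]
  decide +kernel

theorem gens_big (K : Kind) {i : ℕ} (hi : 5 ≤ i) : K.gens.getD i idm = idm := by
  cases K <;> (rcases i with _ | _ | _ | _ | _ | i <;> first | omega | rfl)

include M in
theorem inj_of_surj {B : List V} (surj : ∀ x : V, ∃ n < 256, comb B n = x) :
    ∀ m < 256, ∀ n < 256, comb B m = comb B n → m = n := by
  haveI := M.finite
  have hs : Function.Surjective fun n : Fin 256 => comb B n := fun x => by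
    obtain ⟨n, hn, e⟩ := surj x
    exact ⟨⟨n, hn⟩, e⟩
  have hb := (Nat.bijective_iff_surjective_and_card _).2 ⟨hs, by rw [Nat.card_fin, M.card]⟩
  intro m hm n hn e
  exact congrArg Fin.val (hb.1 (a₁ := ⟨m, hm⟩) (a₂ := ⟨n, hn⟩) e)

include M in
/-- A map given on the unit vectors. -/
theorem gen_of_units {B : List V} (f : V →+ V) {m : List ℕ} (hm : ∀ x ∈ m, x < 256)
    (h : idm.map (fun u => f (comb B u)) = m.map (comb B)) {n : ℕ} (hn : n < 256) :
    f (comb B n) = comb B (app m n) := by
  rw [eq_comb (fun v => f (comb B v)) (by rw [comb_zero, map_zero])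
    (fun u _ v _ => by rw [comb_xor M.two, map_add]) hn, h,
    comb_map (comb B) (comb_zero B) (fun u _ v _ => comb_xor M.two B u v) hm]

/-- The fifth generator is forced. -/
theorem finish (b : Bool) (K : Kind) (hK : K.gens = side b) {B : List V} (surj : ∀ x : V, ∃ n < 256, comb B n = x)
    (h4 : ∀ i < 4, ∀ n < 256, M.ρ (el [i]) (comb B n) = comb B (app ((side b).getD i idm) n))
    (hq : ∀ n < 256, M.q (comb B n) = K.q n) {ks : List (ℕ × ℕ)}
    (hk : ∃ p ∈ ks, M.ρ (el [4]) (comb B 64) = comb B p.1 ∧ M.ρ (el [4]) (comb B 128) = comb B p.2)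
    (hks : ∀ p ∈ ks, p.1 < 256 ∧ p.2 < 256) (check : ∀ n < 64, ∀ p ∈ ks, checkR K b n p.1 p.2 = true) :
    Nonempty (M.Coords K) := by
  have inj := M.inj_of_surj surj
  obtain ⟨⟨k, k'⟩, hp, hk1, hk2⟩ := hk
  have htk : ∀ i < 4, ((side b).take 4).getD i idm = (side b).getD i idm := by
    cases b <;> decide +kernel
  have hwlt : ∀ g ∈ (side b).take 4, ∀ x ∈ g, x < 256 := fun g hg => side_lt b g (List.mem_of_mem_take hg)
  have hword := M.word_of_gens (B := B) hwlt (k := 4) fun i hi n hn => by rw [htk i hi, h4 i hi n hn]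
  obtain ⟨n, hn, hR1⟩ := surj (M.ρ (el [4]) (comb B 1))
  have hE : ∀ i ∈ wE, i < 4 := by decide
  have hEE : ∀ i ∈ wE ++ wE, i < 4 := by decide
  have hRE : el [4] * el wE = el wE * el [4] := by
    rw [← el_append, ← el_append]
    exact el_eq_iff.2 (rels_true ([4] ++ wE, wE ++ [4]) (by simp [rels]))
  have hn64 : n < 64 := by
    refine (eigen_part b n hn).1 (inj _ ?_ _ (by norm_num) ?_)
    · exact Nat.xor_lt_two_pow (n := 8) (Nat.xor_lt_two_pow (n := 8) hn (app_lt (wd_lt hwlt _) _))
        (app_lt (wd_lt hwlt _) _)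
    · rw [comb_xor M.two, comb_xor M.two, ← hword wE hE n hn, ← hword _ hEE n hn, el_append, M.mul, hR1]
      have c1 : M.ρ (el wE) (M.ρ (el [4]) (comb B 1)) = M.ρ (el [4]) (M.ρ (el wE) (comb B 1)) := by
        rw [← M.mul, ← hRE, M.mul]
      have c2 : M.ρ (el wE) (M.ρ (el wE) (M.ρ (el [4]) (comb B 1))) =
          M.ρ (el [4]) (M.ρ (el (wE ++ wE)) (comb B 1)) := by
        rw [c1, ← M.mul, ← hRE, M.mul, el_append, M.mul]
      rw [c2, c1, ← map_add, ← map_add, hword _ hEE 1 (by norm_num), hword wE hE 1 (by norm_num),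
        ← comb_xor M.two, ← comb_xor M.two]
      have h3 := (eigen_units b).2.2
      rw [h3, comb_zero, map_zero]
  set g := candR b n k k' with hg
  have hglt : ∀ x ∈ g, x < 256 := by
    intro x hx
    rcases List.mem_append.1 hx with h | h
    · obtain ⟨w, -, rfl⟩ := List.mem_map.1 h
      exact app_lt (wd_lt hwlt w) n
    · obtain ⟨h1, h2⟩ := hks _ hp
      rcases List.mem_cons.1 h with rfl | h
      · exact h1
      · rw [List.mem_singleton.1 h]; exact h2
  have hRg : ∀ v < 256, M.ρ (el [4]) (comb B v) = comb B (app g v) := by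
    refine fun v hv => M.gen_of_units _ hglt ?_ hv
    have hunit : ∀ w ∈ unitW b, M.ρ (el [4]) (comb B (app (wd ((side b).take 4) w) 1)) =
        comb B (app (wd ((side b).take 4) w) n) := by
      intro w hw
      have hw4 := unitW_small b w hw
      have hc : el [4] * el w = el w * el [4] := by
        rw [← el_append, ← el_append]; exact el_eq_iff.2 (unitW_comm b w hw)
      rw [← hword w hw4 1 (by norm_num), ← M.mul, hc, M.mul, ← hR1, hword w hw4 n hn]
    have hi : (idm.take 6).map (fun u => M.ρ (el [4]) (comb B u)) =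
        ((unitW b).map fun w => app (wd ((side b).take 4) w) n).map (comb B) := by
      rw [show idm.take 6 = (unitW b).map (fun w => app (wd ((side b).take 4) w) 1) from (unit_images b).symm,
        List.map_map, List.map_map]
      exact List.map_congr_left hunit
    rw [show idm = idm.take 6 ++ [64, 128] from rfl, List.map_append, hi, hg, candR, List.map_append]
    simp [hk1, hk2]
  have hgs : ∀ h ∈ withR b g, ∀ x ∈ h, x < 256 := by
    intro h hh
    rcases List.mem_append.1 hh with h' | h'
    · exact hwlt h h'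
    · rw [List.mem_singleton.1 h']; exact hglt
  have hgen5 : ∀ i < 5, ∀ v < 256, M.ρ (el [i]) (comb B v) = comb B (app ((withR b g).getD i idm) v) := by
    intro i hi v hv
    rcases i with _ | _ | _ | _ | _ | i
    iterate 4
      rw [h4 _ (by norm_num) v hv]
      cases b <;> rfl
    · rw [hRg v hv]; cases b <;> rfl
    · omega
  have hw5 := M.word_of_gens (B := B) hgs hgen5
  have hcheck := check n hn64 _ hp
  simp only [checkR, Bool.or_eq_true] at hcheck
  have hgK : g = K.gens.getD 4 idm := by
    rcases hcheck with h | h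
    · exact beq_iff_eq.1 h
    exfalso
    rw [Bool.not_eq_true', ← Bool.not_eq_true] at h
    refine h ?_
    simp only [Bool.and_eq_true, List.all_eq_true, beq_iff_eq]
    have hiso : ∀ u < 256, K.q (app g u) = K.q u := fun u hu => by
      rw [← hq _ (app_lt hglt u), ← hRg u hu, M.q_inv, hq u hu]
    refine ⟨⟨fun u hu => hiso u (idm_lt u hu), fun u hu v hv => ?_⟩, fun r hr => ?_⟩
    · have hu' := idm_lt u hu
      have hv' := idm_lt v hv
      rw [Kind.bq, Kind.bq, ← Cfsg.Agent.Invol.ExtraEight.app_xor, hiso u hu', hiso v hv',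
        hiso _ (Nat.xor_lt_two_pow (n := 8) hu' hv')]
    · have hsmall : ∀ r ∈ rels, ∀ i ∈ r.1 ++ r.2, i < 5 := by decide +kernel
      have h12 := hsmall r hr
      refine Cfsg.Agent.Fus.U62Red.list_ext (wd_length _ _) (wd_length _ _) fun v hv =>
        inj _ (app_lt (wd_lt hgs _) _) _ (app_lt (wd_lt hgs _) _) ?_
      rw [← hw5 r.1 (fun i hi => h12 i (List.mem_append_left _ hi)) v hv,
        ← hw5 r.2 (fun i hi => h12 i (List.mem_append_right _ hi)) v hv, el_eq_iff.2 (rels_true r hr)]
  refine ⟨⟨B, surj, inj, fun i v hv => ?_, hq⟩⟩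
  by_cases hi : i < 5
  · rcases i with _ | _ | _ | _ | _ | i
    iterate 4
      rw [h4 _ (by norm_num) v hv, hK]
    · rw [hRg v hv, hgK]
    · omega
  · rw [el_big (not_lt.1 hi), M.one, gens_big K (not_lt.1 hi), app_idm v hv]

end Mod

end Cfsg.Agent.Fus.U62Red
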