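import Cfsg.Agent.Lib.Fus.U62Red.Code

/-!
Recognition of `U₆(2)`, the reduction: matrices of words.
-/

set_option autoImplicit false

namespace Cfsg.Agent.Fus.U62Red

open Cfsg.Agent.Invol.ExtraEight (app idm mu app_lt app_mu app_idm app_zero app_xor app_map idm_lt)

theorem gens_lt (K : Kind) : ∀ g ∈ K.gens, ∀ x ∈ g, x < 256 := by cases K <;> decide +kernel

theorem gens_length (K : Kind) : ∀ g ∈ K.gens, g.length = 8 := by cases K <;> decide +kernel

theorem getD_mem (l : List (List ℕ)) (i : ℕ) : l.getD i idm ∈ idm :: l := by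
  induction l generalizing i with
  | nil => simp
  | cons x l ih =>
    rcases i with _ | i
    · simp
    · rcases List.mem_cons.1 (ih i) with e | e
      · exact List.mem_cons.2 (Or.inl (by simpa using e))
      · exact List.mem_cons_of_mem _ (List.mem_cons_of_mem _ (by simpa using e))

theorem gen_lt (K : Kind) (i : ℕ) : ∀ x ∈ K.gens.getD i idm, x < 256 := by
  rcases List.mem_cons.1 (getD_mem K.gens i) with e | e
  · rw [e]; exact idm_lt
  · exact gens_lt K _ e

theorem mat_nil (K : Kind) : K.mat [] = idm := rfl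

theorem mat_cons (K : Kind) (i : ℕ) (w : List ℕ) : K.mat (i :: w) = mu (K.gens.getD i idm) (K.mat w) := rfl

theorem mat_lt (K : Kind) (w : List ℕ) : ∀ x ∈ K.mat w, x < 256 := by
  induction w with
  | nil => exact idm_lt
  | cons i w ih =>
    rw [mat_cons]
    intro x hx
    obtain ⟨y, -, rfl⟩ := List.mem_map.1 hx
    exact app_lt (gen_lt K i) y

theorem mat_length (K : Kind) (w : List ℕ) : (K.mat w).length = 8 := by
  induction w with
  | nil => rfl
  | cons i w ih => rw [mat_cons, mu, List.length_map, ih]

theorem app_mat_lt (K : Kind) (w : List ℕ) (v : ℕ) : app (K.mat w) v < 256 := app_lt (mat_lt K w) v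

theorem app_mat_cons (K : Kind) (i : ℕ) (w : List ℕ) (v : ℕ) :
    app (K.mat (i :: w)) v = app (K.gens.getD i idm) (app (K.mat w) v) :=
  app_mu _ (mat_lt K w) v

theorem app_mat_append (K : Kind) (w w' : List ℕ) {v : ℕ} (hv : v < 256) :
    app (K.mat (w ++ w')) v = app (K.mat w) (app (K.mat w') v) := by
  induction w with
  | nil => rw [List.nil_append, mat_nil, app_idm _ (app_mat_lt K w' v)]
  | cons i w ih => rw [List.cons_append, app_mat_cons, ih, app_mat_cons]

theorem app_mat_nil (K : Kind) {v : ℕ} (hv : v < 256) : app (K.mat []) v = v := by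
  rw [mat_nil]; exact app_idm v hv

/-- A matrix is the list of the images of the unit vectors. -/
theorem map_app_idm {g : List ℕ} (hl : g.length = 8) : idm.map (app g) = g := by
  rcases g with _ | ⟨a, _ | ⟨b, _ | ⟨c, _ | ⟨d, _ | ⟨e, _ | ⟨f, _ | ⟨g, _ | ⟨h, _ | ⟨i, l⟩⟩⟩⟩⟩⟩⟩⟩⟩ <;>
    simp only [List.length_cons, List.length_nil] at hl <;>
    first | omega | simp [idm, app]

theorem list_ext {g h : List ℕ} (hg : g.length = 8) (hh : h.length = 8) (e : ∀ v < 256, app g v = app h v) :
    g = h := by
  rw [← map_app_idm hg, ← map_app_idm hh]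
  exact List.map_congr_left fun x hx => e x (idm_lt x hx)

theorem code_inj : ∀ {g h : List ℕ}, g.length = h.length → (∀ x ∈ g, x < 256) → (∀ x ∈ h, x < 256) →
    code g = code h → g = h := by
  intro g
  induction g with
  | nil => intro h hl _ _ _; exact (List.eq_nil_of_length_eq_zero hl.symm).symm
  | cons x g ih =>
    intro h hl hg hh e
    rcases h with _ | ⟨y, h⟩
    · exact absurd hl (by simp)
    have hx := hg x (List.mem_cons_self ..)
    have hy := hh y (List.mem_cons_self ..)
    simp only [code, List.foldr_cons] at e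
    have e1 : x = y := by omega
    have e2 : code g = code h := by unfold code; omega
    rw [e1, ih (by simpa using hl) (fun a ha => hg a (List.mem_cons_of_mem _ ha))
      (fun a ha => hh a (List.mem_cons_of_mem _ ha)) e2]

theorem mat_ext (K : Kind) {w w' : List ℕ} (e : ∀ v < 256, app (K.mat w) v = app (K.mat w') v) :
    K.mat w = K.mat w' :=
  list_ext (mat_length K w) (mat_length K w') e

theorem mat_eq_of_code (K : Kind) {w w' : List ℕ} (e : code (K.mat w) = code (K.mat w')) :
    K.mat w = K.mat w' :=
  code_inj (by rw [mat_length, mat_length]) (mat_lt K w) (mat_lt K w') e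

theorem mat_append_congr (K : Kind) {a a' b b' : List ℕ} (ha : K.mat a = K.mat a') (hb : K.mat b = K.mat b') :
    K.mat (a ++ b) = K.mat (a' ++ b') :=
  mat_ext K fun v hv => by rw [app_mat_append K a b hv, app_mat_append K a' b' hv, ha, hb]

theorem mat_append (K : Kind) (a b : List ℕ) : K.mat (a ++ b) = mu (K.mat a) (K.mat b) :=
  list_ext (mat_length K _) (by rw [mu, List.length_map, mat_length]) fun v hv => by
    rw [app_mat_append K a b hv, app_mu _ (mat_lt K b)]

theorem gens_q (K : Kind) : ∀ g ∈ K.gens, ∀ v < 256, K.q (app g v) = K.q v := by cases K <;> decide +kernel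

theorem mat_q (K : Kind) (w : List ℕ) {v : ℕ} (hv : v < 256) : K.q (app (K.mat w) v) = K.q v := by
  induction w with
  | nil => rw [app_mat_nil _ hv]
  | cons i w ih =>
    rw [app_mat_cons]
    rcases List.mem_cons.1 (getD_mem K.gens i) with e | e
    · rw [e, app_idm _ (app_mat_lt K w v), ih]
    · rw [gens_q K _ e _ (app_mat_lt K w v), ih]

theorem gens_OM : ∀ g ∈ idm :: mn, ∀ v < 256, app g (app OM v) = app OM (app g v) := by decide +kernel

theorem OM_lt : ∀ x ∈ OM, x < 256 := by decide

theorem app_mat_OM (w : List ℕ) {v : ℕ} (hv : v < 256) :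
    app (Kind.nat.mat w) (app OM v) = app OM (app (Kind.nat.mat w) v) := by
  induction w with
  | nil => rw [app_mat_nil _ (app_lt OM_lt v), app_mat_nil _ hv]
  | cons i w ih =>
    rw [app_mat_cons, ih, gens_OM _ (getD_mem Kind.nat.gens i) _ (app_mat_lt _ w v), app_mat_cons]

theorem mat_OM (w : List ℕ) : mu (Kind.nat.mat w) OM = mu OM (Kind.nat.mat w) :=
  list_ext (by rw [mu, List.length_map]; rfl) (by rw [mu, List.length_map, mat_length]) fun v hv => by
    rw [app_mu _ OM_lt, app_mu _ (mat_lt _ w), app_mat_OM w hv]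

end Cfsg.Agent.Fus.U62Red
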