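import Cfsg.Agent.Lib.Fus.U62Rec.Defs
import Cfsg.Agent.Lib.Block.FischerTypes.TwinOrth
import Cfsg.Agent.Lib.Fus.U62Red.Linear
import Cfsg.Agent.Lib.Fus.U62Red.FactsGroup

/-!
Recognition of `U₆(2)`, the reduction: the words as elements of `PSU₄(2)`.
-/

set_option autoImplicit false
set_option maxRecDepth 100000

namespace Cfsg.Agent.Fus.U62Red

open Matrix Cfsg Cfsg.Agent.Classical Cfsg.Agent.Spor.USixTwo
open Cfsg.Agent.Fus.U62Rec (Q4 E4)
open Cfsg.Agent.Invol.ExtraEight (app idm mu app_idm app_lt)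

/-- The vector of a number. -/
def vec (v : ℕ) : Fin 4 → K4 := fun i => K4.of (v / 4 ^ (i : ℕ) % 4)

/-- The matrix over the field of four elements of a linear map on numbers. -/
def toM (g : List ℕ) : Matrix (Fin 4) (Fin 4) K4 := Matrix.of fun i j => vec (app g (4 ^ (j : ℕ))) i

theorem vec_inj : ∀ u < 256, ∀ v < 256, vec u = vec v → u = v := by
  intro u hu v hv e
  have h : ∀ i : Fin 4, u / 4 ^ (i : ℕ) % 4 = v / 4 ^ (i : ℕ) % 4 := fun i => by
    have := congrArg (fun x : K4 => x.v.val) (congrFun e i)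
    simpa [vec, K4.of, Fin.val_ofNat, Nat.mod_mod] using this
  have h0 := h 0
  have h1 := h 1
  have h2 := h 2
  have h3 := h 3
  simp at h0 h1 h2 h3
  omega

theorem vec_surj (x : Fin 4 → K4) : ∃ v < 256, vec v = x := by
  have h0 := (x 0).v.2
  have h1 := (x 1).v.2
  have h2 := (x 2).v.2
  have h3 := (x 3).v.2
  have key : ∀ a : K4, K4.of a.v.val = a := by decide
  refine ⟨(x 0).v.val + 4 * (x 1).v.val + 16 * (x 2).v.val + 64 * (x 3).v.val, by omega, funext fun i => ?_⟩
  show K4.of _ = _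
  refine (congrArg K4.of ?_).trans (key (x i))
  fin_cases i <;> simp <;> omega

theorem gen_mulVec : ∀ g ∈ mn, ∀ v < 256, toM g *ᵥ vec v = vec (app g v) := by decide +kernel

theorem gen_su : ∀ g ∈ mn, (toM g).det = 1 ∧ (toM g)ᵀ * (toM g).map (fun a => a ^ 2) = 1 := by decide +kernel

/-- A generator in `SU₄(2)`. -/
def sgen (i : ℕ) : SU 4 K4 2 :=
  if h : mn.getD i idm ∈ mn then
    suMk K4.card_eq (toM (mn.getD i idm)) (gen_su _ h).1 (gen_su _ h).2
  else 1

theorem sgen_mulVec (i : ℕ) {v : ℕ} (hv : v < 256) :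
    suVal (sgen i) *ᵥ vec v = vec (app (mn.getD i idm) v) := by
  unfold sgen
  split
  · next h => exact gen_mulVec _ h v hv
  · next h =>
    have e := (List.mem_cons.1 (getD_mem mn i)).resolve_right h
    rw [e, app_idm v hv]
    exact Matrix.one_mulVec _

/-- The element of `SU₄(2)` of a word. -/
def sel : List ℕ → SU 4 K4 2
  | [] => 1
  | i :: w => sgen i * sel w

/-- The element of `U₄(2)` of a word. -/
def el (w : List ℕ) : Q4 := suToPSU 4 K4 2 (sel w)

theorem el_nil : el [] = 1 := map_one _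

theorem el_append (w w' : List ℕ) : el (w ++ w') = el w * el w' := by
  have h : ∀ w, sel (w ++ w') = sel w * sel w' := by
    intro w
    induction w with
    | nil => exact (one_mul _).symm
    | cons i w ih =>
      show sgen i * sel (w ++ w') = sgen i * sel w * sel w'
      rw [ih, mul_assoc]
  rw [el, h, map_mul]; rfl

theorem sel_mulVec (w : List ℕ) {v : ℕ} (hv : v < 256) :
    suVal (sel w) *ᵥ vec v = vec (app (Kind.nat.mat w) v) := by
  induction w with
  | nil => rw [app_mat_nil _ hv]; exact Matrix.one_mulVec _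
  | cons i w ih =>
    show suVal (sgen i * sel w) *ᵥ _ = _
    rw [suVal_mul, ← Matrix.mulVec_mulVec, ih, sgen_mulVec i (app_mat_lt _ w v), app_mat_cons]
    rfl

theorem suToPSU_inj : Function.Injective (suToPSU 4 K4 2) := by
  refine (MonoidHom.ker_eq_bot_iff _).1 (eq_bot_iff.2 fun s hs => Subgroup.mem_bot.2 ?_)
  rw [suToPSU, QuotientGroup.ker_mk'] at hs
  obtain ⟨c, hc⟩ := suVal_scalar_of_mem_center K4.card_eq hs
  have hd : (suVal s).det = 1 := s.1.2
  rw [hc, Matrix.scalar_apply, Matrix.det_diagonal, Finset.prod_const, Finset.card_univ, Fintype.card_fin] at hd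
  have hK : ∀ c : K4, c ^ 4 = 1 → c = 1 := by decide +kernel
  refine suVal_ext ?_
  rw [hc, hK c hd]
  exact map_one _

theorem el_eq_iff {w w' : List ℕ} : el w = el w' ↔ Kind.nat.mat w = Kind.nat.mat w' := by
  constructor
  · intro e
    refine mat_ext _ fun v hv => vec_inj _ (app_mat_lt _ w v) _ (app_mat_lt _ w' v) ?_
    rw [← sel_mulVec w hv, ← sel_mulVec w' hv, suToPSU_inj e]
  · intro e
    refine congrArg (suToPSU 4 K4 2) (suVal_ext (Matrix.ext_iff_mulVec.2 fun x => ?_))
    obtain ⟨v, hv, rfl⟩ := vec_surj x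
    rw [sel_mulVec w hv, sel_mulVec w' hv, e]

theorem el_eq_one_iff {w : List ℕ} : el w = 1 ↔ Kind.nat.mat w = idm := by
  rw [← el_nil, el_eq_iff]; rfl

theorem el_comm_iff {a b : List ℕ} : el a * el b = el b * el a ↔
    mu (Kind.nat.mat a) (Kind.nat.mat b) = mu (Kind.nat.mat b) (Kind.nat.mat a) := by
  rw [← el_append, ← el_append, el_eq_iff, mat_append, mat_append]

/-- The subgroup of a list of words with closed matrices. -/
def wordGroup (L : List (List ℕ)) (M : List (List ℕ)) (hM : L.map (Kind.nat.mat) = M) (h1 : [] ∈ L)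
    (h : (M.all fun a => M.all fun b => (M.map code).contains (code (mu a b))) = true) : Subgroup Q4 :=
  haveI := Fintype.ofFinite Q4
  have hmul : ∀ a ∈ L, ∀ b ∈ L, ∃ c ∈ L, el a * el b = el c := fun a ha b hb => by
    rw [List.all_eq_true] at h
    have h' := h _ (hM ▸ List.mem_map_of_mem ha)
    rw [List.all_eq_true] at h'
    have h'' := h' _ (hM ▸ List.mem_map_of_mem hb)
    rw [List.contains_iff_mem, List.mem_map] at h''
    obtain ⟨m, hm, e⟩ := h''
    rw [← hM, List.mem_map] at hm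
    obtain ⟨c, hc, rfl⟩ := hm
    refine ⟨c, hc, ?_⟩
    rw [← el_append, el_eq_iff]
    refine mat_eq_of_code _ ?_
    rw [mat_append, e]
  { carrier := {g | ∃ w ∈ L, el w = g}
    one_mem' := ⟨[], h1, el_nil⟩
    mul_mem' := by
      rintro _ _ ⟨a, ha, rfl⟩ ⟨b, hb, rfl⟩
      obtain ⟨c, hc, e⟩ := hmul a ha b hb
      exact ⟨c, hc, e.symm⟩
    inv_mem' := by
      rintro _ ⟨a, ha, rfl⟩
      have key : ∀ n : ℕ, ∃ w ∈ L, el w = el a ^ n := by
        intro n
        induction n with
        | zero => exact ⟨[], h1, by rw [pow_zero, el_nil]⟩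
        | succ n ih =>
          obtain ⟨w, hw, e⟩ := ih
          obtain ⟨c, hc, e'⟩ := hmul w hw a ha
          exact ⟨c, hc, by rw [pow_succ, ← e, e']⟩
      obtain ⟨w, hw, e⟩ := key (orderOf (el a) - 1)
      refine ⟨w, hw, e.trans (eq_inv_of_mul_eq_one_left ?_)⟩
      rw [← pow_succ, Nat.sub_add_cancel (orderOf_pos _), pow_orderOf_eq_one] }

theorem card_wordGroup (L : List (List ℕ)) (M : List (List ℕ)) (hM : L.map (Kind.nat.mat) = M) (h1 : [] ∈ L)
    (h : (M.all fun a => M.all fun b => (M.map code).contains (code (mu a b))) = true)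
    (hn : (M.map code).Nodup) : Nat.card ↥(wordGroup L M hM h1 h) = L.length := by
  classical
  have hL : (L.map el).Nodup := by
    rw [← hM, List.map_map] at hn
    refine List.Nodup.map_on (fun a ha b hb e => ?_) (List.Nodup.of_map _ hn)
    exact List.inj_on_of_nodup_map hn ha hb (congrArg code (el_eq_iff.1 e))
  have e : ((wordGroup L M hM h1 h : Subgroup Q4) : Set Q4) = ((L.map el).toFinset : Set Q4) := by
    ext g
    simp [wordGroup]
  rw [← SetLike.coe_sort_coe, Nat.card_coe_set_eq, e, Set.ncard_coe_finset, List.toFinset_card_of_nodup hL,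
    List.length_map]

/-- The Sylow 2-subgroup centralising the transvection. -/
def syl : Subgroup Q4 := wordGroup sylWords sylMats syl_words (List.mem_cons_self ..) syl_mul

theorem card_syl : Nat.card ↥syl = 64 :=
  card_wordGroup sylWords sylMats syl_words (List.mem_cons_self ..) syl_mul syl_nodup

theorem mem_syl {g : Q4} : g ∈ syl ↔ ∃ w ∈ sylWords, el w = g := Iff.rfl

theorem card_Q4 : Nat.card Q4 = 25920 := Block.FischerTypes.Twin.card_psu4

/-- The words give all of `U₄(2)`. -/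
theorem exists_word (g : Q4) : ∃ w, el w = g := by
  let W : Subgroup Q4 :=
    { carrier := Set.range el
      one_mem' := ⟨[], el_nil⟩
      mul_mem' := by
        rintro _ _ ⟨a, rfl⟩ ⟨b, rfl⟩
        exact ⟨a ++ b, el_append a b⟩
      inv_mem' := by
        rintro _ ⟨a, rfl⟩
        have key : ∀ n : ℕ, ∃ w, el w = el a ^ n := by
          intro n
          induction n with
          | zero => exact ⟨[], by rw [pow_zero, el_nil]⟩
          | succ n ih =>
            obtain ⟨w, e⟩ := ih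
            exact ⟨w ++ a, by rw [el_append, e, pow_succ]⟩
        obtain ⟨w, e⟩ := key (orderOf (el a) - 1)
        refine ⟨w, e.trans (eq_inv_of_mul_eq_one_left ?_)⟩
        rw [← pow_succ, Nat.sub_add_cancel (orderOf_pos _), pow_orderOf_eq_one] }
  have h64 : 64 ∣ Nat.card ↥W :=
    card_syl ▸ Subgroup.card_dvd_of_le (fun g ⟨w, _, e⟩ => ⟨w, e⟩)
  have h81 : 81 ∣ Nat.card ↥W := by
    have h := Subgroup.card_dvd_of_le (H := wordGroup threeWords threeMats three_words (List.mem_cons_self ..)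
      three_mul) (K := W) (fun g ⟨w, _, e⟩ => ⟨w, e⟩)
    rwa [card_wordGroup threeWords threeMats three_words (List.mem_cons_self ..) three_mul three_nodup,
      show threeWords.length = 81 from rfl] at h
  have h5 : 5 ∣ Nat.card ↥W := by
    haveI : Fact (Nat.Prime 5) := ⟨by norm_num⟩
    have ho : orderOf (⟨el [4, 3, 1], ⟨_, rfl⟩⟩ : ↥W) = 5 := by
      rw [← Subgroup.orderOf_coe]
      refine orderOf_eq_prime ?_ fun e => five_order.1 (el_eq_one_iff.1 e)
      show el [4, 3, 1] ^ 5 = 1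
      rw [pow_succ, pow_succ, pow_succ, pow_succ, pow_one, ← el_append, ← el_append, ← el_append, ← el_append]
      exact el_eq_one_iff.2 five_order.2
    exact ho ▸ orderOf_dvd_natCard _
  have hW : W = ⊤ := by
    refine Subgroup.eq_top_of_le_card _ ?_
    rw [card_Q4]
    refine Nat.le_of_dvd Nat.card_pos ?_
    exact (show Nat.Coprime (64 * 81) 5 by norm_num).mul_dvd_of_dvd_of_dvd
      ((show Nat.Coprime 64 81 by norm_num).mul_dvd_of_dvd_of_dvd h64 h81) h5
  exact (hW ▸ Subgroup.mem_top g : g ∈ W)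

/-- The transvection. -/
def tT : Q4 := el wT

/-- The other involution. -/
def tP : Q4 := el wP

theorem root_data : ∀ n < 256, (hermForm 4 K4 2 (vec n) (vec n) = 0 → Kind.q .nat n = false) ∧
    vec (app (Kind.nat.mat wT) n) = vec n + hermForm 4 K4 2 (vec n) (vec 5) • vec 5 := by decide +kernel

theorem orbN_cover : ∀ n < 256, Kind.q .nat n = false → n = 0 ∨
    (orbN.any fun w => app (Kind.nat.mat w) n == 5) = true := by decide +kernel

/-- Every transvection is a conjugate of the standard one. -/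
theorem E4_conj {e : Q4} (he : e ∈ E4) : ∃ g : Q4, g * e * g⁻¹ = tT := by
  obtain ⟨v, hv0, hv, rfl⟩ := he
  obtain ⟨n, hn, rfl⟩ := vec_surj v
  have h0 : n ≠ 0 := fun e => hv0 (by subst e; funext i; simp [vec]; rfl)
  obtain ⟨w, -, hw⟩ := List.any_eq_true.1 ((orbN_cover n hn ((root_data n hn).1 hv)).resolve_left h0)
  refine ⟨el w, ?_⟩
  show suToPSU 4 K4 2 (sel w) * suToPSU 4 K4 2 (Spor.UnitTwo.tv _ hv) * (suToPSU 4 K4 2 (sel w))⁻¹ = _
  rw [← map_mul, ← map_inv, ← map_mul]
  refine congrArg _ ?_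
  rw [Spor.UnitTwo.suVal_conj]
  refine suVal_ext (Matrix.ext_iff_mulVec.2 fun x => ?_)
  obtain ⟨m, hm, rfl⟩ := vec_surj x
  rw [Spor.UnitTwo.suVal_tv, Spor.UnitTwo.T_apply U62Rec.k4_card, sel_mulVec wT hm, (root_data m hm).2,
    sel_mulVec w hn, beq_iff_eq.1 hw]

theorem E4_conj_mem (g : Q4) {e : Q4} (he : e ∈ E4) : g * e * g⁻¹ ∈ E4 := by
  obtain ⟨v, hv0, hv, rfl⟩ := he
  obtain ⟨s, rfl⟩ := QuotientGroup.mk_surjective g
  refine ⟨suVal s *ᵥ v, fun h0 => hv0 ?_, _, congrArg (suToPSU 4 K4 2) (Spor.UnitTwo.suVal_conj U62Rec.k4_card s hv).symm⟩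
  have h := congrArg (suVal s⁻¹ *ᵥ ·) h0
  simp only [Matrix.mulVec_mulVec, ← suVal_mul, inv_mul_cancel, Matrix.mulVec_zero] at h
  rw [← Matrix.one_mulVec v]
  exact h

theorem tT_mem : tT ∈ E4 := by
  have h5 : hermForm 4 K4 2 (vec 5) (vec 5) = 0 := by decide +kernel
  have hne : vec 5 ≠ 0 := fun e => absurd (congrFun e 0) (by decide +kernel)
  refine ⟨vec 5, hne, h5, congrArg _ (suVal_ext (Matrix.ext_iff_mulVec.2 fun x => ?_))⟩
  obtain ⟨m, hm, rfl⟩ := vec_surj x
  rw [Spor.UnitTwo.suVal_tv, Spor.UnitTwo.T_apply U62Rec.k4_card, sel_mulVec wT hm, (root_data m hm).2]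

end Cfsg.Agent.Fus.U62Red
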