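import Cfsg.Agent.Lib.Fus.U62Red.Gens
import Cfsg.Agent.Lib.Fus.U62Red.FactsMod
import Mathlib.Algebra.BigOperators.GroupWithZero.Action

/-!
Recognition of `U₆(2)`, the reduction: faithful orthogonal modules of dimension eight of `U₄(2)`, decomposed
by the diagonal subgroup of order 27.
-/

set_option autoImplicit false

namespace Cfsg.Agent.Fus.U62Red

open Cfsg.Agent.Fus.U62Rec (Q4)
open Cfsg.Agent.Invol.ExtraEight (app idm mu)

/-- The polarisation of a function to `Bool`. -/
def polar {V : Type*} [AddCommGroup V] (q : V → Bool) (x y : V) : Bool := q (x + y) ^^ q x ^^ q y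

/-- An orthogonal faithful module of dimension eight. -/
structure Mod (V : Type*) [AddCommGroup V] where
  ρ : Q4 → V →+ V
  q : V → Bool
  mul : ∀ g h x, ρ (g * h) x = ρ g (ρ h x)
  one : ∀ x, ρ 1 x = x
  two : ∀ x : V, x + x = 0
  card : Nat.card V = 256
  q_inv : ∀ g x, q (ρ g x) = q x
  q_zero : q 0 = false
  polar_add : ∀ x y w, polar q (x + y) w = (polar q x w ^^ polar q y w)
  nondeg : ∀ x, x ≠ 0 → ∃ y, polar q x y = true
  faith : ∀ g, (∀ x, ρ g x = x) → g = 1

theorem el_replicate (i n : ℕ) : el (List.replicate n i) = el [i] ^ n := by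
  induction n with
  | zero => rw [pow_zero, List.replicate_zero, el_nil]
  | succ n ih => rw [List.replicate_succ, pow_succ', ← ih, ← el_append]; rfl

theorem el_flatten (w : List ℕ) (n : ℕ) : el (List.replicate n w).flatten = el w ^ n := by
  induction n with
  | zero => rw [pow_zero, List.replicate_zero, List.flatten_nil, el_nil]
  | succ n ih => rw [List.replicate_succ, List.flatten_cons, el_append, ih, pow_succ']

theorem diag_facts : el [0] * el [1] = el [1] * el [0] ∧ el [0] * el wE3 = el wE3 * el [0] ∧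
    el [1] * el wE3 = el wE3 * el [1] ∧ el [0] ^ 3 = 1 ∧ el [1] ^ 3 = 1 ∧ el wE3 ^ 3 = 1 := by
  obtain ⟨h1, h2, h3, h4, h5, h6⟩ := diag_words
  refine ⟨?_, ?_, ?_, ?_, ?_, ?_⟩
  all_goals first
    | (rw [← el_append, ← el_append]; exact el_eq_iff.2 (by assumption))
    | (rw [pow_succ, pow_two, ← el_append, ← el_append]; exact el_eq_one_iff.2 (by assumption))

theorem pow_val_add {g : Q4} (h : g ^ 3 = 1) (a b : ZMod 3) : g ^ (a + b).val = g ^ a.val * g ^ b.val := by
  rw [ZMod.val_add, ← pow_add]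
  exact (pow_eq_pow_mod _ h).symm

/-- The diagonal element of an exponent vector. -/
def ev (e : Ev) : Q4 := el (evw e)

theorem ev_eq (e : Ev) : ev e = el [0] ^ e.1.val * (el [1] ^ e.2.1.val * el wE3 ^ e.2.2.val) := by
  rw [ev, evw, ew, el_append, el_append, el_replicate, el_replicate, el_flatten, mul_assoc]

theorem ev_add (a b : Ev) : ev (a + b) = ev a * ev b := by
  obtain ⟨c1, c2, c3, o1, o2, o3⟩ := diag_facts
  rw [ev_eq, ev_eq a, ev_eq b]
  show el [0] ^ (a.1 + b.1).val * (el [1] ^ (a.2.1 + b.2.1).val * el wE3 ^ (a.2.2 + b.2.2).val) = _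
  rw [pow_val_add o1, pow_val_add o2, pow_val_add o3]
  have k1 : Commute (el [1] ^ a.2.1.val * el wE3 ^ a.2.2.val) (el [0] ^ b.1.val) :=
    ((Commute.pow_pow (Commute.symm c1) _ _).mul_left (Commute.pow_pow (Commute.symm c2) _ _))
  have k2 : Commute (el wE3 ^ a.2.2.val) (el [1] ^ b.2.1.val) := Commute.pow_pow (Commute.symm c3) _ _
  rw [k1.mul_mul_mul_comm, k2.mul_mul_mul_comm]

theorem ev_zero : ev 0 = 1 := by
  rw [ev_eq]; simp

theorem lv_add : ∀ l e k : Ev, lv l (e + k) = lv l e + lv l k := fun l e k => by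
  simp only [lv, Prod.fst_add, Prod.snd_add]; ring

theorem phi_add (i : ℕ) (a b : Ev) : phi i (a + b) = phi i a + phi i b := by
  rcases i with _ | _ | _ | _ | i
  · rfl
  · rfl
  all_goals
    first
      | rfl
      | (refine Prod.ext ?_ (Prod.ext ?_ ?_) <;> simp [phi] <;> ring)

theorem phi_bij (i : ℕ) : Function.Bijective (phi i) := by
  rcases i with _ | _ | _ | _ | i
  · exact Function.bijective_id
  · exact Function.bijective_id
  · exact (by decide +kernel : Function.Bijective (phi 2))
  · exact (by decide +kernel : Function.Bijective (phi 3))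
  · exact Function.bijective_id

theorem phiw_bij : ∀ w : List ℕ, Function.Bijective (phiw w)
  | [] => Function.bijective_id
  | i :: w => (phi_bij i).comp (phiw_bij w)

theorem conj_gen {s : ℕ} (hs : s ∈ [2, 3]) (e : Ev) : el [s] * ev e = ev (phi s e) * el [s] := by
  have base : ∀ b ∈ ([(1, 0, 0), (0, 1, 0), (0, 0, 1)] : List Ev), el [s] * ev b = ev (phi s b) * el [s] :=
    fun b hb => by
      rw [ev, ev, ← el_append, ← el_append]
      exact el_eq_iff.2 (phi_words s hs b hb)
  let P : Ev → Prop := fun e => el [s] * ev e = ev (phi s e) * el [s]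
  have hadd : ∀ a b, P a → P b → P (a + b) := fun a b ha hb => by
    show _ = _
    rw [phi_add, ev_add, ev_add, ← mul_assoc, ha, mul_assoc, hb, mul_assoc]
  have h0 : P 0 := by
    show _ = _
    have hp : phi s 0 = 0 := add_eq_left.1 (((phi_add s 0 0).symm).trans (by rw [add_zero]))
    rw [hp, ev_zero, one_mul, mul_one]
  have hs' : ∀ (b : Ev), P b → ∀ n : ℕ, P (n • b) := fun b hb n => by
    induction n with
    | zero => rw [zero_smul]; exact h0
    | succ n ih => rw [succ_nsmul]; exact hadd _ _ ih hb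
  have he : e = e.1.val • ((1, 0, 0) : Ev) + (e.2.1.val • ((0, 1, 0) : Ev) + e.2.2.val • ((0, 0, 1) : Ev)) := by
    refine Prod.ext ?_ (Prod.ext ?_ ?_) <;> simp
  rw [he]
  exact hadd _ _ (hs' _ (base _ (by simp)) _)
    (hadd _ _ (hs' _ (base _ (by simp)) _) (hs' _ (base _ (by simp)) _))

theorem conj_word : ∀ w : List ℕ, (∀ i ∈ w, i ∈ [2, 3]) → ∀ e, el w * ev e = ev (phiw w e) * el w
  | [], _, e => by rw [el_nil, one_mul, mul_one]; rfl
  | i :: w, h, e => by
    have hw : el (i :: w) = el [i] * el w := el_append [i] w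
    rw [hw, mul_assoc, conj_word w (fun j hj => h j (List.mem_cons_of_mem _ hj)), ← mul_assoc,
      conj_gen (h i (List.mem_cons_self ..)), mul_assoc]
    rfl

theorem ker_card : ∀ l ∈ allLines, (Finset.univ.filter fun e => lv l e = 0).card = 9 := by decide +kernel

/-- Words reaching each line of an orbit from each. -/
def moveW : List (List ℕ) :=
  [[], [3], [3, 3], [3, 3, 3]] ++
    ([[], [3], [3, 3], [3, 3, 3]] : List (List ℕ)).flatMap fun a =>
      ([[], [3], [3, 3], [3, 3, 3]] : List (List ℕ)).map fun b => a ++ [2] ++ b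

theorem moveW_mem : ∀ w ∈ moveW, ∀ i ∈ w, i ∈ [2, 3] := by decide +kernel

theorem orbit_moves : ∀ L ∈ [natLines, redLines, sixLines], ∀ l ∈ L, ∀ k ∈ L, ∃ w ∈ moveW,
    ∀ e, lv k (phiw w e) = 0 ↔ lv l e = 0 := by decide +kernel

namespace Mod

variable {V : Type*} [AddCommGroup V] (M : Mod V)

include M in
theorem finite : Finite V := Nat.finite_of_card_ne_zero (by rw [M.card]; norm_num)

/-- The action of the diagonal subgroup. -/
def act (e : Ev) : V →+ V := M.ρ (ev e)

theorem act_add (a b : Ev) (x : V) : M.act (a + b) x = M.act a (M.act b x) := by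
  rw [act, ev_add, M.mul]; rfl

theorem act_zero (x : V) : M.act 0 x = x := by rw [act, ev_zero, M.one]

include M in
theorem nsmul_parity (n : ℕ) (x : V) : n • x = if n % 2 = 1 then x else 0 := by
  induction n with
  | zero => simp
  | succ n ih =>
    rw [succ_nsmul, ih]
    rcases Nat.mod_two_eq_zero_or_one n with h | h
    · simp [h, show (n + 1) % 2 = 1 by omega]
    · simp [h, show (n + 1) % 2 = 0 by omega, M.two]

/-- The projection on the fixed points. -/
noncomputable def S : V →+ V := ∑ e : Ev, M.act e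

/-- The sum over the kernel of a line. -/
noncomputable def Kl (l : Ev) : V →+ V := ∑ e ∈ Finset.univ.filter (fun e => lv l e = 0), M.act e

theorem S_apply (x : V) : M.S x = ∑ e : Ev, M.act e x := by
  rw [S, AddMonoidHom.finsetSum_apply]

theorem Kl_apply (l : Ev) (x : V) : M.Kl l x = ∑ e ∈ Finset.univ.filter (fun e => lv l e = 0), M.act e x := by
  rw [Kl, AddMonoidHom.finsetSum_apply]

theorem act_S (a : Ev) (x : V) : M.act a (M.S x) = M.S x := by
  rw [S_apply, map_sum]
  exact Fintype.sum_bijective (fun e => a + e) (AddGroup.addLeft_bijective a) _ _ fun e => (M.act_add a e x).symm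

theorem S_act (a : Ev) (x : V) : M.S (M.act a x) = M.S x := by
  rw [S_apply, S_apply]
  exact Fintype.sum_bijective (fun e => e + a) (AddGroup.addRight_bijective a) _ _
    fun e => (M.act_add e a x).symm

theorem act_Kl_comm (a : Ev) (l : Ev) (x : V) : M.act a (M.Kl l x) = M.Kl l (M.act a x) := by
  rw [Kl_apply, Kl_apply, map_sum]
  refine Finset.sum_congr rfl fun e _ => ?_
  rw [← act_add, ← act_add, add_comm]

theorem act_Kl {l a : Ev} (ha : lv l a = 0) (x : V) : M.act a (M.Kl l x) = M.Kl l x := by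
  rw [Kl_apply, map_sum]
  refine Finset.sum_nbij' (fun e => a + e) (fun e => -a + e) ?_ ?_ ?_ ?_ fun e _ => (M.act_add a e x).symm
  · intro e he
    simp [Finset.mem_filter] at he ⊢
    rw [lv_add, ha, he, add_zero]
  · intro e he
    simp [Finset.mem_filter] at he ⊢
    have h := lv_add l a (-a + e)
    rw [add_neg_cancel_left, he, ha, zero_add] at h
    exact h.symm
  · intro e _; simp
  · intro e _; simp

theorem S_of_fixed {x : V} (h : ∀ e, M.act e x = x) : M.S x = x := by
  rw [S_apply, Finset.sum_congr rfl fun e _ => h e, Finset.sum_const, M.nsmul_parity]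
  rfl

theorem S_S (x : V) : M.S (M.S x) = M.S x := M.S_of_fixed fun e => M.act_S e x

theorem Kl_fixed {l : Ev} (hl : l ∈ allLines) {x : V} (h : ∀ e, lv l e = 0 → M.act e x = x) : M.Kl l x = x := by
  rw [Kl_apply, Finset.sum_congr rfl fun e he => h e (Finset.mem_filter.1 he).2, Finset.sum_const, ker_card l hl,
    M.nsmul_parity]
  rfl

theorem S_Kl {l : Ev} (hl : l ∈ allLines) (x : V) : M.S (M.Kl l x) = M.S x := by
  rw [Kl_apply, map_sum, Finset.sum_congr rfl fun e _ => M.S_act e x, Finset.sum_const, ker_card l hl,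
    M.nsmul_parity]
  rfl

/-- The projection on a line. -/
noncomputable def proj (l : Ev) : V →+ V := M.Kl l + M.S

theorem proj_apply (l : Ev) (x : V) : M.proj l x = M.Kl l x + M.S x := rfl

/-- The part of a line. -/
def U (l : Ev) : AddSubgroup V where
  carrier := {x | (∀ e, lv l e = 0 → M.act e x = x) ∧ M.S x = 0}
  zero_mem' := ⟨fun e _ => map_zero _, map_zero _⟩
  add_mem' := fun hx hy => ⟨fun e he => by rw [map_add, hx.1 e he, hy.1 e he], by rw [map_add, hx.2, hy.2, add_zero]⟩
  neg_mem' := fun hx => ⟨fun e he => by rw [map_neg, hx.1 e he], by rw [map_neg, hx.2, neg_zero]⟩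

/-- The fixed points. -/
def V0 : AddSubgroup V where
  carrier := {x | ∀ e, M.act e x = x}
  zero_mem' := fun _ => map_zero _
  add_mem' := fun hx hy e => by rw [map_add, hx e, hy e]
  neg_mem' := fun hx e => by rw [map_neg, hx e]

theorem mem_U {l : Ev} {x : V} : x ∈ M.U l ↔ (∀ e, lv l e = 0 → M.act e x = x) ∧ M.S x = 0 := Iff.rfl

theorem mem_V0 {x : V} : x ∈ M.V0 ↔ ∀ e, M.act e x = x := Iff.rfl

theorem proj_mem {l : Ev} (hl : l ∈ allLines) (x : V) : M.proj l x ∈ M.U l :=
  M.mem_U.2 ⟨fun e he => by rw [proj_apply, map_add, M.act_Kl he, M.act_S],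
    by rw [proj_apply, map_add, M.S_Kl hl, M.S_S, M.two]⟩

theorem proj_self {l : Ev} (hl : l ∈ allLines) {x : V} (h : x ∈ M.U l) : M.proj l x = x := by
  rw [proj_apply, M.Kl_fixed hl h.1, h.2, add_zero]

theorem proj_V0 {l : Ev} (hl : l ∈ allLines) {x : V} (h : x ∈ M.V0) : M.proj l x = 0 := by
  rw [proj_apply, M.Kl_fixed hl fun e _ => h e, M.S_of_fixed h, M.two]

theorem proj_other {l k : Ev} (hl : l ∈ allLines) (hk : k ∈ allLines) (hne : l ≠ k) {x : V} (h : x ∈ M.U k) :
    M.proj l x = 0 := by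
  rw [proj_apply, h.2, add_zero]
  obtain ⟨d, hd1, hd2⟩ := line_indep l hl k hk hne
  have hall : ∀ e, M.act e (M.Kl l x) = M.Kl l x := fun e => by
    have hlv : ∀ n : ℕ, lv l (n • d) = 0 ∧ lv k (n • d) = n := by
      intro n
      induction n with
      | zero => simp [lv]
      | succ n ih => rw [succ_nsmul, lv_add, lv_add, ih.1, ih.2, hd1, hd2]; simp
    obtain ⟨a, b, rfl, ha, hb⟩ : ∃ a b, e = a + b ∧ lv l a = 0 ∧ lv k b = 0 := by
      refine ⟨(lv k e).val • d, e - (lv k e).val • d, by abel, (hlv _).1, ?_⟩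
      have h2 := lv_add k (e - (lv k e).val • d) ((lv k e).val • d)
      rw [sub_add_cancel, (hlv _).2, ZMod.natCast_zmod_val] at h2
      exact right_eq_add.1 h2
    rw [act_add, M.act_Kl_comm b, h.1 b hb, M.act_Kl ha]
  rw [← M.S_of_fixed hall, M.S_Kl hl, h.2]

theorem decomp (x : V) : x = M.S x + (allLines.map fun l => M.proj l x).sum := by
  have hsum : ∀ L : List Ev, (L.map fun l => M.proj l x).sum =
      (∑ e : Ev, (L.countP fun l => lv l e == 0) • M.act e x) + L.length • M.S x := by
    intro L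
    induction L with
    | nil => simp
    | cons l L ih =>
      have e1 : ∀ e : Ev, (List.countP (fun l => lv l e == 0) (l :: L)) • M.act e x =
          (if lv l e = 0 then M.act e x else 0) + (List.countP (fun l => lv l e == 0) L) • M.act e x := by
        intro e
        rw [List.countP_cons, add_smul, add_comm]
        by_cases h : lv l e = 0 <;> simp [h]
      rw [List.map_cons, List.sum_cons, ih, Finset.sum_congr rfl fun e _ => e1 e, Finset.sum_add_distrib,
        List.length_cons, succ_nsmul, proj_apply, Kl_apply, Finset.sum_filter]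
      abel
  rw [hsum, Finset.sum_congr rfl fun e _ => by rw [M.nsmul_parity, line_count e],
    M.nsmul_parity, Finset.sum_eq_single (0 : Ev) (fun e _ he => by simp [he])
      (fun h => absurd (Finset.mem_univ _) h), if_pos (show allLines.length % 2 = 1 from rfl)]
  simp only [↓reduceIte, act_zero]
  rw [add_left_comm, M.two, add_zero]

/-- What is spanned by the fixed points and some lines. -/
def T (L : List Ev) : AddSubgroup V where
  carrier := {x | ∀ k ∈ allLines, k ∉ L → M.proj k x = 0}
  zero_mem' := fun _ _ _ => map_zero _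
  add_mem' := fun hx hy k hk hn => by rw [map_add, hx k hk hn, hy k hk hn, add_zero]
  neg_mem' := fun hx k hk hn => by rw [map_neg, hx k hk hn, neg_zero]

theorem T_nil : M.T [] = M.V0 := by
  ext x
  refine ⟨fun h => ?_, fun h k hk _ => M.proj_V0 hk h⟩
  have e := M.decomp x
  rw [List.sum_eq_zero (fun y hy => by
    obtain ⟨k, hk, rfl⟩ := List.mem_map.1 hy
    exact h k hk List.not_mem_nil), add_zero] at e
  exact M.mem_V0.2 fun a => by rw [e, M.act_S]

theorem T_top {L : List Ev} (h : ∀ k ∈ allLines, k ∈ L) : M.T L = ⊤ :=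
  eq_top_iff.2 fun _ _ k hk hn => absurd (h k hk) hn

theorem card_T : ∀ L : List Ev, L.Nodup → (∀ k ∈ L, k ∈ allLines) →
    Nat.card ↥(M.T L) = (L.map fun l => Nat.card ↥(M.U l)).prod * Nat.card ↥M.V0
  | [], _, _ => by rw [List.map_nil, List.prod_nil, one_mul, M.T_nil]
  | l :: L, hn, hL => by
    have hl : l ∈ allLines := hL l (List.mem_cons_self ..)
    have hlL : l ∉ L := (List.nodup_cons.1 hn).1
    rw [List.map_cons, List.prod_cons, mul_assoc,
      ← card_T L (List.nodup_cons.1 hn).2 fun k hk => hL k (List.mem_cons_of_mem _ hk), ← Nat.card_prod]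
    refine Nat.card_congr
      { toFun := fun x => (⟨M.proj l x, M.proj_mem hl x⟩, ⟨x + M.proj l x, fun k hk hk' => ?_⟩)
        invFun := fun p => ⟨p.1 + p.2, fun k hk hk' => ?_⟩
        left_inv := fun x => Subtype.ext (by
          show M.proj l x + (x + M.proj l x) = x
          rw [add_left_comm, M.two, add_zero])
        right_inv := fun p => ?_ }
    · by_cases e : k = l
      · subst e; rw [map_add, M.proj_self hl (M.proj_mem hl x), M.two]
      · rw [map_add, M.proj_other hk hl e (M.proj_mem hl x), add_zero]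
        exact x.2 k hk fun h => (List.mem_cons.1 h).elim e hk'
    · have e : k ≠ l := fun e => hk' (e ▸ List.mem_cons_self ..)
      rw [map_add, M.proj_other hk hl e p.1.2, zero_add]
      exact p.2.2 k hk fun h => hk' (List.mem_cons_of_mem _ h)
    · have e1 : M.proj l ((p.1 : V) + p.2) = p.1 := by
        rw [map_add, M.proj_self hl p.1.2, p.2.2 l hl hlL, add_zero]
      refine Prod.ext (Subtype.ext e1) (Subtype.ext ?_)
      show (p.1 : V) + p.2 + M.proj l ((p.1 : V) + p.2) = p.2
      rw [e1, add_right_comm, M.two, zero_add]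

theorem ρ_injective (g : Q4) : Function.Injective (M.ρ g) := fun x y h => by
  rw [← M.one x, ← M.one y, ← inv_mul_cancel g, M.mul, M.mul, h]

theorem S_move {w : List ℕ} (hw : ∀ i ∈ w, i ∈ [2, 3]) (x : V) : M.S (M.ρ (el w) x) = M.ρ (el w) (M.S x) := by
  rw [S_apply, S_apply, map_sum]
  refine (Fintype.sum_bijective (phiw w) (phiw_bij w) _ _ fun e => ?_).symm
  rw [act, act, ← M.mul, ← M.mul, conj_word w hw]

theorem move_mem {w : List ℕ} (hw : ∀ i ∈ w, i ∈ [2, 3]) {l k : Ev}
    (h : ∀ e, lv k (phiw w e) = 0 ↔ lv l e = 0) {x : V} (hx : x ∈ M.U l) : M.ρ (el w) x ∈ M.U k := by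
  refine M.mem_U.2 ⟨fun e he => ?_, by rw [M.S_move hw, hx.2, map_zero]⟩
  obtain ⟨d, rfl⟩ := (phiw_bij w).2 e
  rw [act, ← M.mul, ← conj_word w hw, M.mul]
  exact congrArg _ (hx.1 d ((h d).1 he))

theorem card_U_eq {L : List Ev} (hL : L ∈ [natLines, redLines, sixLines]) {l k : Ev} (hl : l ∈ L) (hk : k ∈ L) :
    Nat.card ↥(M.U l) = Nat.card ↥(M.U k) := by
  haveI := M.finite
  have h : ∀ a ∈ L, ∀ b ∈ L, Nat.card ↥(M.U a) ≤ Nat.card ↥(M.U b) := fun a ha b hb => by
    obtain ⟨w, hw, he⟩ := orbit_moves L hL a ha b hb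
    exact Nat.card_le_card_of_injective (fun x => ⟨M.ρ (el w) x, M.move_mem (moveW_mem w hw) he x.2⟩)
      fun x y e => Subtype.ext (M.ρ_injective _ (congrArg Subtype.val e))
  exact le_antisymm (h l hl k hk) (h k hk l hl)

theorem fixed_line {l : Ev} {x : V} (hx : x ∈ M.U l) {g : Ev} (hg : lv l g = 1) (h : M.act g x = x) : x = 0 := by
  have hp : ∀ n : ℕ, M.act (n • g) x = x ∧ lv l (n • g) = n := by
    intro n
    induction n with
    | zero => rw [zero_smul]; exact ⟨M.act_zero x, by simp [lv]⟩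
    | succ n ih => rw [succ_nsmul, act_add, h, lv_add, ih.2, hg]; exact ⟨ih.1, by simp⟩
  rw [← hx.2, M.S_of_fixed]
  intro e
  have he : lv l (e - (lv l e).val • g) = 0 := by
    have h2 := lv_add l (e - (lv l e).val • g) ((lv l e).val • g)
    rw [sub_add_cancel, (hp _).2, ZMod.natCast_zmod_val] at h2
    exact right_eq_add.1 h2
  rw [← sub_add_cancel e ((lv l e).val • g), act_add, (hp _).1, hx.1 _ he]

theorem card_U_cases {l : Ev} (hl : l ∈ allLines) :
    Nat.card ↥(M.U l) = 1 ∨ Nat.card ↥(M.U l) = 4 ∨ 8 ≤ Nat.card ↥(M.U l) := by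
  classical
  haveI := M.finite
  have hdvd : Nat.card ↥(M.U l) ∣ 2 ^ 8 := by
    rw [show (2 : ℕ) ^ 8 = Nat.card V by rw [M.card]; norm_num]
    exact AddSubgroup.card_addSubgroup_dvd_card _
  obtain ⟨n, -, hn⟩ := (Nat.dvd_prime_pow Nat.prime_two).1 hdvd
  rcases n with _ | _ | _ | n
  · exact Or.inl hn
  · exfalso
    haveI : Finite ↥(M.U l) := inferInstance
    obtain ⟨⟨x, hx⟩, hne⟩ : ∃ x : ↥(M.U l), x ≠ 0 := by
      haveI : Nontrivial ↥(M.U l) := Finite.one_lt_card_iff_nontrivial.1 (by rw [hn]; norm_num)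
      exact exists_ne 0
    obtain ⟨g, hg⟩ := line_zero.2 l hl
    have hgx : M.act g x ∈ M.U l :=
      M.mem_U.2 ⟨fun e he => by rw [← act_add, add_comm, act_add, hx.1 e he],
        by rw [M.S_act, hx.2]⟩
    have hx0 : x ≠ 0 := fun e => hne (Subtype.ext e)
    rw [zero_add, pow_one, Nat.card_eq_two_iff' (⟨0, zero_mem _⟩ : ↥(M.U l))] at hn
    have he : (⟨M.act g x, hgx⟩ : ↥(M.U l)) = ⟨x, hx⟩ := hn.unique
      (fun e => hx0 (M.ρ_injective _ ((congrArg Subtype.val e).trans (map_zero _).symm)))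
      (fun e => hx0 (congrArg Subtype.val e))
    exact hx0 (M.fixed_line hx hg (congrArg Subtype.val he))
  · exact Or.inr (Or.inl hn)
  · refine Or.inr (Or.inr ?_)
    rw [hn]
    calc 8 = 2 ^ 3 := by norm_num
      _ ≤ _ := Nat.pow_le_pow_right (by norm_num) (by omega)

/-- The natural and the reducible case. -/
theorem dichotomy : ((∀ l ∈ natLines, Nat.card ↥(M.U l) = 4) ∧ Nat.card ↥M.V0 = 1) ∨
    ((∀ l ∈ redLines, Nat.card ↥(M.U l) = 4) ∧ Nat.card ↥M.V0 = 4) := by
  haveI := M.finite
  have hT := M.card_T allLines line_zero.1 fun k hk => hk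
  rw [M.T_top fun k hk => hk, AddSubgroup.card_top, M.card] at hT
  set a := Nat.card ↥(M.U (1, 0, 0))
  set b := Nat.card ↥(M.U (0, 1, 0))
  set c := Nat.card ↥(M.U (2, 2, 0))
  have ha : ∀ l ∈ natLines, Nat.card ↥(M.U l) = a := fun l hl => M.card_U_eq (by simp) hl (by decide)
  have hb : ∀ l ∈ redLines, Nat.card ↥(M.U l) = b := fun l hl => M.card_U_eq (by simp) hl (by decide)
  have hc : ∀ l ∈ sixLines, Nat.card ↥(M.U l) = c := fun l hl => M.card_U_eq (by simp) hl (by decide)
  simp only [allLines, List.map_append, List.prod_append] at hT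
  rw [List.map_congr_left ha, List.map_congr_left hb, List.map_congr_left hc] at hT
  simp only [List.map_const', List.prod_replicate] at hT
  rw [show natLines.length = 4 from rfl, show redLines.length = 3 from rfl,
    show sixLines.length = 6 from rfl] at hT
  have hv : 0 < Nat.card ↥M.V0 := Nat.card_pos
  have ha' := M.card_U_cases (l := (1, 0, 0)) (by decide)
  have hb' := M.card_U_cases (l := (0, 1, 0)) (by decide)
  have hc' : c = 1 := by
    rcases M.card_U_cases (l := (2, 2, 0)) (by decide) with h | h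
    · exact h
    exfalso
    have h4 : 4 ^ 6 ≤ c ^ 6 := Nat.pow_le_pow_left (by rcases h with h | h <;> omega) 6
    have ha1 : 1 ≤ a ^ 4 := Nat.one_le_pow _ _ Nat.card_pos
    have hb1 : 1 ≤ b ^ 3 := Nat.one_le_pow _ _ Nat.card_pos
    nlinarith [Nat.mul_le_mul (Nat.mul_le_mul ha1 hb1) h4]
  rw [hc', one_pow, mul_one] at hT
  rcases ha' with h1 | h1 | h1 <;> rcases hb' with h2 | h2 | h2
  · exfalso
    change a = 1 at h1; change b = 1 at h2
    rw [h1, h2] at hT
    have hall : ∀ x : V, x ∈ M.V0 := fun x => by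
      have htop : M.V0 = ⊤ := AddSubgroup.eq_top_of_le_card _ (by rw [M.card]; simp at hT; omega)
      rw [htop]; exact AddSubgroup.mem_top x
    have h0 : ev (1, 0, 0) = 1 := M.faith _ fun x => hall x _
    rw [ev, el_eq_one_iff] at h0
    exact absurd h0 (by decide +kernel)
  · refine Or.inr ⟨fun l hl => (hb l hl).trans h2, ?_⟩
    change a = 1 at h1; change b = 4 at h2
    rw [h1, h2] at hT; omega
  · exfalso
    change a = 1 at h1; change 8 ≤ b at h2
    rw [h1] at hT
    nlinarith [Nat.pow_le_pow_left h2 3]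
  · refine Or.inl ⟨fun l hl => (ha l hl).trans h1, ?_⟩
    change a = 4 at h1; change b = 1 at h2
    rw [h1, h2] at hT; omega
  all_goals
    exfalso
    have h3 : 4 ≤ a := by
      show 4 ≤ Nat.card ↥(M.U (1, 0, 0))
      omega
    have h5 := Nat.pow_le_pow_left h3 4
    first
      | (change b = 1 at h2; rw [h2] at hT
         have h8 : 8 ≤ a := h1
         nlinarith [Nat.pow_le_pow_left h8 4])
      | (have h6 : 4 ≤ b := by
           show 4 ≤ Nat.card ↥(M.U (0, 1, 0))
           omega
         nlinarith [Nat.mul_le_mul h5 (Nat.pow_le_pow_left h6 3)])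

end Mod

end Cfsg.Agent.Fus.U62Red
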