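import Cfsg.Agent.Lib.Fus.U62Red.Orth

/-!
Recognition of `U₆(2)`, the reduction: coordinates in the natural case.
-/

set_option autoImplicit false
set_option maxHeartbeats 1000000

namespace Cfsg.Agent.Fus.U62Red

open Cfsg.Agent.Fus.U62Rec (Q4)
open Cfsg.Agent.Invol.ExtraEight (app idm mu comb comb_xor comb_zero)

theorem ev_unit0 : ev (1, 0, 0) = el [0] := rfl

theorem ev_unit1 : ev (0, 1, 0) = el [1] := rfl

theorem perm_facts : el [3, 3, 3, 2] = el wY * el wX ∧ el [2, 3, 3] = el [3, 3] * el wY ∧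
    el [2, 3, 3, 3] = el [3, 3, 3] * el wX ∧ el [3, 2, 3] = el [2, 3] * (el wY * el [3, 3]) ∧
    el [3, 3, 3, 3] = 1 ∧ el [2] * el [2] = 1 ∧ el wX * el wX = 1 ∧ el wY * el wY = 1 := by
  obtain ⟨h1, h2, h3, h4, h5, h6, h7, h8⟩ := perm_words
  simp only [← el_append]
  exact ⟨el_eq_iff.2 h1, el_eq_iff.2 h2, el_eq_iff.2 h3, el_eq_iff.2 h4, el_eq_one_iff.2 h5,
    el_eq_one_iff.2 h6, el_eq_one_iff.2 h7, el_eq_one_iff.2 h8⟩

theorem comb_two {V : Type*} [AddCommGroup V] (a b : V) (d : ℕ) :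
    comb [a, b] d = cond (d % 2 == 1) a 0 + cond (d / 2 % 2 == 1) b 0 := by
  simp [comb]

/-- Eight vectors read as four digits. -/
theorem comb_digits {V : Type*} [AddCommGroup V] (a b c d e f g h : V) {n : ℕ} (_hn : n < 256) :
    comb [a, b, c, d, e, f, g, h] n = comb [a, b] (n % 4) + (comb [c, d] (n / 4 % 4) +
      (comb [e, f] (n / 16 % 4) + comb [g, h] (n / 64 % 4))) := by
  simp only [comb, comb_two, add_zero]
  have e0 : n % 4 % 2 = n % 2 := by omega
  have e1 : n % 4 / 2 % 2 = n / 2 % 2 := by omega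
  have e2 : n / 4 % 4 % 2 = n / 2 / 2 % 2 := by omega
  have e3 : n / 4 % 4 / 2 % 2 = n / 2 / 2 / 2 % 2 := by omega
  have e4 : n / 16 % 4 % 2 = n / 2 / 2 / 2 / 2 % 2 := by omega
  have e5 : n / 16 % 4 / 2 % 2 = n / 2 / 2 / 2 / 2 / 2 % 2 := by omega
  have e6 : n / 64 % 4 % 2 = n / 2 / 2 / 2 / 2 / 2 / 2 % 2 := by omega
  have e7 : n / 64 % 4 / 2 % 2 = n / 2 / 2 / 2 / 2 / 2 / 2 / 2 % 2 := by omega
  rw [e0, e1, e2, e3, e4, e5, e6, e7]
  simp only [add_assoc]

theorem nz_zero (v : ℕ) : nz 0 v = !(v % 4 == 0) := by simp [nz]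

namespace Mod

variable {V : Type*} [AddCommGroup V] (M : Mod V)

theorem comb_line_mem {l g : Ev} {w : V} (hw : w ∈ M.U l) {d : ℕ} : comb [w, M.act g w] d ∈ M.U l := by
  rw [comb_two]
  refine add_mem ?_ ?_
  · cases d % 2 == 1
    exacts [zero_mem _, hw]
  · cases d / 2 % 2 == 1
    exacts [zero_mem _, M.act_mem hw g]

theorem q_comb_line {l g : Ev} (hl : l ∈ allLines) (hg : lv l g = 1) (hc : Nat.card ↥(M.U l) = 4) {w : V}
    (hw : w ∈ M.U l) (h0 : w ≠ 0) {d : ℕ} (hd : d < 4) : M.q (comb [w, M.act g w] d) = !(d == 0) := by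
  obtain ⟨h1, h2, h3⟩ := M.q_line hl hg hc hw h0
  interval_cases d <;> simp [comb, M.q_zero, h1, h2, h3]

theorem comb_line_surj {l g : Ev} (hg : lv l g = 1) (hc : Nat.card ↥(M.U l) = 4) {w : V}
    (hw : w ∈ M.U l) (h0 : w ≠ 0) {x : V} (hx : x ∈ M.U l) : ∃ d < 4, comb [w, M.act g w] d = x := by
  rcases M.U_elems hg hc hw h0 hx with rfl | rfl | rfl | rfl
  · exact ⟨0, by norm_num, by simp [comb]⟩
  · exact ⟨1, by norm_num, by simp [comb]⟩
  · exact ⟨2, by norm_num, by simp [comb]⟩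
  · exact ⟨3, by norm_num, by simp [comb]⟩

theorem coords_nat (hcard : ∀ l ∈ natLines, Nat.card ↥(M.U l) = 4) (hV : Nat.card ↥M.V0 = 1) :
    Nonempty (M.Coords .nat) := by
  haveI := M.finite
  obtain ⟨p1, p2, p3, -, p5, p6, p7, p8⟩ := perm_facts
  obtain ⟨w0, hw0, h0⟩ := M.exists_ne_of_card (hcard (1, 0, 0) (by decide))
  have hw1 : M.ρ (el [3]) w0 ∈ M.U (2, 1, 0) := M.move_mem (by decide) (by decide +kernel) hw0
  have hw2 : M.ρ (el [3, 3]) w0 ∈ M.U (0, 2, 1) := M.move_mem (by decide) (by decide +kernel) hw0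
  have hw3 : M.ρ (el [3, 3, 3]) w0 ∈ M.U (0, 0, 2) := M.move_mem (by decide) (by decide +kernel) hw0
  have n1 : M.ρ (el [3]) w0 ≠ 0 := fun e => h0 (M.ρ_injective _ (e.trans (map_zero _).symm))
  have n2 : M.ρ (el [3, 3]) w0 ≠ 0 := fun e => h0 (M.ρ_injective _ (e.trans (map_zero _).symm))
  have n3 : M.ρ (el [3, 3, 3]) w0 ≠ 0 := fun e => h0 (M.ρ_injective _ (e.trans (map_zero _).symm))
  have fX : M.ρ (el wX) w0 = w0 := M.linear_involution (g := (1, 0, 0)) (by decide)
    (hcard _ (by decide)) (by decide) p7 (by decide +kernel) hw0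
  have fY : M.ρ (el wY) w0 = w0 := M.linear_involution (g := (1, 0, 0)) (by decide)
    (hcard _ (by decide)) (by decide) p8 (by decide +kernel) hw0
  have s01 : M.ρ (el [3]) (M.ρ (el [3]) w0) = M.ρ (el [3, 3]) w0 := by rw [← M.mul, ← el_append]; rfl
  have s12 : M.ρ (el [3]) (M.ρ (el [3, 3]) w0) = M.ρ (el [3, 3, 3]) w0 := by rw [← M.mul, ← el_append]; rfl
  have s23 : M.ρ (el [3]) (M.ρ (el [3, 3, 3]) w0) = w0 := by
    rw [← M.mul, ← el_append, show ([3] ++ [3, 3, 3] : List ℕ) = [3, 3, 3, 3] from rfl, p5, M.one]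
  have t0 : M.ρ (el [2]) w0 = M.ρ (el [3]) w0 := by
    have h : M.ρ (el [3, 3, 3, 2]) w0 = w0 := by rw [p1, M.mul, fX, fY]
    calc M.ρ (el [2]) w0 = M.ρ (el [3]) (M.ρ (el [3, 3, 3, 2]) w0) := by
          rw [← M.mul, ← el_append, show ([3] ++ [3, 3, 3, 2] : List ℕ) = [3, 3, 3, 3] ++ [2] from rfl, el_append,
            p5, one_mul]
      _ = _ := by rw [h]
  have t1 : M.ρ (el [2]) (M.ρ (el [3]) w0) = w0 := by rw [← t0, ← M.mul, p6, M.one]
  have t2 : M.ρ (el [2]) (M.ρ (el [3, 3]) w0) = M.ρ (el [3, 3]) w0 := by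
    rw [← M.mul, ← el_append, show ([2] ++ [3, 3] : List ℕ) = [2, 3, 3] from rfl, p2, M.mul, fY]
  have t3 : M.ρ (el [2]) (M.ρ (el [3, 3, 3]) w0) = M.ρ (el [3, 3, 3]) w0 := by
    rw [← M.mul, ← el_append, show ([2] ++ [3, 3, 3] : List ℕ) = [2, 3, 3, 3] from rfl, p3, M.mul, fX]
  set w1 := M.ρ (el [3]) w0 with hw1d
  set w2 := M.ρ (el [3, 3]) w0
  set w3 := M.ρ (el [3, 3, 3]) w0
  let B : List V := [w0, M.act (1, 0, 0) w0, w1, M.act (0, 1, 0) w1, w2, M.act (0, 0, 1) w2,
    w3, M.act (0, 0, 2) w3]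
  have hsurj : ∀ x : V, ∃ n < 256, comb B n = x := by
    have hV0 : ∀ x ∈ M.V0, x = 0 := fun x hx => by
      haveI := (Nat.card_eq_one_iff_unique.1 hV).1
      exact congrArg Subtype.val (Subsingleton.elim (⟨x, hx⟩ : ↥M.V0) 0)
    intro x
    have hz := M.eq_top_of_card_T (L := natLines) (by decide) (by decide)
      (by rw [List.map_congr_left hcard, hV]; rfl) x
    have hsum : (allLines.map fun l => M.proj l x).sum = (natLines.map fun l => M.proj l x).sum := by
      rw [allLines, List.append_assoc, List.map_append, List.sum_append,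
        List.sum_eq_zero (l := List.map _ (redLines ++ sixLines)) (fun y hy => by
          obtain ⟨k, hk, rfl⟩ := List.mem_map.1 hy
          have hd : ∀ k ∈ redLines ++ sixLines, k ∈ allLines ∧ k ∉ natLines := by decide
          exact hz k (hd k hk).1 (hd k hk).2), add_zero]
    obtain ⟨d0, h0', e0⟩ := M.comb_line_surj (g := (1, 0, 0)) (by decide) (hcard _ (by decide)) hw0 h0
      (M.proj_mem (by decide) x)
    obtain ⟨d1, h1', e1⟩ := M.comb_line_surj (g := (0, 1, 0)) (by decide) (hcard _ (by decide)) hw1 n1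
      (M.proj_mem (by decide) x)
    obtain ⟨d2, h2', e2⟩ := M.comb_line_surj (g := (0, 0, 1)) (by decide) (hcard _ (by decide)) hw2 n2
      (M.proj_mem (by decide) x)
    obtain ⟨d3, h3', e3⟩ := M.comb_line_surj (g := (0, 0, 2)) (by decide) (hcard _ (by decide)) hw3 n3
      (M.proj_mem (by decide) x)
    refine ⟨d0 + 4 * d1 + 16 * d2 + 64 * d3, by omega, ?_⟩
    rw [comb_digits _ _ _ _ _ _ _ _ (by omega), show (d0 + 4 * d1 + 16 * d2 + 64 * d3) % 4 = d0 by omega,
      show (d0 + 4 * d1 + 16 * d2 + 64 * d3) / 4 % 4 = d1 by omega,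
      show (d0 + 4 * d1 + 16 * d2 + 64 * d3) / 16 % 4 = d2 by omega,
      show (d0 + 4 * d1 + 16 * d2 + 64 * d3) / 64 % 4 = d3 by omega, e0, e1, e2, e3]
    conv_rhs => rw [M.decomp x, hsum, hV0 _ (M.S_mem x)]
    simp [natLines]
  have a0 := M.act_pair (l := (1, 0, 0)) (g := (1, 0, 0)) (by decide) hw0
  have a1 := M.act_pair (l := (2, 1, 0)) (g := (0, 1, 0)) (by decide) hw1
  have a2 := M.act_pair (l := (0, 2, 1)) (g := (0, 0, 1)) (by decide) hw2
  have a3 := M.act_pair (l := (0, 0, 2)) (g := (0, 0, 2)) (by decide) hw3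
  have hgen : ∀ i < 4, ∀ n < 256, M.ρ (el [i]) (comb B n) = comb B (app ((side false).getD i idm) n) := by
    intro i hi n _
    refine M.gen_of_basis _ (getD_lt (side_lt false) i) ?_ n
    rcases i with _ | _ | _ | _ | i
    · obtain ⟨x0, y0⟩ := (a0 (1, 0, 0)).2.1 (by decide)
      obtain ⟨x1, y1⟩ := (a1 (1, 0, 0)).2.2 (by decide)
      obtain ⟨x2, y2⟩ := (a2 (1, 0, 0)).1 (by decide)
      obtain ⟨x3, y3⟩ := (a3 (1, 0, 0)).1 (by decide)
      rw [← ev_unit0, ← Mod.act]
      simp only [B, side, mn, List.map_cons, List.map_nil, cond_false, List.getD_cons_zero, comb, y0, x1, y1, x2,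
        y2, x3, y3]
      simp (decide := true)
    · obtain ⟨x0, y0⟩ := (a0 (0, 1, 0)).1 (by decide)
      obtain ⟨x1, y1⟩ := (a1 (0, 1, 0)).2.1 (by decide)
      obtain ⟨x2, y2⟩ := (a2 (0, 1, 0)).2.2 (by decide)
      obtain ⟨x3, y3⟩ := (a3 (0, 1, 0)).1 (by decide)
      rw [← ev_unit1, ← Mod.act]
      simp only [B, side, mn, List.map_cons, List.map_nil, cond_false, List.getD_cons_zero, List.getD_cons_succ,
        comb, x0, y0, y1, x2, y2, x3, y3]
      simp (decide := true)
    · have m0 := M.move_act (w := [2]) (by decide) (k := (2, 1, 0)) (g' := (0, 1, 0)) (by decide)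
        (x := w0) (by rw [t0]; exact hw1) (1, 0, 0)
      have m1 := M.move_act (w := [2]) (by decide) (k := (1, 0, 0)) (g' := (1, 0, 0)) (by decide)
        (x := w1) (by rw [t1]; exact hw0) (0, 1, 0)
      have m2 := M.move_act (w := [2]) (by decide) (k := (0, 2, 1)) (g' := (0, 0, 1)) (by decide)
        (x := w2) (by rw [t2]; exact hw2) (0, 0, 1)
      have m3 := M.move_act (w := [2]) (by decide) (k := (0, 0, 2)) (g' := (0, 0, 2)) (by decide)
        (x := w3) (by rw [t3]; exact hw3) (0, 0, 2)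
      simp only [B, side, mn, List.map_cons, List.map_nil, cond_false, List.getD_cons_zero, List.getD_cons_succ,
        comb, m0, m1, m2, m3, t0, t1, t2, t3]
      simp (decide := true)
    · have m0 := M.move_act (w := [3]) (by decide) (k := (2, 1, 0)) (g' := (0, 1, 0)) (by decide)
        (x := w0) hw1 (1, 0, 0)
      have m1 := M.move_act (w := [3]) (by decide) (k := (0, 2, 1)) (g' := (0, 0, 1)) (by decide)
        (x := w1) (by rw [s01]; exact hw2) (0, 1, 0)
      have m2 := M.move_act (w := [3]) (by decide) (k := (0, 0, 2)) (g' := (0, 0, 2)) (by decide)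
        (x := w2) (by rw [s12]; exact hw3) (0, 0, 1)
      have m3 := M.move_act (w := [3]) (by decide) (k := (1, 0, 0)) (g' := (1, 0, 0)) (by decide)
        (x := w3) (by rw [s23]; exact hw0) (0, 0, 2)
      simp only [B, side, mn, List.map_cons, List.map_nil, cond_false, List.getD_cons_zero, List.getD_cons_succ,
        comb, m0, m1, m2, m3, s01, s12, s23, ← hw1d]
      simp (decide := true)
    · omega
  have hq : ∀ n < 256, M.q (comb B n) = Kind.nat.q n := by
    intro n hn
    have q0 := M.q_comb_line (g := (1, 0, 0)) (d := n % 4) (by decide) (by decide) (hcard _ (by decide)) hw0 h0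
      (by omega)
    have q1 := M.q_comb_line (g := (0, 1, 0)) (d := n / 4 % 4) (by decide) (by decide) (hcard _ (by decide)) hw1 n1
      (by omega)
    have q2 := M.q_comb_line (g := (0, 0, 1)) (d := n / 16 % 4) (by decide) (by decide) (hcard _ (by decide)) hw2 n2
      (by omega)
    have q3 := M.q_comb_line (g := (0, 0, 2)) (d := n / 64 % 4) (by decide) (by decide) (hcard _ (by decide)) hw3 n3
      (by omega)
    have c0 := M.comb_line_mem (g := (1, 0, 0)) (d := n % 4) hw0
    have c1 := M.comb_line_mem (g := (0, 1, 0)) (d := n / 4 % 4) hw1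
    have c2 := M.comb_line_mem (g := (0, 0, 1)) (d := n / 16 % 4) hw2
    have c3 := M.comb_line_mem (g := (0, 0, 2)) (d := n / 64 % 4) hw3
    have o23 := M.orth_lines (by decide) (by decide) (by decide) c2 c3
    have o12 := M.orth_lines (by decide) (by decide) (by decide) c1 c2
    have o13 := M.orth_lines (by decide) (by decide) (by decide) c1 c3
    have o01 := M.orth_lines (by decide) (by decide) (by decide) c0 c1
    have o02 := M.orth_lines (by decide) (by decide) (by decide) c0 c2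
    have o03 := M.orth_lines (by decide) (by decide) (by decide) c0 c3
    rw [comb_digits _ _ _ _ _ _ _ _ hn, M.q_add_orth (by rw [M.polar_add_right, M.polar_add_right, o01, o02, o03]; rfl),
      M.q_add_orth (by rw [M.polar_add_right, o12, o13]; rfl), M.q_add_orth o23, q0, q1, q2, q3]
    simp only [Kind.q, nz, pow_zero, Nat.div_one, pow_one, show 4 ^ 2 = 16 from rfl, show 4 ^ 3 = 64 from rfl,
      Bool.xor_assoc]
  have hinj := M.inj_of_surj hsurj
  refine M.finish false .nat rfl hsurj hgen hq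
    (ks := [(64, 64), (64, 128), (64, 192), (128, 64), (128, 128), (128, 192), (192, 64), (192, 128), (192, 192)])
    ?_ (by decide) ?_
  · have hE : ∀ i ∈ wE, i < 4 := by decide
    have hlt : ∀ g ∈ (side false).take 4, ∀ x ∈ g, x < 256 := fun g hg => side_lt false g (List.mem_of_mem_take hg)
    have htk : ∀ i < 4, ((side false).take 4).getD i idm = (side false).getD i idm := by decide +kernel
    have hword := M.word_of_gens (B := B) hlt (k := 4) fun i hi n hn => by rw [htk i hi, hgen i hi n hn]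
    have hRE : el [4] * el wE = el wE * el [4] := by
      rw [← el_append, ← el_append]
      exact el_eq_iff.2 (rels_true ([4] ++ wE, wE ++ [4]) (by simp [rels]))
    have him : ∀ u, u = 64 ∨ u = 128 → ∃ k, (k = 64 ∨ k = 128 ∨ k = 192) ∧ M.ρ (el [4]) (comb B u) = comb B k := by
      intro u hu
      have hu' : u < 256 := by omega
      obtain ⟨k, hk, e⟩ := hsurj (M.ρ (el [4]) (comb B u))
      have hfix : app (wd ((side false).take 4) wE) k = k := by
        refine hinj _ (Cfsg.Agent.Invol.ExtraEight.app_lt (wd_lt hlt _) _) _ hk ?_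
        rw [← hword wE hE k hk, e, ← M.mul, ← hRE, M.mul, hword wE hE u hu']
        rcases hu with rfl | rfl
        · rw [(eigen_units false).1]
        · rw [(eigen_units false).2.1]
      have h64 := (eigen_part false k hk).2 hfix
      have hk0 : k ≠ 0 := by
        rintro rfl
        have : u = 0 := hinj u hu' 0 (by norm_num) (M.ρ_injective (el [4]) (by
          rw [← e, comb_zero, map_zero]))
        omega
      exact ⟨k, by omega, e.symm⟩
    obtain ⟨k, hk, ek⟩ := him 64 (Or.inl rfl)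
    obtain ⟨k', hk', ek'⟩ := him 128 (Or.inr rfl)
    refine ⟨(k, k'), ?_, ek, ek'⟩
    rcases hk with rfl | rfl | rfl <;> rcases hk' with rfl | rfl | rfl <;> simp
  · intro n hn p hp
    have h := List.all_eq_true.1 R_unique_nat n (List.mem_range.2 hn)
    have hd : ∀ p ∈ ([(64, 64), (64, 128), (64, 192), (128, 64), (128, 128), (128, 192), (192, 64), (192, 128),
        (192, 192)] : List (ℕ × ℕ)), p.1 ∈ [64, 128, 192] ∧ p.2 ∈ [64, 128, 192] := by decide
    exact List.all_eq_true.1 (List.all_eq_true.1 h _ (hd p hp).1) _ (hd p hp).2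

end Mod

end Cfsg.Agent.Fus.U62Red
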