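import Cfsg.Agent.Lib.Fus.U62Red.Classes

/-!
Recognition of `U₆(2)`, the reduction: in the natural case the conjugates of `z` in the centraliser are `z` and
four over each transvection.
-/

set_option autoImplicit false
set_option linter.unusedSectionVars false

namespace Cfsg.Agent.Fus.U62Red

open Cfsg.Agent.Fus.U62Rec (Q4 CC E4)
open Cfsg.Agent.Invol.ExtraEight (app app_lt app_xor)

/-- The word of the inverse. -/
def invW : List ℕ → List ℕ
  | [] => []
  | i :: w => invW w ++ [[0, 0], [1, 1], [2], [3, 3, 3], [4, 4]].getD i []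

theorem el_invW : ∀ w : List ℕ, el (invW w) * el w = 1
  | [] => by rw [invW, el_nil, one_mul]
  | i :: w => by
    have hi : el ([[0, 0], [1, 1], [2], [3, 3, 3], [4, 4]].getD i []) * el [i] = 1 := by
      by_cases h : i < 5
      · have hd : ∀ i < 5, wd mn (([[0, 0], [1, 1], [2], [3, 3, 3], [4, 4]].getD i []) ++ [i]) =
            Cfsg.Agent.Invol.ExtraEight.idm := by decide +kernel
        rw [← el_append]; exact el_eq_one_iff.2 (hd i h)
      · have hb : el [i] = 1 := Mod.el_big (not_lt.1 h)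
        have hl : ([[0, 0], [1, 1], [2], [3, 3, 3], [4, 4]] : List (List ℕ)).getD i [] = [] := by
          rcases i with _ | _ | _ | _ | _ | i
          iterate 5 omega
          rfl
        rw [hb, hl, el_nil, one_mul]
    rw [invW, el_append, show el (i :: w) = el [i] * el w from el_append [i] w, mul_assoc,
      ← mul_assoc _ (el [i]), hi, one_mul, el_invW w]

theorem orth_roots : ∀ o ∈ orbN,
    wd mn ((invW o ++ wT ++ o) ++ wT) = wd mn (wT ++ (invW o ++ wT ++ o)) → wd mn (invW o ++ wT ++ o) ≠ wd mn wT →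
    ∀ i ∈ imL .nat wT, app (Kind.nat.mat o) i ∈ imL .nat wT → i = 0 := by decide +kernel

theorem imT_length : (imL .nat wT).length = 4 := by decide +kernel

theorem om_lt : ∀ x ∈ OM, x < 256 := OM_lt

variable {G : Type*} [Group G] [Finite G]

namespace Frame

variable {F : Frame G}

theorem ext_mem_cases (C : F.Chart .nat) {x : G} (hx : x ∈ F.J) {s : G} (hs : s ∈ F.J) (h5 : C.cv s = 5)
    (hc : C.cv x ≠ 0 ∧ C.cv x ≠ 5) : x ≠ 1 ∧ x ≠ F.z ∧ x ≠ s ∧ x ≠ s * F.z := by
  refine ⟨fun e => hc.1 (e ▸ C.cv_one), fun e => hc.1 (e ▸ C.cv_z), fun e => hc.2 (e ▸ h5), fun e => ?_⟩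
  rw [e, C.cv_mul_z hs] at hc
  exact hc.2 h5

/-- The pair moved by an element of the centraliser. -/
def Pair.move (p : F.Pair) (u : ↥(CC F.z)) : F.Pair where
  g := (u : G) * p.g
  comm := by
    have hu := F.comm_z u.2
    have hu' : (u : G)⁻¹ * F.z = F.z * (u : G)⁻¹ := (Commute.inv_left hu).eq
    calc (u : G) * p.g * F.z * ((u : G) * p.g)⁻¹ * F.z
        = (u : G) * (p.g * F.z * p.g⁻¹) * ((u : G)⁻¹ * F.z) := by group
      _ = (u : G) * ((p.g * F.z * p.g⁻¹) * F.z) * (u : G)⁻¹ := by rw [hu']; group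
      _ = (u : G) * F.z * ((p.g * F.z * p.g⁻¹) * (u : G)⁻¹) := by rw [p.comm]; group
      _ = _ := by rw [hu]; group
  ne := by
    intro h
    refine p.ne ?_
    calc p.g * F.z * p.g⁻¹ = (u : G)⁻¹ * ((u : G) * p.g * F.z * ((u : G) * p.g)⁻¹) * u := by group
      _ = (u : G)⁻¹ * F.z * u := by rw [h]
      _ = F.z := by rw [mul_assoc, ← F.comm_z u.2]; group

theorem Pair.move_s (p : F.Pair) (u : ↥(CC F.z)) : (p.move u).s = (u : G) * p.s * (u : G)⁻¹ := by
  show (u : G) * p.g * F.z * ((u : G) * p.g)⁻¹ = (u : G) * (p.g * F.z * p.g⁻¹) * (u : G)⁻¹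
  group

theorem Pair.π_move (p : F.Pair) (u : ↥(CC F.z)) : F.π (p.move u).sC = F.π u * F.π p.sC * (F.π u)⁻¹ := by
  rw [← map_inv, ← map_mul, ← map_mul]
  exact congrArg F.π (Subtype.ext (p.move_s u))

/-- In the natural case the extraspecial group contains no further conjugate. -/
theorem only_nat (C : F.Chart .nat) : F.OnlyZ := by
  intro g hg
  by_contra hne
  let p₀ : F.Pair := ⟨g, F.ext.central _ hg, hne⟩
  have hv0 : C.cv p₀.s ≠ 0 := fun e => ((C.zero_iff _ hg).1 e).elim p₀.s_one hne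
  obtain ⟨o, -, ho⟩ := List.any_eq_true.1
    ((orbN_cover _ (C.lt _) (C.q_false hg p₀.s_sq)).resolve_left hv0)
  obtain ⟨u, hu⟩ := F.surj (el o)
  set p := p₀.move u with hp
  have hsJ : p.s ∈ F.J := by rw [hp, p₀.move_s]; exact F.norm u.2 hg
  have h5 : C.cv p.s = 5 := by rw [hp, p₀.move_s, C.conj o u hu p₀.s hg]; exact beq_iff_eq.1 ho
  have hzI : F.z ∈ p.I := ⟨F.ext.mem, p.z_mem_of_mem hsJ⟩
  have hsI : p.s ∈ p.I := ⟨hsJ, p.F'.ext.mem⟩
  -- the image of the centraliser is elementary, so the common part is large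
  have helem : ∀ a ∈ p.ψ.range, a * a = 1 := by
    rintro _ ⟨a, rfl⟩
    rw [← map_mul, p.ψ_eq_one]
    rcases F.ext.sq _ (p.mem_CJ.1 a.2).1 with e | e
    · rw [Subgroup.coe_mul, e]; exact one_mem _
    · rw [Subgroup.coe_mul, e]; exact hzI
  obtain ⟨n, hn, en⟩ := p.range_dvd
  have hn4 : n ≤ 4 := by
    by_contra h
    rcases (show n = 5 ∨ n = 6 by omega) with rfl | rfl
    · exact no_elem32 (by rw [en]; norm_num) helem
    · refine sylow_derived (P := p.ψ.range) (c := 1) (by rw [en]; norm_num) fun a ha b hb => Or.inl ?_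
      have h' := helem _ (mul_mem ha hb)
      rw [inv_eq_of_mul_eq_one_right (helem a ha), inv_eq_of_mul_eq_one_right (helem b hb), mul_assoc]
      exact h'
  have hCJ : 256 ≤ Nat.card ↥p.CJ := by
    have := F.ext.card_le_centralizing hsJ
    rw [F.card_J] at this
    have e : p.CJ = F.J ⊓ Subgroup.centralizer ({p.s} : Set G) := rfl
    rw [e]; omega
  have hI16 : 16 ≤ Nat.card ↥p.I := by
    have h := p.card_CJ
    have h2 : Nat.card ↥p.ψ.range ≤ 16 := by
      rw [en]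
      calc 2 ^ n ≤ 2 ^ 4 := Nat.pow_le_pow_right (by norm_num) hn4
        _ = 16 := by norm_num
    nlinarith [Nat.card_pos (α := ↥p.I)]
  obtain ⟨x, hxI, hxc⟩ : ∃ x ∈ p.I, C.cv x ≠ 0 ∧ C.cv x ≠ 5 := by
    by_contra hcon
    have hsub : (p.I : Set G) ⊆ {1, F.z, p.s, p.s * F.z} := fun x hx => by
      by_cases h0 : C.cv x = 0
      · rcases (C.zero_iff x hx.1).1 h0 with e | e <;> simp [e]
      · have h5' : C.cv x = C.cv p.s := by
          by_contra h'; exact hcon ⟨x, hx, h0, h5 ▸ h'⟩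
        rcases (C.cv_eq_iff hx.1 hsJ).1 h5' with e | e <;> simp [e]
    have h := (Set.ncard_le_ncard hsub (Set.toFinite _)).trans ((Set.ncard_insert_le _ _).trans
      (Nat.succ_le_succ ((Set.ncard_insert_le _ _).trans (Nat.succ_le_succ (Set.ncard_insert_le _ _)))))
    rw [Set.ncard_singleton, ← Nat.card_coe_set_eq] at h
    have : 16 ≤ 4 := hI16.trans h
    omega
  have hstep : ∃ y ∈ p.I, C.cv y = app OM 5 ∨ C.cv y = app OM (app OM 5) := by
    have hchk := List.all_eq_true.1 stabN_check (C.cv x) (List.mem_range.2 (C.lt x))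
    simp only [Bool.or_eq_true, List.any_eq_true, beq_iff_eq] at hchk
    rcases hchk with ((((((h | h) | h) | h) | h) | h) | ⟨w, hw, h⟩)
    · exact absurd h hxc.1
    · exact absurd h hxc.2
    · rw [C.q_false hxI.1 (p.I_sq hxI)] at h; exact Bool.noConfusion h
    · rw [← h5, (C.bq_false_iff hxI.1 hsJ).2 (p.mem_CJ.1 (p.I_le hxI)).2] at h
      exact Bool.noConfusion h
    · exact ⟨x, hxI, Or.inl h⟩
    · exact ⟨x, hxI, Or.inr h⟩
    · obtain ⟨v, hv, hvc⟩ := C.exists_fix_lift hsJ p.s_one p.ne (w := w) (by rw [h5]; exact stabN_fix w hw)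
      have hd := mul_mem (p.conj_I v.2 hvc hxI) hxI
      have hcv : C.cv ((v : G) * x * (v : G)⁻¹ * x) = app (Kind.nat.mat w) (C.cv x) ^^^ C.cv x := by
        rw [C.cv_mul _ (p.conj_I v.2 hvc hxI).1 x hxI.1, C.conj w v hv x hxI.1]
      rcases h with (h | h) | h
      · exact ⟨_, hd, Or.inl (hcv.trans h)⟩
      · exact ⟨_, hd, Or.inr (hcv.trans h)⟩
      · rw [← hcv, C.q_false hd.1 (p.I_sq hd)] at h; exact Bool.noConfusion h
  obtain ⟨x, hxI, hxv⟩ := hstep
  obtain ⟨-, -, -, -, k0, k5, k0', k5'⟩ := om_five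
  obtain ⟨n1, nz', ns, nsz⟩ := F.ext_mem_cases C hxI.1 hsJ h5
    (by rcases hxv with e | e <;> rw [e]; exacts [⟨k0, k5⟩, ⟨k0', k5'⟩])
  obtain ⟨y, hy, hyz, hyx⟩ : ∃ y ∈ p.F'.J, y * F.z = F.z * y ∧ y * x ≠ x * y := by
    by_contra hcon
    simp only [not_exists, not_and, not_not] at hcon
    rcases p.F'.ext.centralized_by_hyperplane hzI.2 hxI.2 hcon with e | e | e | e
    · exact n1 e
    · exact ns e
    · exact nz' e
    · exact nsz (e.trans p.comm.symm)
  have hyu : y ∈ CC F.z := Subgroup.mem_centralizer_singleton_iff.2 hyz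
  obtain ⟨w, hw⟩ := exists_word (F.π ⟨y, hyu⟩)
  have hfix := C.conj w ⟨y, hyu⟩ hw.symm p.s hsJ
  rw [show y * p.s * y⁻¹ = p.s from mul_inv_eq_iff_eq_mul.2 (p.F'.ext.central y hy), h5] at hfix
  have hmove := C.conj w ⟨y, hyu⟩ hw.symm x hxI.1
  have e1 : y * x * y⁻¹ = x * p.s := ((p.F'.ext.conj_cases hxI.2 hy).resolve_left hyx).2
  rw [e1, C.cv_mul x hxI.1 _ hsJ, h5] at hmove
  have hsame : app (Kind.nat.mat w) (C.cv x) = C.cv x := by
    rcases hxv with e | e <;> rw [e]
    · rw [app_mat_OM w (by norm_num : 5 < 256), ← hfix]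
    · rw [app_mat_OM w (app_lt OM_lt 5), app_mat_OM w (by norm_num : 5 < 256), ← hfix]
  rw [hsame] at hmove
  exact absurd (Nat.xor_right_injective (hmove.trans (Nat.xor_zero _).symm)) (by norm_num)

/-- The data of a pair over a given word. -/
theorem exists_out {K : Kind} (C : F.Chart K) (hO : F.OnlyZ) (p : F.Pair) {wt : List ℕ} (h : F.π p.sC = el wt)
    (hT : wt = wT ∨ wt = wP) : ∃ o : F.Out K, o.toPair = p ∧ o.wt = wt := by
  have hne : el wt ≠ 1 := by
    rcases hT with rfl | rfl <;> rw [Ne, el_eq_one_iff] <;> decide +kernel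
  have hperp : perpCheck K wt = true := by
    rcases hT with rfl | rfl
    exacts [(perp_check K (kind_mem K)).1, (perp_check K (kind_mem K)).2]
  exact ⟨{ toPair := p, C := C, wt := wt, hs := h, wt_ne := hne, only := hO, perp := hperp }, rfl, rfl⟩

theorem Pair.π_sq (p : F.Pair) : F.π p.sC * F.π p.sC = 1 := by
  rw [← map_mul, ← map_one F.π]; exact congrArg F.π (Subtype.ext p.s_sq)

theorem Pair.π_ne (hO : F.OnlyZ) (p : F.Pair) : F.π p.sC ≠ 1 := fun e => p.ne (hO p.g ((F.ker _).1 e))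

/-- In the natural case the image of a further conjugate is a transvection. -/
theorem nat_image (C : F.Chart .nat) (p : F.Pair) : ∃ u : ↥(CC F.z), F.π (p.move u).sC = el wT := by
  have hO := F.only_nat C
  obtain ⟨g, hg⟩ := involution_class p.π_sq (p.π_ne hO)
  obtain ⟨u, rfl⟩ := F.surj g
  refine ⟨u, ?_⟩
  rw [p.π_move]
  rcases hg with h | h
  · exact h
  · obtain ⟨o, -, how⟩ := exists_out C hO (p.move u) (wt := wP) ((p.π_move u).trans h) (Or.inr rfl)
    exact (Out.outP_nat (o := o) how).elim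

/-- A lift of the standard transvection conjugate to `z` commutes with the fixed space, and its product with `z`
is not conjugate to `z`. -/
theorem nat_lift (C : F.Chart .nat) (p : F.Pair) (h : F.π p.sC = el wT) :
    (∀ x ∈ F.J, app (Kind.nat.mat wT) (C.cv x) = C.cv x → x * p.s = p.s * x) ∧
      ¬ IsConj F.z (p.s * F.z) := by
  have hO := F.only_nat C
  let o : F.Out .nat :=
    { toPair := p, C := C, wt := wT, hs := h, wt_ne := fun e => tT_ne e, only := hO,
      perp := (perp_check .nat (kind_mem _)).1 }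
  rcases o.outT rfl with h' | ⟨h', -⟩
  · exact h'
  · cases h'

/-- Two lifts of the standard transvection differ by a commutator vector. -/
theorem nat_diff (C : F.Chart .nat) (p q : F.Pair) (hp : F.π p.sC = el wT) (hq : F.π q.sC = el wT) :
    p.s * q.s ∈ F.J ∧ C.cv (p.s * q.s) ∈ imL .nat wT := by
  have hJ : p.s * q.s ∈ F.J := (F.ker (p.sC * q.sC)).1 (by rw [map_mul, hp, hq]; exact tT_sq)
  let o : F.Out .nat :=
    { toPair := p, C := C, wt := wT, hs := hp, wt_ne := fun e => tT_ne e, only := F.only_nat C,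
      perp := (perp_check .nat (kind_mem _)).1 }
  refine ⟨hJ, o.perp_of (o.mem_fixL.2 ⟨C.lt _, ?_⟩) fun c hc => ?_⟩
  · show app _ _ = _
    rw [← o.cv_conj_s hJ]
    have e : p.s * (p.s * q.s) * p.s⁻¹ = (p.s * q.s)⁻¹ := by
      rw [mul_inv_rev, p.s_inv, q.s_inv, ← mul_assoc p.s, p.s_sq, one_mul]
    show C.cv (p.s * (p.s * q.s) * p.s⁻¹) = _
    rw [e, C.cv_inv hJ]
  · obtain ⟨hc256, hcf⟩ := o.mem_fixL.1 hc
    obtain ⟨y, hy, rfl⟩ := C.surj c hc256
    refine (C.bq_false_iff hJ hy).2 ?_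
    have h1 := (F.nat_lift C p hp).1 y hy hcf
    have h2 := (F.nat_lift C q hq).1 y hy hcf
    calc p.s * q.s * y = p.s * (q.s * y) := mul_assoc ..
      _ = p.s * y * q.s := by rw [← h2, mul_assoc]
      _ = y * (p.s * q.s) := by rw [← h1, mul_assoc]

theorem nat_eq_of_cv (C : F.Chart .nat) (p a b : F.Pair) (hp : F.π p.sC = el wT) (ha : F.π a.sC = el wT)
    (hb : F.π b.sC = el wT) (h : C.cv (p.s * a.s) = C.cv (p.s * b.s)) : a.s = b.s := by
  rcases (C.cv_eq_iff (F.nat_diff C p a hp ha).1 (F.nat_diff C p b hp hb).1).1 h with e | e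
  · exact mul_left_cancel e
  · rw [mul_assoc] at e
    refine absurd ?_ (F.nat_lift C b hb).2
    have h' := a.isConj
    rwa [mul_left_cancel e] at h' 

theorem pair_of_mem {u : ↥(CC F.z)} (hu : IsConj F.z (u : G)) (hne : (u : G) ≠ F.z) :
    ∃ p : F.Pair, p.sC = u := by
  obtain ⟨g, hg⟩ := _root_.isConj_iff.1 hu
  exact ⟨⟨g, by rw [hg]; exact F.comm_z u.2, by rw [hg]; exact hne⟩, Subtype.ext hg⟩

theorem ne_z_of_π {u : ↥(CC F.z)} {e : Q4} (hu : F.π u = e) (he : e ≠ 1) : (u : G) ≠ F.z := fun h =>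
  he (by rw [← hu]; exact (F.ker u).2 (by rw [h]; exact F.ext.mem))

theorem nat_fibre_T (C : F.Chart .nat) (p : F.Pair) (hp : F.π p.sC = el wT) :
    {u : ↥(CC F.z) | IsConj F.z (u : G) ∧ F.π u = el wT}.ncard = 4 := by
  classical
  have hO := F.only_nat C
  have hpair : ∀ u ∈ {u : ↥(CC F.z) | IsConj F.z (u : G) ∧ F.π u = el wT},
      ∃ a : F.Pair, a.sC = u ∧ F.π a.sC = el wT := by
    rintro u ⟨hu1, hu2⟩
    obtain ⟨a, rfl⟩ := pair_of_mem hu1 (ne_z_of_π hu2 tT_ne)
    exact ⟨a, rfl, hu2⟩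
  refine (Set.ncard_congr (s := {u : ↥(CC F.z) | IsConj F.z (u : G) ∧ F.π u = el wT}) (t := ((imL .nat wT).toFinset : Set ℕ)) (fun u _ => C.cv (p.s * (u : G)))
    ?_ ?_ ?_).trans ?_
  · intro u hu
    obtain ⟨a, rfl, ha⟩ := hpair u hu
    exact List.mem_toFinset.2 (F.nat_diff C p a hp ha).2
  · intro u v hu hv e
    obtain ⟨a, rfl, ha⟩ := hpair u hu
    obtain ⟨b, rfl, hb⟩ := hpair v hv
    exact Subtype.ext (F.nat_eq_of_cv C p a b hp ha hb e)
  · intro n hn
    have hn' := List.mem_toFinset.1 hn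
    let o : F.Out .nat :=
      { toPair := p, C := C, wt := wT, hs := hp, wt_ne := fun e => tT_ne e, only := hO,
        perp := (perp_check .nat (kind_mem _)).1 }
    obtain ⟨k, hk, e⟩ := o.mem_imL.1 hn'
    obtain ⟨j, hj, rfl⟩ := C.surj k hk
    refine ⟨⟨j * p.s * j⁻¹, mul_mem (mul_mem (F.J_le hj) p.s_mem) (inv_mem (F.J_le hj))⟩, ⟨o.isConj_conj j, ?_⟩, ?_⟩
    · have h1 : F.π ⟨j, F.J_le hj⟩ = 1 := (F.ker _).2 hj
      rw [show (⟨j * p.s * j⁻¹, _⟩ : ↥(CC F.z)) = ⟨j, F.J_le hj⟩ * p.sC * (⟨j, F.J_le hj⟩)⁻¹ from Subtype.ext rfl,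
        map_mul, map_mul, map_inv, h1, one_mul, inv_one, mul_one, hp]
    · show C.cv (p.s * (j * p.s * j⁻¹)) = n
      rw [← e, ← o.cv_cm hj]
      exact congrArg C.cv (show p.s * (j * p.s * j⁻¹) = p.s * j * p.s * j⁻¹ by group)
  · rw [Set.ncard_coe_finset, List.toFinset_card_of_nodup (show (imL .nat wT).Nodup from List.nodup_dedup _), imT_length]

/-- Four conjugates lie over each transvection, as soon as there is one further conjugate. -/
theorem nat_fibre (C : F.Chart .nat) (p₀ : F.Pair) {e : Q4} (he : e ∈ E4) :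
    {u : ↥(CC F.z) | IsConj F.z (u : G) ∧ F.π u = e}.ncard = 4 := by
  obtain ⟨v, hv⟩ := F.nat_image C p₀
  obtain ⟨g, hg⟩ := E4_conj he
  obtain ⟨k, rfl⟩ := F.surj g
  refine Eq.trans ?_ (F.nat_fibre_T C (p₀.move v) hv)
  have hcj : ∀ u : ↥(CC F.z), IsConj F.z ((k * u * k⁻¹ : ↥(CC F.z)) : G) ↔ IsConj F.z (u : G) := fun u => by
    have h : IsConj (u : G) ((k * u * k⁻¹ : ↥(CC F.z)) : G) :=
      _root_.isConj_iff.2 ⟨k, by push_cast; rfl⟩
    exact ⟨fun h' => h'.trans h.symm, fun h' => h'.trans h⟩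
  refine Set.ncard_congr (fun u _ => k * u * k⁻¹) ?_ ?_ ?_
  · rintro u ⟨h1, h2⟩
    refine ⟨(hcj u).2 h1, ?_⟩
    rw [map_mul, map_mul, map_inv, h2]; exact hg
  · intro a b _ _ h; exact mul_left_cancel (mul_right_cancel h)
  · rintro u ⟨h1, h2⟩
    refine ⟨k⁻¹ * u * k, ⟨(hcj _).1 (by rw [show k * (k⁻¹ * u * k) * k⁻¹ = u by group]; exact h1), ?_⟩, by group⟩
    rw [map_mul, map_mul, map_inv, h2]
    show (F.π k)⁻¹ * tT * F.π k = e
    rw [← hg]; group

/-- Conjugates with commuting images commute. -/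
theorem nat_comm_T (C : F.Chart .nat) (a b : F.Pair) (ha : F.π a.sC = el wT)
    (hc : Commute (F.π a.sC) (F.π b.sC)) : a.s * b.s = b.s * a.s := by
  have hO := F.only_nat C
  obtain ⟨v, hv⟩ := F.nat_image C b
  let o : F.Out .nat :=
    { toPair := a, C := C, wt := wT, hs := ha, wt_ne := fun e => tT_ne e, only := hO,
      perp := (perp_check .nat (kind_mem _)).1 }
  by_cases heq : F.π b.sC = el wT
  · -- the same transvection
    obtain ⟨hJ, him⟩ := F.nat_diff C a b ha heq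
    have h := (F.nat_lift C a ha).1 _ hJ (o.mem_fixL.1 (o.im_fixed him)).2
    have h' : a.s * b.s * a.s = b.s := by
      calc a.s * b.s * a.s = a.s * (a.s * b.s) := h
        _ = b.s := by rw [← mul_assoc, a.s_sq, one_mul]
    calc a.s * b.s = a.s * b.s * (a.s * a.s) := by rw [a.s_sq, mul_one]
      _ = b.s * a.s := by rw [← mul_assoc, h']
  -- distinct orthogonal transvections
  obtain ⟨o', ho', he⟩ : ∃ o' ∈ orbN, F.π b.sC = el (invW o' ++ wT ++ o') := by
    have hb : F.π b.sC ∈ E4 := by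
      rw [show F.π b.sC = (F.π v)⁻¹ * F.π (b.move v).sC * F.π v by rw [b.π_move]; group, hv]
      have := E4_conj_mem (F.π v)⁻¹ tT_mem
      rwa [inv_inv] at this
    obtain ⟨w, hw0, hw, hwe⟩ := hb
    rw [← hwe]
    obtain ⟨n, hn, rfl⟩ := vec_surj w
    have h0 : n ≠ 0 := fun e => hw0 (by subst e; funext i; simp [vec]; rfl)
    obtain ⟨o', ho', hw'⟩ := List.any_eq_true.1 ((orbN_cover n hn ((root_data n hn).1 hw)).resolve_left h0)
    refine ⟨o', ho', ?_⟩
    have hroot : el o' * Block.FischerTypes.U6.root U62Rec.k4_card hw * (el o')⁻¹ = el wT := by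
      show Cfsg.Agent.Classical.suToPSU 4 Spor.USixTwo.K4 2 (sel o') * Cfsg.Agent.Classical.suToPSU 4 Spor.USixTwo.K4 2 (Spor.UnitTwo.tv _ hw) *
        (Cfsg.Agent.Classical.suToPSU 4 Spor.USixTwo.K4 2 (sel o'))⁻¹ = _
      rw [← map_mul, ← map_inv, ← map_mul]
      refine congrArg _ ?_
      rw [Spor.UnitTwo.suVal_conj]
      refine Cfsg.Agent.Classical.suVal_ext (Matrix.ext_iff_mulVec.2 fun x => ?_)
      obtain ⟨m, hm, rfl⟩ := vec_surj x
      rw [Spor.UnitTwo.suVal_tv, Spor.UnitTwo.T_apply U62Rec.k4_card, sel_mulVec wT hm, (root_data m hm).2,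
        sel_mulVec o' hn, beq_iff_eq.1 hw']
    rw [el_append, el_append, ← hroot, eq_inv_of_mul_eq_one_left (el_invW o')]
    group
  have hab : F.π (a.sC * b.sC * a.sC * b.sC) = 1 := by
    rw [map_mul, map_mul, map_mul]
    calc F.π a.sC * F.π b.sC * F.π a.sC * F.π b.sC = F.π a.sC * F.π a.sC * (F.π b.sC * F.π b.sC) := by
          rw [mul_assoc (F.π a.sC) (F.π b.sC), ← hc.eq]; group
      _ = 1 := by rw [a.π_sq, b.π_sq, one_mul]
  set y := a.s * b.s * a.s * b.s with hy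
  have hyJ : y ∈ F.J := (F.ker _).1 hab
  -- in the commutator space of the first
  have hq : F.π (a.move b.sC).sC = el wT := by rw [a.π_move, ← hc.eq, mul_inv_cancel_right, ha]
  have hy1 : C.cv y ∈ imL .nat wT := by
    have := (F.nat_diff C a (a.move b.sC) ha hq).2
    rw [a.move_s] at this
    have e : a.s * ((b.sC : G) * a.s * (b.sC : G)⁻¹) = y := by
      rw [hy, show ((b.sC : ↥(CC F.z)) : G) = b.s from rfl, b.s_inv]; group
    rwa [e] at this
  -- and, moved, of the second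
  obtain ⟨k, hk⟩ := F.surj (el o')
  have hbT : F.π (b.move k).sC = el wT := by
    rw [b.π_move, hk, he, el_append, el_append, eq_inv_of_mul_eq_one_left (el_invW o')]; group
  have hcT : F.π ((b.move a.sC).move k).sC = el wT := by
    rw [Pair.π_move, hk, b.π_move, hc.eq, mul_inv_cancel_right, he, el_append, el_append,
      eq_inv_of_mul_eq_one_left (el_invW o')]
    group
  have hy2 : app (Kind.nat.mat o') (C.cv y) ∈ imL .nat wT := by
    have := (F.nat_diff C ((b.move a.sC).move k) (b.move k) hcT hbT).2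
    rw [Pair.move_s, Pair.move_s, Pair.move_s] at this
    have e : (k : G) * ((a.sC : G) * b.s * (a.sC : G)⁻¹) * (k : G)⁻¹ * ((k : G) * b.s * (k : G)⁻¹) =
        (k : G) * y * (k : G)⁻¹ := by
      rw [hy, show ((a.sC : ↥(CC F.z)) : G) = a.s from rfl, a.s_inv]; group
    rw [e, C.conj o' k hk y hyJ] at this
    exact this
  have hcomm' : wd mn ((invW o' ++ wT ++ o') ++ wT) = wd mn (wT ++ (invW o' ++ wT ++ o')) :=
    el_eq_iff.1 (by rw [el_append, el_append wT, ← he, ← ha]; exact hc.eq.symm)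
  have hne' : wd mn (invW o' ++ wT ++ o') ≠ wd mn wT := fun e => heq (he.trans (el_eq_iff.2 e))
  have h0 := orth_roots o' ho' hcomm' hne' _ hy1 hy2
  rcases (C.zero_iff y hyJ).1 h0 with e | e
  · calc a.s * b.s = y * (b.s⁻¹ * a.s⁻¹) := by rw [hy]; group
      _ = b.s * a.s := by rw [e, one_mul, a.s_inv, b.s_inv]
  · exfalso
    refine (F.nat_lift C (b.move k) hbT).2 ?_
    have h2 : a.s * b.s * a.s = b.s * F.z := by
      calc a.s * b.s * a.s = y * b.s := by rw [hy, mul_assoc _ b.s b.s, b.s_sq, mul_one]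
        _ = F.z * b.s := by rw [e]
        _ = b.s * F.z := b.comm.symm
    rw [b.move_s, show (k : G) * b.s * (k : G)⁻¹ * F.z = (k : G) * (b.s * F.z) * (k : G)⁻¹ by
      rw [mul_assoc _ _ F.z, (Commute.inv_left (F.comm_z k.2)).eq]; group]
    refine b.isConj.trans (_root_.isConj_iff.2 ⟨(k : G) * a.s, ?_⟩)
    rw [← h2]
    calc (k : G) * a.s * b.s * ((k : G) * a.s)⁻¹ = (k : G) * (a.s * b.s * a.s⁻¹) * (k : G)⁻¹ := by group
      _ = _ := by rw [a.s_inv]

theorem nat_comm (C : F.Chart .nat) (a b : F.Pair) (hc : Commute (F.π a.sC) (F.π b.sC)) :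
    a.s * b.s = b.s * a.s := by
  obtain ⟨u, hu⟩ := F.nat_image C a
  have h := F.nat_comm_T C (a.move u) (b.move u) hu (by
    rw [a.π_move, b.π_move]
    show _ = _
    calc F.π u * F.π a.sC * (F.π u)⁻¹ * (F.π u * F.π b.sC * (F.π u)⁻¹)
        = F.π u * (F.π a.sC * F.π b.sC) * (F.π u)⁻¹ := by group
      _ = _ := by rw [hc.eq]; group)
  rw [a.move_s, b.move_s] at h
  calc a.s * b.s = (u : G)⁻¹ * ((u : G) * a.s * (u : G)⁻¹ * ((u : G) * b.s * (u : G)⁻¹)) * u := by group
    _ = _ := by rw [h]; group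

end Frame

end Cfsg.Agent.Fus.U62Red
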