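import Cfsg.Agent.Lib.Fus.U62Red.Finish

/-!
Recognition of `U₆(2)`, the reduction: the lines are orthogonal and anisotropic.
-/

set_option autoImplicit false

namespace Cfsg.Agent.Fus.U62Red

open Cfsg.Agent.Fus.U62Rec (Q4)

namespace Mod

variable {V : Type*} [AddCommGroup V] (M : Mod V)

theorem polar_comm (x y : V) : polar M.q x y = polar M.q y x := by
  rw [polar, polar, add_comm x y]; cases M.q (y + x) <;> cases M.q x <;> cases M.q y <;> rfl

theorem polar_zero_left (y : V) : polar M.q 0 y = false := by
  rw [polar, zero_add, M.q_zero]; cases M.q y <;> rfl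

theorem polar_add_right (x y w : V) : polar M.q x (y + w) = (polar M.q x y ^^ polar M.q x w) := by
  rw [M.polar_comm, M.polar_add, M.polar_comm y, M.polar_comm w]

theorem polar_self (x : V) : polar M.q x x = false := by
  rw [polar, M.two, M.q_zero]; cases M.q x <;> rfl

theorem polar_act (g : Ev) (x y : V) : polar M.q (M.act g x) (M.act g y) = polar M.q x y := by
  rw [polar, polar, ← map_add, act, M.q_inv, M.q_inv, M.q_inv]

theorem q_act (g : Ev) (x : V) : M.q (M.act g x) = M.q x := M.q_inv _ _

theorem q_add_orth {x y : V} (h : polar M.q x y = false) : M.q (x + y) = (M.q x ^^ M.q y) := by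
  rw [polar] at h
  revert h; cases M.q (x + y) <;> cases M.q x <;> cases M.q y <;> simp

/-- What is fixed by an element acting without fixed points on a line is orthogonal to it. -/
theorem orth_fixed {k e : Ev} (he : lv k e = 1) {x y : V} (hy : y ∈ M.U k) (hx : M.act e x = x) :
    polar M.q x y = false := by
  have key : ∀ z ∈ M.U k, polar M.q x (z + M.act e z) = false := fun z _ => by
    rw [M.polar_add_right]
    have h := M.polar_act e x z
    rw [hx] at h
    rw [h]; cases polar M.q x z <;> rfl
  have h := key _ (M.act_mem hy e)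
  rw [← act_add, M.act_line he hy (e + e), lv_add, he, if_neg (by decide), if_neg (by decide),
    show M.act e y + (y + M.act e y) = y + (M.act e y + M.act e y) by abel, M.two, add_zero] at h
  exact h

theorem orth_lines {l k : Ev} (hl : l ∈ allLines) (hk : k ∈ allLines) (hne : l ≠ k) {x y : V} (hx : x ∈ M.U l)
    (hy : y ∈ M.U k) : polar M.q x y = false := by
  obtain ⟨e, h0, h1⟩ := line_indep l hl k hk hne
  exact M.orth_fixed h1 hy (hx.1 e h0)

theorem orth_V0 {k : Ev} (hk : k ∈ allLines) {x y : V} (hx : x ∈ M.V0) (hy : y ∈ M.U k) :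
    polar M.q x y = false := by
  obtain ⟨e, he⟩ := line_zero.2 k hk
  exact M.orth_fixed he hy (hx e)

theorem exists_polar_component {x : V} (h : x ≠ 0) :
    polar M.q x (M.S (Classical.choose (M.nondeg x h))) = true ∨
      ∃ k ∈ allLines, polar M.q x (M.proj k (Classical.choose (M.nondeg x h))) = true := by
  have hy := Classical.choose_spec (M.nondeg x h)
  generalize Classical.choose (M.nondeg x h) = y at hy ⊢
  rw [M.decomp y, M.polar_add_right] at hy
  by_cases hs : polar M.q x (M.S y) = true
  · exact Or.inl hs
  rw [Bool.not_eq_true] at hs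
  rw [hs, Bool.false_xor] at hy
  refine Or.inr ?_
  have : ∀ L : List Ev, polar M.q x ((L.map fun l => M.proj l y).sum) = true →
      ∃ k ∈ L, polar M.q x (M.proj k y) = true := by
    intro L
    induction L with
    | nil => intro h'; rw [List.map_nil, List.sum_nil, M.polar_comm, M.polar_zero_left] at h'; simp at h'
    | cons l L ih =>
      intro h'
      rw [List.map_cons, List.sum_cons, M.polar_add_right] at h'
      by_cases hl : polar M.q x (M.proj l y) = true
      · exact ⟨l, List.mem_cons_self .., hl⟩
      · rw [Bool.not_eq_true] at hl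
        rw [hl, Bool.false_xor] at h'
        obtain ⟨k, hk, e⟩ := ih h'
        exact ⟨k, List.mem_cons_of_mem _ hk, e⟩
  exact this allLines hy

theorem S_mem (y : V) : M.S y ∈ M.V0 := fun e => M.act_S e y

/-- The form is anisotropic on a line of four elements. -/
theorem q_line {l g : Ev} (hl : l ∈ allLines) (hg : lv l g = 1) (hc : Nat.card ↥(M.U l) = 4) {w : V}
    (hw : w ∈ M.U l) (h0 : w ≠ 0) : M.q w = true ∧ M.q (M.act g w) = true ∧ M.q (w + M.act g w) = true := by
  have h2 : M.q (M.act g w) = M.q w := M.q_act g w
  have h3 : M.q (w + M.act g w) = M.q w := by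
    have := M.act_line hg hw (g + g)
    rw [lv_add, hg, if_neg (by decide), if_neg (by decide)] at this
    rw [← this, M.q_act]
  suffices hq : M.q w = true from ⟨hq, h2.trans hq, h3.trans hq⟩
  by_contra hq
  rw [Bool.not_eq_true] at hq
  rcases M.exists_polar_component h0 with h | ⟨k, hk, h⟩
  · rw [M.polar_comm, M.orth_V0 hl (M.S_mem _) hw] at h
    exact Bool.false_ne_true h
  · by_cases e : k = l
    · subst e
      rcases M.U_elems hg hc hw h0 (M.proj_mem hk _) with e | e | e | e <;> rw [e] at h
      · rw [M.polar_comm, M.polar_zero_left] at h; exact Bool.false_ne_true h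
      · rw [M.polar_self] at h; exact Bool.false_ne_true h
      · rw [polar, h3, h2, hq] at h; exact Bool.false_ne_true h
      · rw [M.polar_add_right, M.polar_self, polar, h3, h2, hq] at h; exact Bool.false_ne_true h
    · rw [M.polar_comm, M.orth_lines hk hl e (M.proj_mem hk _) hw] at h
      exact Bool.false_ne_true h

/-- Any two nonzero fixed vectors are not orthogonal when there are four. -/
theorem V0_polar {f f' : V} (hf : f ∈ M.V0) (h0 : f ≠ 0) (hf' : f' ∈ M.V0)
    (hall : ∀ x ∈ M.V0, x = 0 ∨ x = f ∨ x = f' ∨ x = f + f') : polar M.q f f' = true := by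
  rcases M.exists_polar_component h0 with h | ⟨k, hk, h⟩
  · rcases hall _ (M.S_mem (Classical.choose (M.nondeg f h0))) with e | e | e | e <;> rw [e] at h
    · rw [M.polar_comm, M.polar_zero_left] at h; exact absurd h Bool.false_ne_true
    · rw [M.polar_self] at h; exact absurd h Bool.false_ne_true
    · exact h
    · rwa [M.polar_add_right, M.polar_self, Bool.false_xor] at h
  · rw [M.orth_V0 hk hf (M.proj_mem hk _)] at h
    exact absurd h Bool.false_ne_true

theorem eq_top_of_card_T {L : List Ev} (hn : L.Nodup) (hL : ∀ k ∈ L, k ∈ allLines)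
    (h : (L.map fun l => Nat.card ↥(M.U l)).prod * Nat.card ↥M.V0 = 256) (x : V) :
    ∀ k ∈ allLines, k ∉ L → M.proj k x = 0 := by
  haveI := M.finite
  have htop : M.T L = ⊤ := AddSubgroup.eq_top_of_le_card _ (by rw [M.card, M.card_T L hn hL, h])
  have : x ∈ M.T L := htop ▸ AddSubgroup.mem_top x
  exact this

end Mod

end Cfsg.Agent.Fus.U62Red
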