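import Cfsg.Agent.Lib.Fus.U62Red.Pair

/-!
Recognition of `U₆(2)`, the reduction: a conjugate of `z` outside the extraspecial group.

Its lifts over an involution of the quotient are told apart by the linear function "does not commute" on the
fixed space; the rule is that `x ∈ J ∩ J'` with `s x` conjugate to `z` forces `x = 1`.
-/

set_option autoImplicit false
set_option linter.unusedSectionVars false

namespace Cfsg.Agent.Fus.U62Red

open Cfsg.Agent.Fus.U62Rec (Q4 CC)
open Cfsg.Agent.Invol.ExtraEight (app app_lt app_xor)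

variable {G : Type*} [Group G]

namespace Frame

/-- The extraspecial group contains no conjugate of its centre but the centre. -/
def OnlyZ (F : Frame G) : Prop := ∀ g : G, g * F.z * g⁻¹ ∈ F.J → g * F.z * g⁻¹ = F.z

/-- A pair outside the extraspecial group. -/
structure Out (F : Frame G) (K : Kind) extends F.Pair where
  C : F.Chart K
  wt : List ℕ
  hs : F.π ⟨g * F.z * g⁻¹, Subgroup.mem_centralizer_singleton_iff.2 comm⟩ = el wt
  wt_ne : el wt ≠ 1
  only : F.OnlyZ
  perp : perpCheck K wt = true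

namespace Out

variable {F : Frame G} {K : Kind} (o : F.Out K)

/-- The conjugate. -/
abbrev s : G := o.toPair.s

theorem sz_comm : o.s * F.z = F.z * o.s := o.toPair.comm

theorem s_not_mem : o.s ∉ F.J := fun h => o.wt_ne (o.hs.symm.trans ((F.ker _).2 h))

theorem z_not_mem [Finite G] : F.z ∉ o.toPair.F'.J := fun h => o.s_not_mem (o.toPair.mem_iff.1 h)

theorem key {x : G} (hx : x ∈ o.toPair.I) (hD : IsConj F.z (o.s * x)) : x = 1 := by
  obtain ⟨g, hg⟩ := _root_.isConj_iff.1 hD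
  have hm : o.s * x ∈ o.toPair.F'.J := mul_mem o.toPair.F'.ext.mem hx.2
  rw [Frame.mem_conj_J] at hm
  have h1 := o.only (o.g⁻¹ * g) (by
    rw [show o.g⁻¹ * g * F.z * (o.g⁻¹ * g)⁻¹ = o.g⁻¹ * (g * F.z * g⁻¹) * o.g by group, hg]; exact hm)
  have h2 : o.s * x = o.s := by
    calc o.s * x = o.g * (o.g⁻¹ * g * F.z * (o.g⁻¹ * g)⁻¹) * o.g⁻¹ := by rw [← hg]; group
      _ = o.g * F.z * o.g⁻¹ := by rw [h1]
  exact mul_eq_left.1 h2

/-- Conjugation by the conjugate on coordinates. -/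
theorem cv_conj_s {x : G} (hx : x ∈ F.J) : o.C.cv (o.s * x * o.s⁻¹) = app (K.mat o.wt) (o.C.cv x) :=
  o.C.conj o.wt ⟨o.s, o.toPair.s_mem⟩ o.hs x hx

theorem s_conj_mem {x : G} (hx : x ∈ F.J) : o.s * x * o.s⁻¹ ∈ F.J := F.norm o.toPair.s_mem hx

theorem fixed_of_comm {x : G} (hx : x ∈ F.J) (h : x * o.s = o.s * x) :
    app (K.mat o.wt) (o.C.cv x) = o.C.cv x := by
  rw [← o.cv_conj_s hx, show o.s * x * o.s⁻¹ = x by rw [← h]; group]

theorem conj_of_fixed {x : G} (hx : x ∈ F.J) (h : app (K.mat o.wt) (o.C.cv x) = o.C.cv x) :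
    x * o.s * x⁻¹ = o.s ∨ x * o.s * x⁻¹ = o.s * F.z := by
  have e := o.cv_conj_s hx
  rw [h] at e
  rcases (o.C.cv_eq_iff (o.s_conj_mem hx) hx).1 e with e' | e'
  · left; rw [mul_inv_eq_iff_eq_mul, ← mul_inv_eq_iff_eq_mul.1 e']
  · right
    rw [mul_inv_eq_iff_eq_mul] at e'
    rw [mul_inv_eq_iff_eq_mul]
    calc x * o.s = x * F.z * o.s * F.z := by
          rw [mul_assoc x F.z, ← o.sz_comm, ← mul_assoc x, F.mul_z_z]
      _ = o.s * x * F.z := by rw [← e']
      _ = o.s * F.z * x := by rw [mul_assoc, F.ext.central x hx, ← mul_assoc]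

theorem closed_of_noncomm {x : G} (hx : x ∈ F.J) (h : app (K.mat o.wt) (o.C.cv x) = o.C.cv x)
    (hn : x * o.s ≠ o.s * x) : x * o.s * x⁻¹ = o.s * F.z :=
  (o.conj_of_fixed hx h).resolve_left fun e => hn (mul_inv_eq_iff_eq_mul.1 e)

theorem isConj_conj (j : G) : IsConj F.z (j * o.s * j⁻¹) :=
  o.toPair.isConj.trans (_root_.isConj_iff.2 ⟨j, rfl⟩)

theorem closed (h : ∃ x ∈ F.J, app (K.mat o.wt) (o.C.cv x) = o.C.cv x ∧ x * o.s ≠ o.s * x) :
    IsConj F.z (o.s * F.z) := by
  obtain ⟨x, hx, hf, hn⟩ := h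
  rw [← o.closed_of_noncomm hx hf hn]
  exact o.isConj_conj x

/-- The commutator of the conjugate with an element of `J`. -/
def cm (j : G) : G := o.s * j * o.s * j⁻¹

theorem cm_mem {j : G} (hj : j ∈ F.J) : o.cm j ∈ F.J := by
  have h := mul_mem (o.s_conj_mem hj) (inv_mem hj)
  rwa [o.toPair.s_inv] at h

theorem cv_cm {j : G} (hj : j ∈ F.J) : o.C.cv (o.cm j) = app (K.mat o.wt) (o.C.cv j) ^^^ o.C.cv j := by
  rw [cm, show o.s * j * o.s = o.s * j * o.s⁻¹ by rw [o.toPair.s_inv], o.C.cv_mul _ (o.s_conj_mem hj) _ (inv_mem hj),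
    o.cv_conj_s hj, o.C.cv_inv hj]

theorem s_mul_cm (j : G) : o.s * o.cm j = j * o.s * j⁻¹ := by
  rw [cm]
  simp only [← mul_assoc, o.toPair.s_sq, one_mul]

theorem mem_imL {x : ℕ} : x ∈ imL K o.wt ↔ ∃ n < 256, app (K.mat o.wt) n ^^^ n = x := by
  simp [imL, List.mem_dedup]

theorem mem_fixL {x : ℕ} : x ∈ fixL K o.wt ↔ x < 256 ∧ app (K.mat o.wt) x = x := by
  simp [fixL]

theorem exists_cm {x : G} (hx : x ∈ F.J) (h : o.C.cv x ∈ imL K o.wt) :
    ∃ j ∈ F.J, x = o.cm j ∨ x = o.cm j * F.z := by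
  obtain ⟨n, hn, e⟩ := o.mem_imL.1 h
  obtain ⟨j, hj, rfl⟩ := o.C.surj n hn
  rw [← o.cv_cm hj] at e
  exact ⟨j, hj, (o.C.cv_eq_iff hx (o.cm_mem hj)).1 e.symm⟩

/-- With `s z` conjugate to `z`, the common part avoids the commutator space. -/
theorem I_avoids (hc : IsConj F.z (o.s * F.z)) {x : G} (hx : x ∈ o.toPair.I)
    (h : o.C.cv x ∈ imL K o.wt) : x = 1 := by
  obtain ⟨j, hj, e | e⟩ := o.exists_cm hx.1 h
  · refine o.key hx ?_
    rw [e, o.s_mul_cm]; exact o.isConj_conj j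
  · refine o.key hx ?_
    have : o.s * x = j * (o.s * F.z) * j⁻¹ := by
      rw [e, ← mul_assoc, o.s_mul_cm]
      rw [mul_assoc, F.ext.central j⁻¹ (inv_mem hj)]; group
    rw [this]
    exact hc.trans (_root_.isConj_iff.2 ⟨j, rfl⟩)

theorem perp_of {u : ℕ} (hu : u ∈ fixL K o.wt) (h : ∀ c ∈ fixL K o.wt, K.bq u c = false) : u ∈ imL K o.wt := by
  have hp := o.perp
  simp only [perpCheck, Bool.and_eq_true, List.all_eq_true, Bool.or_eq_true, List.contains_iff_mem,
    List.any_eq_true] at hp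
  rcases hp.1.1 u hu with e | ⟨c, hc, e⟩
  · exact e
  · rw [h c hc] at e; exact Bool.noConfusion e

theorem im_perp {i c : ℕ} (hi : i ∈ imL K o.wt) (hc : c ∈ fixL K o.wt) : K.bq i c = false := by
  have hp := o.perp
  simp only [perpCheck, Bool.and_eq_true, List.all_eq_true, Bool.not_eq_true'] at hp
  exact hp.1.2 i hi c hc

theorem im_fixed {i : ℕ} (hi : i ∈ imL K o.wt) : i ∈ fixL K o.wt := by
  have hp := o.perp
  simp only [perpCheck, Bool.and_eq_true, List.all_eq_true, List.contains_iff_mem] at hp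
  exact hp.2 i hi

theorem cv_fixL {x : G} (hx : x ∈ F.J) (h : x * o.s = o.s * x) : o.C.cv x ∈ fixL K o.wt :=
  o.mem_fixL.2 ⟨o.C.lt x, o.fixed_of_comm hx h⟩

theorem I_fixL {x : G} (hx : x ∈ o.toPair.I) : o.C.cv x ∈ fixL K o.wt :=
  o.cv_fixL hx.1 (o.toPair.F'.ext.central x hx.2)

theorem I_cv_ne [Finite G] {x : G} (hx : x ∈ o.toPair.I) (h1 : x ≠ 1) : o.C.cv x ≠ 0 := fun e =>
  ((o.C.zero_iff x hx.1).1 e).elim h1 fun e' => o.z_not_mem (e' ▸ hx.2)

/-- Outside the commutator space the common part determines which elements commute with the conjugate. -/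
theorem fun_eq [Finite G] {x : G} (hx : x ∈ o.toPair.I) (hu : o.C.cv x ∉ imL K o.wt) {y : G} (hy : y ∈ F.J)
    (hf : app (K.mat o.wt) (o.C.cv y) = o.C.cv y) : y * o.s = o.s * y ↔ K.bq (o.C.cv x) (o.C.cv y) = false := by
  have hcomm : ∀ w ∈ F.J, w * o.s = o.s * w → x * w = w * x := fun w hw h =>
    o.toPair.I_central o.z_not_mem hx (o.toPair.mem_CJ.2 ⟨hw, h⟩)
  obtain ⟨c, hc, hcb⟩ : ∃ c ∈ fixL K o.wt, K.bq (o.C.cv x) c = true := by
    by_contra hcon
    simp only [not_exists, not_and, Bool.not_eq_true] at hcon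
    exact hu (o.perp_of (o.I_fixL hx) hcon)
  obtain ⟨hc256, hcf⟩ := o.mem_fixL.1 hc
  obtain ⟨v, hv, rfl⟩ := o.C.surj c hc256
  have hvn : v * o.s ≠ o.s * v := fun h => (o.C.bq_iff hx.1 hv).1 hcb (hcomm v hv h)
  refine ⟨fun h => (o.C.bq_false_iff hx.1 hy).2 (hcomm y hy h), fun h => ?_⟩
  by_contra hyn
  have hyv : (y * v) * o.s = o.s * (y * v) := by
    have e1 := o.closed_of_noncomm hy hf hyn
    have e2 := o.closed_of_noncomm hv hcf hvn
    refine mul_inv_eq_iff_eq_mul.1 ?_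
    calc y * v * o.s * (y * v)⁻¹ = y * (v * o.s * v⁻¹) * y⁻¹ := by group
      _ = y * o.s * (F.z * y⁻¹) := by rw [e2]; group
      _ = y * o.s * y⁻¹ * F.z := by rw [← F.ext.central y⁻¹ (inv_mem hy)]; group
      _ = o.s := by rw [e1, F.mul_z_z]
  have h1 := hcomm _ (mul_mem hy hv) hyv
  have h2 := (o.C.bq_false_iff hx.1 hy).1 h
  exact (o.C.bq_iff hx.1 hv).1 hcb (mul_left_cancel (a := y) (by
    rw [← mul_assoc, ← h2, mul_assoc, h1, mul_assoc]))

/-- Lifts of an element fixing the function centralise the conjugate. -/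
theorem exists_lift {w : List ℕ} (hw : el w * el o.wt = el o.wt * el w)
    (hfun : ∀ y ∈ F.J, ∀ y' ∈ F.J, app (K.mat o.wt) (o.C.cv y) = o.C.cv y →
      o.C.cv y' = app (K.mat w) (o.C.cv y) → (y' * o.s = o.s * y' ↔ y * o.s = o.s * y))
    (hor : (∃ x ∈ F.J, app (K.mat o.wt) (o.C.cv x) = o.C.cv x ∧ x * o.s ≠ o.s * x) ∨ ¬ IsConj F.z (o.s * F.z)) :
    ∃ u : ↥(CC F.z), F.π u = el w ∧ (u : G) * o.s = o.s * u := by
  obtain ⟨u, hu⟩ := F.surj (el w)
  have hsd : o.s = o.g * F.z * o.g⁻¹ := rfl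
  set s' := (u : G) * o.s * (u : G)⁻¹ with hs'
  set y := s' * o.s with hyd
  have hs'2 : s' * s' = 1 := by
    calc s' * s' = (u : G) * (o.s * o.s) * (u : G)⁻¹ := by rw [hs']; group
      _ = 1 := by rw [o.toPair.s_sq]; group
  have hyJ : y ∈ F.J := by
    have hπ : F.π (u * o.toPair.sC * u⁻¹ * o.toPair.sC) = 1 := by
      have hs0 : F.π o.toPair.sC = el o.wt := o.hs
      have hsq : F.π o.toPair.sC * F.π o.toPair.sC = 1 := by
        rw [← map_mul, ← map_one F.π]; exact congrArg F.π (Subtype.ext o.toPair.s_sq)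
      rw [map_mul, map_mul, map_mul, map_inv, hu, hs0, hw, mul_inv_cancel_right, ← hs0, hsq]
    exact (F.ker _).1 hπ
  have hys : s' = y * o.s := by rw [hyd, mul_assoc, o.toPair.s_sq, mul_one]
  have hyfix : app (K.mat o.wt) (o.C.cv y) = o.C.cv y := by
    rw [← o.cv_conj_s hyJ]
    have e : o.s * y * o.s⁻¹ = y⁻¹ := by
      rw [hyd, o.toPair.s_inv]
      calc o.s * (s' * o.s) * o.s = o.s * s' * (o.s * o.s) := by group
        _ = (s' * o.s)⁻¹ := by rw [o.toPair.s_sq, mul_one, mul_inv_rev, o.toPair.s_inv,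
              inv_eq_of_mul_eq_one_right hs'2]
    rw [e, o.C.cv_inv hyJ]
  have hperp : ∀ c ∈ fixL K o.wt, K.bq (o.C.cv y) c = false := by
    intro c hc
    obtain ⟨hc256, hcf⟩ := o.mem_fixL.1 hc
    obtain ⟨d, hd, rfl⟩ := o.C.surj c hc256
    -- the preimage of `d` under `u`
    have hdu : (u : G)⁻¹ * d * (u : G) ∈ F.J := by
      simpa using F.norm (inv_mem u.2) hd
    have hcu : o.C.cv d = app (K.mat w) (o.C.cv ((u : G)⁻¹ * d * (u : G))) := by
      rw [← o.C.conj w u hu _ hdu]; congr 1; group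
    have hfixu : app (K.mat o.wt) (o.C.cv ((u : G)⁻¹ * d * (u : G))) = o.C.cv ((u : G)⁻¹ * d * (u : G)) := by
      set n := o.C.cv ((u : G)⁻¹ * d * (u : G)) with hn
      have hn256 : n < 256 := o.C.lt _
      have e1 : app (K.mat w) (app (K.mat o.wt) n) = app (K.mat w) n := by
        rw [← app_mat_append K w o.wt hn256]
        have hpres : ∀ m < 256, app (K.mat (w ++ o.wt)) m = app (K.mat (o.wt ++ w)) m := by
          intro m hm
          obtain ⟨x, hx, rfl⟩ := o.C.surj m hm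
          obtain ⟨a, ha⟩ := F.surj (el (w ++ o.wt))
          rw [← o.C.conj _ a ha x hx, ← o.C.conj _ a (by rw [ha, el_append, el_append, hw]) x hx]
        rw [hpres n hn256, app_mat_append K o.wt w hn256, ← hcu, hcf]
      obtain ⟨ui, hui⟩ : ∃ ui : List ℕ, el ui = (el w)⁻¹ := exists_word _
      have e2 : ∀ m < 256, app (K.mat ui) (app (K.mat w) m) = m := by
        intro m hm
        obtain ⟨x, hx, rfl⟩ := o.C.surj m hm
        rw [← app_mat_append K ui w (o.C.lt x), ← o.C.conj _ 1 (by rw [map_one, el_append, hui, inv_mul_cancel]) x hx]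
        simp
      have e3 := congrArg (app (K.mat ui)) e1
      rwa [e2 _ (app_mat_lt K o.wt n), e2 n hn256] at e3
    have h := hfun _ hdu d hd hfixu hcu
    have hs'c : d * s' = s' * d ↔ (u : G)⁻¹ * d * (u : G) * o.s = o.s * ((u : G)⁻¹ * d * (u : G)) := by
      rw [hs']
      constructor <;> intro e
      · calc _ = (u : G)⁻¹ * (d * ((u : G) * o.s * (u : G)⁻¹)) * u := by group
          _ = _ := by rw [e]; group
      · calc _ = (u : G) * ((u : G)⁻¹ * d * (u : G) * o.s) * (u : G)⁻¹ := by group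
          _ = _ := by rw [e]; group
    rw [o.C.bq_false_iff hyJ hd]
    by_cases hds : d * o.s = o.s * d
    · have e := hs'c.2 (h.1 hds)
      rw [hys] at e
      refine (mul_right_cancel (b := o.s) ?_).symm
      calc d * y * o.s = d * (y * o.s) := mul_assoc ..
        _ = y * (o.s * d) := by rw [e, mul_assoc]
        _ = y * d * o.s := by rw [← hds, ← mul_assoc]
    · have hn : ¬ d * s' = s' * d := fun e => hds (h.2 (hs'c.1 e))
      have e1 := o.closed_of_noncomm hd hcf hds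
      rcases F.ext.conj_eq hyJ hd with e2 | e2
      · exact (mul_inv_eq_iff_eq_mul.1 e2).symm
      · refine absurd (mul_inv_eq_iff_eq_mul.1 ?_) hn
        rw [hys]
        calc d * (y * o.s) * d⁻¹ = (d * y * d⁻¹) * (d * o.s * d⁻¹) := by group
          _ = y * (F.z * o.s) * F.z := by rw [e1, e2]; group
          _ = y * o.s := by rw [← o.sz_comm, ← mul_assoc, F.mul_z_z]
  obtain ⟨j, hj, hjy⟩ := o.exists_cm hyJ (o.perp_of (o.mem_fixL.2 ⟨o.C.lt y, hyfix⟩) hperp)
  -- a conjugate of `s` or of `s z` by an element of `J`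
  have hcase : ∃ a ∈ F.J, a * s' * a⁻¹ = o.s ∨ a * s' * a⁻¹ = o.s * F.z := by
    have hcs : o.cm j * o.s = o.s * j * o.s * j⁻¹ * o.s := rfl
    have hb : o.s * j * o.s ∈ F.J := by
      have := o.s_conj_mem hj; rwa [o.toPair.s_inv] at this
    refine ⟨(o.s * j * o.s)⁻¹, inv_mem hb, ?_⟩
    have e0 : (o.s * j * o.s)⁻¹ * (o.cm j * o.s) * (o.s * j * o.s)⁻¹⁻¹ = o.s := by
      rw [hcs]
      calc (o.s * j * o.s)⁻¹ * (o.s * j * o.s * j⁻¹ * o.s) * (o.s * j * o.s)⁻¹⁻¹
          = j⁻¹ * (o.s * o.s) * j * o.s := by group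
        _ = o.s := by rw [o.toPair.s_sq]; group
    rcases hjy with e | e
    · left; rw [hys, e]; exact e0
    · right
      rw [hys, e]
      calc (o.s * j * o.s)⁻¹ * (o.cm j * F.z * o.s) * (o.s * j * o.s)⁻¹⁻¹
          = (o.s * j * o.s)⁻¹ * (o.cm j * o.s) * (F.z * (o.s * j * o.s)⁻¹⁻¹) := by
            rw [mul_assoc (o.cm j), ← o.sz_comm]; group
        _ = (o.s * j * o.s)⁻¹ * (o.cm j * o.s) * (o.s * j * o.s)⁻¹⁻¹ * F.z := by
            rw [← F.ext.central _ (inv_mem (inv_mem hb))]; group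
        _ = _ := by rw [e0]
  obtain ⟨a, ha, hcase⟩ := hcase
  have hπa : F.π (⟨a, F.J_le ha⟩ * u) = el w := by rw [map_mul, (F.ker ⟨a, F.J_le ha⟩).2 ha, one_mul, hu]
  rcases hcase with e | e
  · refine ⟨⟨a, F.J_le ha⟩ * u, hπa, mul_inv_eq_iff_eq_mul.1 ?_⟩
    refine Eq.trans ?_ e
    rw [hs']; push_cast; group
  · rcases hor with ⟨x, hx, hxf, hxn⟩ | hnc
    · refine ⟨⟨x, F.J_le hx⟩ * (⟨a, F.J_le ha⟩ * u), ?_, mul_inv_eq_iff_eq_mul.1 ?_⟩
      · rw [map_mul, (F.ker ⟨x, F.J_le hx⟩).2 hx, one_mul, hπa]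
      · push_cast
        calc x * (a * (u : G)) * o.s * (x * (a * (u : G)))⁻¹
            = x * (a * s' * a⁻¹) * x⁻¹ := by rw [hs']; group
          _ = x * o.s * (F.z * x⁻¹) := by rw [e]; group
          _ = x * o.s * x⁻¹ * F.z := by rw [← F.ext.central x⁻¹ (inv_mem hx)]; group
          _ = o.s := by rw [o.closed_of_noncomm hx hxf hxn, F.mul_z_z]
    · refine absurd ?_ hnc
      rw [← e, hs', show a * ((u : G) * o.s * (u : G)⁻¹) * a⁻¹ = a * (u : G) * o.s * (a * (u : G))⁻¹ by group]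
      exact o.isConj_conj _

/-- The centraliser of the conjugate is at least as large as the fixed space. -/
theorem card_CJ_ge [Finite G] :
    (fixL K o.wt).length ≤ Nat.card ↥o.toPair.CJ ∧
      ((∀ x ∈ F.J, app (K.mat o.wt) (o.C.cv x) = o.C.cv x → x * o.s = o.s * x) →
        2 * (fixL K o.wt).length ≤ Nat.card ↥o.toPair.CJ) := by
  classical
  set L := fixL K o.wt with hL
  have hnd : L.Nodup := List.nodup_range.filter _
  choose pre hpre hcv using fun n : {n // n ∈ L} => o.C.surj n.1 (o.mem_fixL.1 n.2).1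
  have hfix : ∀ n, app (K.mat o.wt) (o.C.cv (pre n)) = o.C.cv (pre n) := fun n => by
    rw [hcv]; exact (o.mem_fixL.1 n.2).2
  have hcard : Fintype.card {n // n ∈ L} = L.length := by
    rw [Fintype.card_of_subtype L.toFinset (fun n => List.mem_toFinset), List.toFinset_card_of_nodup hnd]
  refine ⟨?_, fun hall => ?_⟩
  · -- correct by one noncommuting element
    by_cases hex : ∃ x ∈ F.J, app (K.mat o.wt) (o.C.cv x) = o.C.cv x ∧ x * o.s ≠ o.s * x
    · obtain ⟨x, hx, hxf, hxn⟩ := hex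
      let f : {n // n ∈ L} → ↥o.toPair.CJ × Bool → Prop := fun n r =>
        o.C.cv (r.1 : G) = cond r.2 (n.1 ^^^ o.C.cv x) n.1
      have hex' : ∀ n, ∃ r : ↥o.toPair.CJ × Bool, f n r := fun n => by
        by_cases hc : pre n * o.s = o.s * pre n
        · exact ⟨(⟨pre n, o.toPair.mem_CJ.2 ⟨hpre n, hc⟩⟩, false), hcv n⟩
        · refine ⟨(⟨pre n * x, o.toPair.mem_CJ.2 ⟨mul_mem (hpre n) hx, mul_inv_eq_iff_eq_mul.1 ?_⟩⟩, true), ?_⟩
          · calc pre n * x * o.s * (pre n * x)⁻¹ = pre n * (x * o.s * x⁻¹) * (pre n)⁻¹ := by group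
              _ = pre n * o.s * (F.z * (pre n)⁻¹) := by rw [o.closed_of_noncomm hx hxf hxn]; group
              _ = pre n * o.s * (pre n)⁻¹ * F.z := by rw [← F.ext.central _ (inv_mem (hpre n))]; group
              _ = o.s := by rw [o.closed_of_noncomm (hpre n) (hfix n) hc, F.mul_z_z]
          · show o.C.cv (pre n * x) = _
            rw [o.C.cv_mul _ (hpre n) x hx, hcv]; rfl
      choose r hr using hex'
      -- an extra factor of two from the centre
      let φ : {n // n ∈ L} × Bool → ↥o.toPair.CJ × Bool := fun p =>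
        (cond p.2 ((r p.1).1 * ⟨F.z, o.toPair.mem_CJ.2 ⟨F.ext.mem, o.toPair.comm.symm⟩⟩) (r p.1).1, (r p.1).2)
      have hinj : Function.Injective φ := by
        rintro ⟨a, i⟩ ⟨b, j⟩ e
        have e2 : (r a).2 = (r b).2 := by have h := congrArg Prod.snd e; exact h
        have e1 := congrArg (fun q => ((q.1 : ↥o.toPair.CJ) : G)) e
        have hca : ∀ (n : {n // n ∈ L}) (i : Bool), o.C.cv ((φ (n, i)).1 : G) =
            cond (r n).2 (n.1 ^^^ o.C.cv x) n.1 := by
          intro n i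
          have h := hr n
          cases i
          · exact h
          · show o.C.cv (((r n).1 : G) * F.z) = _
            rw [o.C.cv_mul_z (o.toPair.mem_CJ.1 (r n).1.2).1]; exact h
        have h3 := congrArg o.C.cv e1
        simp only [hca, ← e2] at h3
        have hab : a = b := by
          refine Subtype.ext ?_
          cases hb : (r a).2 <;> rw [hb] at h3
          · exact h3
          · exact Nat.xor_left_injective h3
        subst hab
        cases i <;> cases j
        · rfl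
        · exact absurd (left_eq_mul.1 e1) F.ext.ne
        · exact absurd (mul_eq_left.1 e1) F.ext.ne
        · rfl
      have h := Nat.card_le_card_of_injective φ hinj
      rw [Nat.card_prod, Nat.card_prod, Nat.card_eq_fintype_card (α := {n // n ∈ L}), hcard] at h
      simp only [Nat.card_eq_fintype_card (α := Bool), Fintype.card_bool] at h
      omega
    · have hall : ∀ n, pre n * o.s = o.s * pre n := fun n => by
        by_contra hn; exact hex ⟨_, hpre n, hfix n, hn⟩
      have h := Nat.card_le_card_of_injective (α := {n // n ∈ L})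
        (fun n => (⟨pre n, o.toPair.mem_CJ.2 ⟨hpre n, hall n⟩⟩ : ↥o.toPair.CJ)) fun a b e => Subtype.ext (by
          rw [← hcv a, ← hcv b]; exact congrArg (fun q : ↥o.toPair.CJ => o.C.cv q) e)
      rwa [Nat.card_eq_fintype_card, hcard] at h
  · let φ : {n // n ∈ L} × Bool → ↥o.toPair.CJ := fun p => ⟨cond p.2 (pre p.1 * F.z) (pre p.1), by
      have hm : pre p.1 ∈ o.toPair.CJ := o.toPair.mem_CJ.2 ⟨hpre _, hall _ (hpre _) (hfix _)⟩
      cases p.2
      · exact hm
      · exact mul_mem hm (o.toPair.mem_CJ.2 ⟨F.ext.mem, o.toPair.comm.symm⟩)⟩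
    have hinj : Function.Injective φ := by
      rintro ⟨a, i⟩ ⟨b, j⟩ e
      have e1 : cond i (pre a * F.z) (pre a) = cond j (pre b * F.z) (pre b) := congrArg Subtype.val e
      have hca : ∀ n (i : Bool), o.C.cv (cond i (pre n * F.z) (pre n)) = n.1 := fun n i => by
        cases i <;> simp [o.C.cv_mul_z (hpre n), hcv]
      have hab : a = b := Subtype.ext (by rw [← hca a i, ← hca b j, e1])
      subst hab
      cases i <;> cases j
      · rfl
      · exact absurd (left_eq_mul.1 e1) F.ext.ne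
      · exact absurd (mul_eq_left.1 e1) F.ext.ne
      · rfl
    have h := Nat.card_le_card_of_injective φ hinj
    rw [Nat.card_prod, Nat.card_eq_fintype_card (α := {n // n ∈ L}), hcard] at h
    simp only [Nat.card_eq_fintype_card (α := Bool), Fintype.card_bool] at h
    omega

end Out

end Frame

end Cfsg.Agent.Fus.U62Red
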