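import Cfsg.Agent.Lib.Spor.ExtraPairCore
import Cfsg.Agent.Lib.Fus.U62Red.ChartLemmas
import Cfsg.Agent.Lib.Fus.U62Red.Group

/-!
Recognition of `U₆(2)`, the reduction: a conjugate of the involution commuting with it.
-/

set_option autoImplicit false
set_option linter.unusedSectionVars false

namespace Cfsg.Agent.Fus.U62Red

open Cfsg.Agent.Fus.U62Rec (Q4 CC)
open Cfsg.Agent.Invol.ExtraEight (app app_lt)

variable {G : Type*} [Group G]

namespace Frame

/-- A conjugate of `z` in its centraliser, other than itself, with a conjugating element. -/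
structure Pair (F : Frame G) where
  g : G
  comm : g * F.z * g⁻¹ * F.z = F.z * (g * F.z * g⁻¹)
  ne : g * F.z * g⁻¹ ≠ F.z

namespace Pair

variable {F : Frame G} (p : F.Pair)

/-- The conjugate. -/
def s : G := p.g * F.z * p.g⁻¹

theorem s_ne : p.s ≠ F.z := p.ne

theorem s_sq : p.s * p.s = 1 := by
  calc p.s * p.s = p.g * (F.z * F.z) * p.g⁻¹ := by rw [s]; group
    _ = 1 := by rw [F.ext.zz]; group

theorem s_inv : p.s⁻¹ = p.s := inv_eq_of_mul_eq_one_right p.s_sq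

theorem s_one : p.s ≠ 1 := fun e => F.ext.ne (conj_eq_one_iff.1 e)

theorem isConj : IsConj F.z p.s := _root_.isConj_iff.2 ⟨p.g, rfl⟩

theorem s_mem : p.s ∈ CC F.z := Subgroup.mem_centralizer_singleton_iff.2 p.comm

/-- The conjugate as an element of the centraliser. -/
def sC : ↥(CC F.z) := ⟨p.s, p.s_mem⟩

/-- The frame at the conjugate. -/
abbrev F' : Frame G := F.conj p.g

theorem F'_z : p.F'.z = p.s := rfl

theorem z_mem' : F.z ∈ CC p.F'.z :=
  Subgroup.mem_centralizer_singleton_iff.2 p.comm.symm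

/-- The pair seen from the other side. -/
def symm : p.F'.Pair where
  g := p.g⁻¹
  comm := by
    show p.g⁻¹ * (p.g * F.z * p.g⁻¹) * p.g⁻¹⁻¹ * (p.g * F.z * p.g⁻¹) = _
    rw [show p.g⁻¹ * (p.g * F.z * p.g⁻¹) * p.g⁻¹⁻¹ = F.z by group]
    show F.z * (p.g * F.z * p.g⁻¹) = p.g * F.z * p.g⁻¹ * (p.g⁻¹ * (p.g * F.z * p.g⁻¹) * p.g⁻¹⁻¹)
    rw [show p.g⁻¹ * (p.g * F.z * p.g⁻¹) * p.g⁻¹⁻¹ = F.z by group]
    exact p.comm.symm
  ne := by
    show p.g⁻¹ * (p.g * F.z * p.g⁻¹) * p.g⁻¹⁻¹ ≠ p.g * F.z * p.g⁻¹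
    rw [show p.g⁻¹ * (p.g * F.z * p.g⁻¹) * p.g⁻¹⁻¹ = F.z by group]
    exact p.ne.symm

theorem symm_s : p.symm.s = F.z := by
  show p.g⁻¹ * (p.g * F.z * p.g⁻¹) * p.g⁻¹⁻¹ = F.z
  group

theorem symm_J : p.symm.F'.J = F.J := by
  ext x
  rw [Frame.mem_conj_J, Frame.mem_conj_J]
  rw [show p.g⁻¹ * (p.symm.g⁻¹ * x * p.symm.g) * p.g = x by show p.g⁻¹ * (p.g⁻¹⁻¹ * x * p.g⁻¹) * p.g = x; group]

/-- Membership is symmetric. -/
theorem z_mem_of_mem [Finite G] (h : p.s ∈ F.J) : F.z ∈ p.F'.J := by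
  refine F.ext.mem_pair h ?_
  obtain ⟨x, hx, hxb, y, hy, hyb, hxy⟩ := F.ext.exists_noncommuting h (by rw [F.card_J]; norm_num)
  exact ⟨x, hx, hxb, y, hy, hyb, hxy⟩

theorem mem_iff [Finite G] : F.z ∈ p.F'.J ↔ p.s ∈ F.J := by
  refine ⟨fun h => ?_, p.z_mem_of_mem⟩
  have h' := p.symm.z_mem_of_mem (by rw [p.symm_s]; exact h)
  rw [p.symm_J] at h'
  exact h'

/-- The common part of the two extraspecial groups. -/
def I : Subgroup G := F.J ⊓ p.F'.J

/-- The centraliser of the conjugate in the extraspecial group. -/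
def CJ : Subgroup G := F.J ⊓ Subgroup.centralizer ({p.s} : Set G)

theorem mem_CJ {x : G} : x ∈ p.CJ ↔ x ∈ F.J ∧ x * p.s = p.s * x := by
  rw [CJ, Subgroup.mem_inf, Subgroup.mem_centralizer_singleton_iff]

theorem I_le : p.I ≤ p.CJ := fun x hx =>
  p.mem_CJ.2 ⟨hx.1, p.F'.ext.central x hx.2⟩

theorem I_sq {x : G} (hx : x ∈ p.I) : x * x = 1 := by
  rcases F.ext.sq x hx.1 with e | e
  · exact e
  rcases p.F'.ext.sq x hx.2 with e' | e'
  · exact e'
  · exact absurd (e'.symm.trans e) p.ne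

theorem CJ_norm {y : G} (hy : y ∈ p.CJ) {x : G} (hx : x ∈ p.I) : y * x * y⁻¹ ∈ p.I :=
  ⟨F.norm (F.J_le (p.mem_CJ.1 hy).1) hx.1, p.F'.ext.norm y (p.mem_CJ.1 hy).2 x hx.2⟩

/-- The common part is central in the centraliser of the conjugate, unless it contains `z`. -/
theorem I_central (hz : F.z ∉ p.F'.J) {x y : G} (hx : x ∈ p.I) (hy : y ∈ p.CJ) : x * y = y * x := by
  rcases F.ext.conj_eq hx.1 (p.mem_CJ.1 hy).1 with e | e
  · exact (mul_inv_eq_iff_eq_mul.1 e).symm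
  · refine absurd ?_ hz
    have h := (p.CJ_norm hy hx).2
    rw [e] at h
    simpa using p.F'.J.mul_mem (p.F'.J.inv_mem hx.2) h

/-- An element centralising both involutions normalises the common part. -/
theorem conj_I {u : G} (hu : u ∈ CC F.z) (hus : u * p.s = p.s * u) {x : G} (hx : x ∈ p.I) :
    u * x * u⁻¹ ∈ p.I :=
  ⟨F.norm hu hx.1, p.F'.ext.norm u hus x hx.2⟩

/-- The map of the centraliser of the conjugate in `J` to the other quotient. -/
def ψ : ↥p.CJ →* Q4 :=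
  p.F'.π.comp (Subgroup.inclusion fun _ hx => Subgroup.mem_centralizer_singleton_iff.2 (p.mem_CJ.1 hx).2)

theorem ψ_eq_one {x : ↥p.CJ} : p.ψ x = 1 ↔ (x : G) ∈ p.I := by
  show p.F'.π _ = 1 ↔ _
  rw [p.F'.ker]
  exact ⟨fun h => ⟨(p.mem_CJ.1 x.2).1, h⟩, fun h => h.2⟩

theorem card_CJ [Finite G] : Nat.card ↥p.ψ.range * Nat.card ↥p.I = Nat.card ↥p.CJ := by
  have hk : Nat.card ↥p.ψ.ker = Nat.card ↥p.I := Nat.card_congr
    { toFun := fun x => ⟨(x : ↥p.CJ), p.ψ_eq_one.1 x.2⟩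
      invFun := fun x => ⟨⟨x, p.I_le x.2⟩, p.ψ_eq_one.2 x.2⟩
      left_inv := fun _ => rfl
      right_inv := fun _ => rfl }
  rw [← hk, ← Subgroup.index_ker, mul_comm, Subgroup.card_mul_index]

theorem range_two [Finite G] : IsPGroup 2 ↥p.ψ.range := by
  haveI : Fact (Nat.Prime 2) := ⟨Nat.prime_two⟩
  have hJ : IsPGroup 2 ↥p.CJ :=
    (IsPGroup.of_card (n := 9) (by rw [F.card_J]; norm_num : Nat.card ↥F.J = 2 ^ 9)).to_le inf_le_left
  exact hJ.of_surjective p.ψ.rangeRestrict p.ψ.rangeRestrict_surjective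

theorem range_dvd [Finite G] : ∃ n ≤ 6, Nat.card ↥p.ψ.range = 2 ^ n := by
  haveI : Fact (Nat.Prime 2) := ⟨Nat.prime_two⟩
  obtain ⟨n, hn⟩ := IsPGroup.iff_card.1 p.range_two
  refine ⟨n, ?_, hn⟩
  have hd := Subgroup.card_subgroup_dvd_card p.ψ.range
  rw [hn, card_Q4] at hd
  by_contra h6
  have := (pow_dvd_pow 2 (by omega : 7 ≤ n)).trans hd
  norm_num at this

/-- The image cannot have order 64. -/
theorem no_sylow [Finite G] (h : 64 ≤ Nat.card ↥p.CJ) (hI : p.I = ⊥) : False := by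
  obtain ⟨n, hn, e⟩ := p.range_dvd
  have h' := p.card_CJ
  rw [hI, Subgroup.card_bot, mul_one] at h'
  refine sylow_derived (P := p.ψ.range) (c := p.F'.π ⟨F.z, p.z_mem'⟩) ?_ ?_
  · have : 2 ^ n ≤ 2 ^ 6 := Nat.pow_le_pow_right (by norm_num) hn
    norm_num at this
    omega
  · rintro _ ⟨a, rfl⟩ _ ⟨b, rfl⟩
    rw [← map_inv, ← map_inv, ← map_mul, ← map_mul, ← map_mul]
    rcases F.ext.comm _ (p.mem_CJ.1 a.2).1 _ (p.mem_CJ.1 b.2).1 with h1 | h1 <;> rw [commutatorElement_def] at h1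
    · left
      rw [show a * b * a⁻¹ * b⁻¹ = (1 : ↥p.CJ) from Subtype.ext (by push_cast; exact h1), map_one]
    · right
      show p.F'.π _ = _
      congr 1
      exact Subtype.ext (by push_cast; exact h1)

end Pair

end Frame

end Cfsg.Agent.Fus.U62Red
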