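import Cfsg.Agent.Lib.Fus.U62Red.NatCoords

/-!
Recognition of `U₆(2)`, the reduction: in the reducible case the fixed plane is acted on trivially.
-/

set_option autoImplicit false

namespace Cfsg.Agent.Fus.U62Red

open Cfsg.Agent.Fus.U62Rec (Q4)
open Cfsg.Agent.Invol.ExtraEight (app idm mu comb comb_xor comb_zero comb_map app_mu app_lt)

theorem pair_table (a : ℕ) (ha : a < 4) (b : ℕ) (hb : b < 4) (h0 : a ≠ 0) (h1 : b ≠ 0) (h2 : a ≠ b) :
    [a, b] ∈ planeMaps := by
  interval_cases a <;> interval_cases b <;> simp_all [planeMaps]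

theorem plane_lt : ∀ t ∈ planeMaps, ∀ x ∈ t, x < 256 := by decide

theorem pair_id : ∀ t ∈ planeMaps, ∀ u ∈ planeMaps, (∀ d < 4, app t d = app u d) → t = u := by decide +kernel

theorem plane_closed : ∀ t ∈ planeMaps, ∀ u ∈ planeMaps, mu t u ∈ planeMaps := by decide +kernel

theorem plane_range : ∀ t ∈ planeMaps, ∀ d < 4, app t d < 4 := by decide +kernel

theorem F_relations : el [2] * el [2] = 1 ∧ el [3, 3, 3, 3] = 1 ∧ el ([3, 2] ++ [3, 2] ++ [3, 2]) = 1 ∧
    el ([4] ++ [4] ++ [4]) = 1 ∧ el [4] * el [2] = el [2] * el [4] ∧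
    el [4, 3, 1, 4, 3, 1, 4, 3, 1, 4, 3, 1, 4, 3, 1] = 1 ∧ el [4] * el wE = el wE * el [4] := by
  refine ⟨?_, ?_, ?_, ?_, ?_, ?_, ?_⟩
  · rw [← el_append]; exact el_eq_one_iff.2 (rels_true ([2, 2], []) (by simp [rels]))
  · exact el_eq_one_iff.2 (rels_true ([3, 3, 3, 3], []) (by simp [rels]))
  · exact el_eq_one_iff.2 (rels_true ([3, 2, 3, 2, 3, 2], []) (by simp [rels]))
  · exact el_eq_one_iff.2 (rels_true ([4, 4, 4], []) (by simp [rels]))
  · rw [← el_append, ← el_append]; exact el_eq_iff.2 (rels_true ([4, 2], [2, 4]) (by simp [rels]))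
  · exact el_eq_one_iff.2 (rels_true ([4, 3, 1, 4, 3, 1, 4, 3, 1, 4, 3, 1, 4, 3, 1], []) (by simp [rels]))
  · rw [← el_append, ← el_append]; exact el_eq_iff.2 (rels_true ([4] ++ wE, wE ++ [4]) (by simp [rels]))

namespace Mod

variable {V : Type*} [AddCommGroup V] (M : Mod V)

/-- An element preserving the fixed plane is a permutation of its nonzero vectors. -/
theorem plane_rep {f f' : V} (hf : f ∈ M.V0) (hf' : f' ∈ M.V0)
    (hall : ∀ x ∈ M.V0, ∃ d < 4, comb [f, f'] d = x) (hinj : ∀ a < 4, ∀ b < 4, comb [f, f'] a = comb [f, f'] b → a = b)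
    {g : Q4} (hg : ∀ x ∈ M.V0, M.ρ g x ∈ M.V0) :
    ∃ t ∈ planeMaps, ∀ d < 4, M.ρ g (comb [f, f'] d) = comb [f, f'] (app t d) := by
  obtain ⟨a, ha, ea⟩ := hall _ (hg f hf)
  obtain ⟨b, hb, eb⟩ := hall _ (hg f' hf')
  have z1 : comb [f, f'] 1 = f := by simp [comb]
  have z2 : comb [f, f'] 2 = f' := by simp [comb]
  have hz : comb [f, f'] 0 = (0 : V) := comb_zero _
  refine ⟨[a, b], pair_table a ha b hb ?_ ?_ ?_, fun d _ => M.gen_of_basis _ ?_ ?_ d⟩
  · rintro rfl
    have := hinj 1 (by norm_num) 0 (by norm_num) (M.ρ_injective g (by rw [z1, ← ea, hz, map_zero]))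
    omega
  · rintro rfl
    have := hinj 2 (by norm_num) 0 (by norm_num) (M.ρ_injective g (by rw [z2, ← eb, hz, map_zero]))
    omega
  · rintro rfl
    have := hinj 1 (by norm_num) 2 (by norm_num) (M.ρ_injective g (by rw [z1, z2, ← ea, ← eb]))
    omega
  · intro x hx
    rcases List.mem_cons.1 hx with rfl | hx
    · omega
    · rw [List.mem_singleton.1 hx]; omega
  · simp [ea, eb]

theorem V0_act_word {w : List ℕ} (hw : ∀ i ∈ w, i ∈ [2, 3]) {x : V} (hx : x ∈ M.V0) : M.ρ (el w) x ∈ M.V0 := by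
  intro e
  obtain ⟨d, rfl⟩ := (phiw_bij w).2 e
  rw [act, ← M.mul, ← conj_word w hw, M.mul]
  exact congrArg _ (hx d)

theorem V0_act_R (hred : ∀ k ∈ allLines, k ∉ redLines → ∀ x, M.proj k x = 0) {x : V} (hx : x ∈ M.V0) :
    M.ρ (el [4]) x ∈ M.V0 := by
  obtain ⟨-, -, -, -, -, -, hRE⟩ := F_relations
  have hE : ev (1, 2, 0) = el wE := congrArg el evw_E
  set y := M.ρ (el [4]) x
  have hy : M.act (1, 2, 0) y = y := by
    show M.ρ (ev (1, 2, 0)) (M.ρ (el [4]) x) = _
    rw [hE, ← M.mul, ← hRE, M.mul, ← hE]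
    exact congrArg _ (hx _)
  have hp : ∀ k ∈ allLines, M.proj k y = 0 := by
    intro k hk
    by_cases h : k ∈ redLines
    · have hd : ∀ k ∈ redLines, lv k (1, 2, 0) = 2 := by decide
      have h2 : lv k ((1, 2, 0) + (1, 2, 0)) = 1 := by rw [lv_add, hd k h]; decide
      have hfix : M.act ((1, 2, 0) + (1, 2, 0)) (M.proj k y) = M.proj k y := by
        rw [proj_apply, map_add, M.act_Kl_comm, M.act_S, act_add, hy, hy]
      exact M.fixed_line (M.proj_mem hk y) h2 hfix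
    · exact hred k hk h y
  have e := M.decomp y
  rw [List.sum_eq_zero (fun z hz => by obtain ⟨k, hk, rfl⟩ := List.mem_map.1 hz; exact hp k hk), add_zero] at e
  rw [e]
  exact M.S_mem y

/-- The plane is centralised by the generators. -/
theorem plane_fixed {f f' : V} (hf : f ∈ M.V0) (hf' : f' ∈ M.V0)
    (hall : ∀ x ∈ M.V0, ∃ d < 4, comb [f, f'] d = x)
    (hinj : ∀ a < 4, ∀ b < 4, comb [f, f'] a = comb [f, f'] b → a = b)
    (hred : ∀ k ∈ allLines, k ∉ redLines → ∀ x, M.proj k x = 0) {x : V} (hx : x ∈ M.V0) :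
    M.ρ (el [2]) x = x ∧ M.ρ (el [3]) x = x ∧ M.ρ (el [4]) x = x := by
  obtain ⟨r1, r2, r3, r4, r5, r6, -⟩ := F_relations
  obtain ⟨t, ht, et⟩ := M.plane_rep hf hf' hall hinj (g := el [2]) fun y hy => M.V0_act_word (by decide) hy
  obtain ⟨s, hs, es⟩ := M.plane_rep hf hf' hall hinj (g := el [3]) fun y hy => M.V0_act_word (by decide) hy
  obtain ⟨r, hr, er⟩ := M.plane_rep hf hf' hall hinj (g := el [4]) fun y hy => M.V0_act_R hred hy
  let Rep (g : Q4) (m : List ℕ) : Prop :=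
    m ∈ planeMaps ∧ ∀ d < 4, M.ρ g (comb [f, f'] d) = comb [f, f'] (app m d)
  have hmul : ∀ g h a b, Rep g a → Rep h b → Rep (g * h) (mu a b) := fun g h a b ha hb =>
    ⟨plane_closed _ ha.1 _ hb.1, fun d hd => by
      rw [M.mul, hb.2 d hd, ha.2 _ (plane_range _ hb.1 d hd), app_mu _ (plane_lt _ hb.1)]⟩
  have hone : ∀ m, Rep 1 m → m = [1, 2] := fun m hm =>
    pair_id _ hm.1 _ (by decide) fun d hd => by
      have h12 : ∀ d < 4, app [1, 2] d = d := by decide
      rw [h12 d hd]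
      exact (hinj _ hd _ (plane_range _ hm.1 d hd) (by rw [← hm.2 d hd, M.one])).symm
  have heq : ∀ g a b, Rep g a → Rep g b → a = b := fun g a b ha hb =>
    pair_id _ ha.1 _ hb.1 fun d hd =>
      hinj _ (plane_range _ ha.1 d hd) _ (plane_range _ hb.1 d hd) (by rw [← ha.2 d hd, ← hb.2 d hd])
  have T : Rep (el [2]) t := ⟨ht, et⟩
  have S' : Rep (el [3]) s := ⟨hs, es⟩
  have R : Rep (el [4]) r := ⟨hr, er⟩
  have E1 : Rep (el [1]) [1, 2] := ⟨by decide, fun d hd => by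
    have h12 : ∀ d < 4, app [1, 2] d = d := by decide
    rw [h12 d hd, ← ev_unit1]
    have hmem : comb [f, f'] d ∈ M.V0 := by
      rw [comb_two]
      refine add_mem ?_ ?_
      · cases d % 2 == 1
        exacts [zero_mem _, hf]
      · cases d / 2 % 2 == 1
        exacts [zero_mem _, hf']
    exact hmem _⟩
  have h12 : ∀ u ∈ planeMaps, mu u [1, 2] = u := by decide
  have RS : Rep (el [4, 3, 1]) (mu r s) := by
    have h := hmul _ _ _ _ R (hmul _ _ _ _ S' E1)
    rw [h12 s hs, ← el_append, ← el_append] at h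
    exact h
  have hfin := plane_trivial t ht s hs r hr
    (hone _ (r1 ▸ hmul _ _ _ _ T T))
    (hone _ (by
      have h := hmul _ _ _ _ S' (hmul _ _ _ _ S' (hmul _ _ _ _ S' S'))
      rw [← el_append, ← el_append, ← el_append] at h
      exact r2 ▸ h))
    (hone _ (by
      have hst := hmul _ _ _ _ S' T
      have h := hmul _ _ _ _ hst (hmul _ _ _ _ hst hst)
      rw [← el_append [3] [2], ← el_append, ← el_append] at h
      exact r3 ▸ h))
    (hone _ (by
      have h := hmul _ _ _ _ R (hmul _ _ _ _ R R)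
      rw [← el_append, ← el_append] at h
      exact r4 ▸ h))
    (heq _ _ _ (hmul _ _ _ _ R T) (by rw [r5]; exact hmul _ _ _ _ T R))
    (hone _ (by
      have h := hmul _ _ _ _ RS (hmul _ _ _ _ RS (hmul _ _ _ _ RS (hmul _ _ _ _ RS RS)))
      rw [← el_append, ← el_append, ← el_append, ← el_append] at h
      exact r6 ▸ h))
  obtain ⟨rfl, rfl, rfl⟩ := hfin
  obtain ⟨d, hd, rfl⟩ := hall x hx
  have hd' : ∀ d < 4, app [1, 2] d = d := by decide
  refine ⟨?_, ?_, ?_⟩
  · rw [et d hd, hd' d hd]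
  · rw [es d hd, hd' d hd]
  · rw [er d hd, hd' d hd]

end Mod

end Cfsg.Agent.Fus.U62Red
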